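import Mathlib
import Cfsg.Agent.Lib.DefectOne.Jordan

/-!
# Linear algebra for the cyclic defect argument: traces from `⟨x⟩`

`V` is a vector space with commuting `w`, `x`, `η`; `(x - 1) = w ^ s η` on the image of an idempotent `E₀`;
a trace `∑ xⁱ β x⁻ⁱ` maps `ker (x - 1) ^ j` into the image of `(x - 1) ^ (p - j)`.
-/

set_option autoImplicit false
set_option linter.unusedSectionVars false

namespace Cfsg.Agent.Lib.Dade

open Module
open Cfsg.Agent.Lib.DefectOne (geom_eq_pow)

section TrX

variable {K W : Type*} [Field K] [AddCommGroup W] [Module K W]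

/-- The trace over the powers of `x`. -/
noncomputable def trX (x xi : End K W) (p : ℕ) (β : End K W) : End K W :=
  ∑ i ∈ Finset.range p, x ^ i * β * xi ^ i

/-- `α` is a trace from `⟨x⟩`. -/
def IsTrX (x xi : End K W) (p : ℕ) (α : End K W) : Prop := ∃ β, α = trX x xi p β

/-- Conjugation by `x`. -/
noncomputable def conjL (x xi : End K W) : End K (End K W) :=
  (LinearMap.mulLeft K x).comp (LinearMap.mulRight K xi)

lemma conjL_apply (x xi β : End K W) : conjL x xi β = x * β * xi := by
  simp [conjL, mul_assoc]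

lemma conjL_pow_apply (x xi β : End K W) (hc : xi * x = x * xi) (n : ℕ) :
    (conjL x xi ^ n) β = x ^ n * β * xi ^ n := by
  induction n with
  | zero => simp
  | succ n ih =>
    rw [pow_succ', Module.End.mul_apply, ih, conjL_apply, pow_succ' x, pow_succ xi]
    simp only [mul_assoc]

variable {p : ℕ} [hp : Fact p.Prime] [CharP K p] [FiniteDimensional K W]

lemma trX_eq_pow (x xi β : End K W) (hc : xi * x = x * xi) :
    trX x xi p β = ((conjL x xi - 1) ^ (p - 1)) β := by
  rw [← geom_eq_pow (k := K) (M := End K W) (p := p)]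
  rw [LinearMap.sum_apply]
  unfold trX
  refine Finset.sum_congr rfl fun i _ => ?_
  rw [conjL_pow_apply x xi β hc]

lemma mem_range_pow_step {v : End K W} {a b : ℕ} (h : a ≤ b) {y : W}
    (hy : y ∈ LinearMap.range (v ^ b)) : y ∈ LinearMap.range (v ^ a) := by
  obtain ⟨z, rfl⟩ := hy
  refine ⟨(v ^ (b - a)) z, ?_⟩
  rw [← Module.End.mul_apply, ← pow_add]
  congr 2
  omega

/-- The criterion: iterated commutators map the kernel of `v ^ j` into the image of `v ^ (n + 1 - j)`. -/
lemma comm_pow_apply_mem {x xi : End K W} (hxi : x * xi = 1) (hxi' : xi * x = 1) (γ : End K W) (n : ℕ) :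
    ∀ (j : ℕ) (z : W), ((x - 1) ^ j) z = 0 →
      ((conjL x xi - 1) ^ n) γ z ∈ LinearMap.range ((x - 1) ^ (n + 1 - j)) := by
  have hcv : ∀ j : ℕ, xi * (x - 1) ^ j = (x - 1) ^ j * xi := by
    intro j
    have : Commute xi (x - 1) := by
      show xi * (x - 1) = (x - 1) * xi
      rw [mul_sub, sub_mul, hxi', hxi, mul_one, one_mul]
    exact (this.pow_right j).eq
  induction n with
  | zero =>
    intro j z hz
    rcases Nat.eq_zero_or_pos j with rfl | hj
    · have : z = 0 := by simpa using hz
      subst this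
      simp
    · have : 0 + 1 - j = 0 := by omega
      rw [this]
      simp
  | succ n ih =>
    intro j z hz
    rcases Nat.eq_zero_or_pos j with rfl | hj
    · have : z = 0 := by simpa using hz
      subst this
      simp
    obtain ⟨j', rfl⟩ : ∃ j', j = j' + 1 := ⟨j - 1, by omega⟩
    set γn := ((conjL x xi - 1) ^ n) γ with hγn
    have hstep : ((conjL x xi - 1) ^ (n + 1)) γ = x * γn * xi - γn := by
      rw [pow_succ', Module.End.mul_apply]
      simp only [LinearMap.sub_apply, Module.End.one_apply, conjL_apply]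
      rfl
    rw [hstep]
    set z' := xi z with hz'
    have hz'z : x z' = z := by
      rw [hz', ← Module.End.mul_apply, hxi]
      rfl
    have hv : ((x - 1) ^ (j' + 1)) z' = 0 := by
      have h1 := LinearMap.congr_fun (hcv (j' + 1)) z
      simp only [Module.End.mul_apply] at h1
      rw [hz', ← h1, hz, map_zero]
    have hval : (x * γn * xi - γn) z = (x - 1) (γn z') - γn ((x - 1) z') := by
      simp only [LinearMap.sub_apply, Module.End.mul_apply, Module.End.one_apply, map_sub]
      rw [← hz', hz'z]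
      abel
    rw [hval]
    refine Submodule.sub_mem _ ?_ ?_
    · have h1 := ih (j' + 1) z' hv
      obtain ⟨y, hy⟩ := h1
      by_cases hjn : j' ≤ n
      · refine ⟨y, ?_⟩
        rw [← hy, ← Module.End.mul_apply, ← pow_succ']
        congr 2
        omega
      · have : n + 1 + 1 - (j' + 1) = 0 := by omega
        rw [this]
        simp
    · have h2 : ((x - 1) ^ j') ((x - 1) z') = 0 := by
        rw [← Module.End.mul_apply, ← pow_succ]
        exact hv
      have h3 := ih j' _ h2
      have : n + 1 + 1 - (j' + 1) = n + 1 - j' := by omega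
      rw [this]
      exact h3

/-- The criterion for traces. -/
lemma trX_apply_mem {x xi : End K W} (hxi : x * xi = 1) (hxi' : xi * x = 1) (β : End K W) {j : ℕ} {z : W}
    (hz : ((x - 1) ^ j) z = 0) : trX x xi p β z ∈ LinearMap.range ((x - 1) ^ (p - j)) := by
  rw [trX_eq_pow x xi β (by rw [hxi, hxi'])]
  have := comm_pow_apply_mem hxi hxi' β (p - 1) j z hz
  have h1 : p - 1 + 1 = p := Nat.sub_add_cancel hp.out.one_le
  rwa [h1] at this

omit hp [CharP K p] [FiniteDimensional K W] in
lemma mul_trX_mul {x xi a b : End K W} (ha : a * x = x * a) (ha' : a * xi = xi * a)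
    (hb : b * x = x * b) (hb' : b * xi = xi * b) (q : ℕ) (β : End K W) :
    a * trX x xi q β * b = trX x xi q (a * β * b) := by
  unfold trX
  rw [Finset.mul_sum, Finset.sum_mul]
  refine Finset.sum_congr rfl fun i _ => ?_
  have h1 : a * x ^ i = x ^ i * a := (Commute.pow_right (show Commute a x from ha) i).eq
  have h2 : xi ^ i * b = b * xi ^ i := (Commute.pow_right (show Commute b xi from hb') i).eq.symm
  calc a * (x ^ i * β * xi ^ i) * b = (a * x ^ i) * β * (xi ^ i * b) := by simp only [mul_assoc]
    _ = _ := by rw [h1, h2]; simp only [mul_assoc]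

omit hp [CharP K p] [FiniteDimensional K W] in
lemma IsTrX.mul_mul {x xi a b α : End K W} {q : ℕ} (h : IsTrX x xi q α) (ha : a * x = x * a) (ha' : a * xi = xi * a)
    (hb : b * x = x * b) (hb' : b * xi = xi * b) : IsTrX x xi q (a * α * b) := by
  obtain ⟨β, rfl⟩ := h
  exact ⟨_, mul_trX_mul ha ha' hb hb' q β⟩

end TrX

section Setup

variable {K W : Type*} [Field K] [AddCommGroup W] [Module K W]

/-- The data of the linear algebra argument. -/
structure Setup (w x xi η t E₀ : End K W) (τ : K) (m p s q : ℕ) : Prop where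
  hxi : x * xi = 1
  hxi' : xi * x = 1
  hE₀ : E₀ * E₀ = E₀
  hE₀w : E₀ * w = w * E₀
  hE₀x : E₀ * x = x * E₀
  hE₀η : E₀ * η = η * E₀
  hE₀t : E₀ * t = t * E₀
  hwx : w * x = x * w
  hηP : ∃ P : Polynomial K, η = Polynomial.aeval w P
  hwη : w * η = η * w
  hηx : η * x = x * η
  hrel : (x - 1) * E₀ = w ^ s * η * E₀
  hsp : s * p = q
  hq : 0 < q
  hp : 1 < p
  hw : w ^ q * E₀ = 0
  ht : t ^ m = 1
  hm : (m : K) ≠ 0
  htw : t * w = τ • (w * t)
  hτ : τ ^ m = 1

/-- An idempotent below `E₀` commuting with everything. -/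
structure Below (w η t E₀ π : End K W) : Prop where
  idem : π * π = π
  le : E₀ * π = π
  le' : π * E₀ = π
  cw : π * w = w * π
  cη : π * η = η * π
  ct : π * t = t * π

variable {w x xi η t E₀ : End K W} {τ : K} {m p s q : ℕ}

namespace Setup

variable (S : Setup w x xi η t E₀ τ m p s q)
include S

lemma comm_inv {a : End K W} (h : a * x = x * a) : a * xi = xi * a := by
  calc a * xi = (xi * x) * a * xi := by rw [S.hxi', one_mul]
    _ = xi * (x * a) * xi := by simp only [mul_assoc]
    _ = xi * (a * x) * xi := by rw [h]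
    _ = xi * a * (x * xi) := by simp only [mul_assoc]
    _ = xi * a := by rw [S.hxi, mul_one]

lemma below_x {π : End K W} (h : Below w η t E₀ π) : π * x = x * π := by
  have h1 : x * E₀ = E₀ + w ^ s * η * E₀ := by
    rw [← S.hrel, sub_mul, one_mul]
    abel
  have hws : π * w ^ s = w ^ s * π := (Commute.pow_right (show Commute π w from h.cw) s).eq
  calc π * x = (π * E₀) * x := by rw [h.le']
    _ = π * (x * E₀) := by rw [mul_assoc, S.hE₀x]
    _ = π * (E₀ + w ^ s * η * E₀) := by rw [h1]
    _ = (E₀ + w ^ s * η * E₀) * π := by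
      have e1 : π * (w ^ s * η * E₀) = w ^ s * η * π := by
        calc π * (w ^ s * η * E₀) = (π * w ^ s) * η * E₀ := by simp only [mul_assoc]
          _ = w ^ s * (π * η) * E₀ := by rw [hws]; simp only [mul_assoc]
          _ = w ^ s * η * (π * E₀) := by rw [h.cη]; simp only [mul_assoc]
          _ = _ := by rw [h.le']
      have e2 : (w ^ s * η * E₀) * π = w ^ s * η * π := by
        rw [mul_assoc, h.le]
      rw [mul_add, add_mul, h.le', h.le, e1, e2]
    _ = (x * E₀) * π := by rw [h1]
    _ = x * π := by rw [mul_assoc, h.le]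

/-- `(x - 1) ^ n E₀ = w ^ (s n) η ^ n E₀`. -/
lemma pow_rel (n : ℕ) : (x - 1) ^ n * E₀ = w ^ (s * n) * η ^ n * E₀ := by
  induction n with
  | zero => simp [S.hE₀]
  | succ n ih =>
    have hc1 : E₀ * (x - 1) = (x - 1) * E₀ := by
      rw [mul_sub, sub_mul, S.hE₀x, mul_one, one_mul]
    have hc2 : (x - 1) * w ^ (s * n) = w ^ (s * n) * (x - 1) := by
      have : Commute (x - 1) w := by
        show (x - 1) * w = w * (x - 1)
        rw [mul_sub, sub_mul, S.hwx, mul_one, one_mul]
      exact (this.pow_right _).eq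
    have hc3 : (x - 1) * η ^ n = η ^ n * (x - 1) := by
      have : Commute (x - 1) η := by
        show (x - 1) * η = η * (x - 1)
        rw [mul_sub, sub_mul, S.hηx, mul_one, one_mul]
      exact (this.pow_right _).eq
    have hc4 : η ^ n * w ^ s = w ^ s * η ^ n :=
      ((Commute.pow_pow (show Commute w η from S.hwη) s n).eq).symm
    calc (x - 1) ^ (n + 1) * E₀ = (x - 1) * ((x - 1) ^ n * E₀) := by rw [pow_succ', mul_assoc]
      _ = w ^ (s * n) * η ^ n * ((x - 1) * E₀) := by
        rw [ih, ← mul_assoc, ← mul_assoc, hc2, mul_assoc (w ^ (s * n)), hc3]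
        simp only [mul_assoc]
      _ = w ^ (s * (n + 1)) * η ^ (n + 1) * E₀ := by
        rw [S.hrel]
        have e1 : s * (n + 1) = s * n + s := by ring
        rw [e1, pow_add w, pow_succ η]
        calc w ^ (s * n) * η ^ n * (w ^ s * η * E₀) = w ^ (s * n) * (η ^ n * w ^ s) * η * E₀ := by
              simp only [mul_assoc]
          _ = _ := by rw [hc4]; simp only [mul_assoc]

variable [CharP K p] [hpf : Fact p.Prime] [FiniteDimensional K W]

/-- The main consequence of the criterion on the image of `π`. -/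
lemma exists_eq_of_trX {π : End K W} (hπ : Below w η t E₀ π) (β : End K W) {z : W} (hz : E₀ z = z) {j : ℕ}
    (hj : (w ^ (s * j)) z = 0) :
    ∃ u, π u = u ∧ π (trX x xi p β z) = (w ^ (s * (p - j))) u := by
  have h1 : ((x - 1) ^ j) z = 0 := by
    have h2 := LinearMap.congr_fun (S.pow_rel j) z
    simp only [Module.End.mul_apply, hz] at h2
    rw [h2]
    have h3 : (w ^ (s * j)) ((η ^ j) z) = (η ^ j) ((w ^ (s * j)) z) := by
      have : w ^ (s * j) * η ^ j = η ^ j * w ^ (s * j) :=
        (Commute.pow_pow (show Commute w η from S.hwη) _ _).eq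
      exact LinearMap.congr_fun this z
    rw [h3, hj, map_zero]
  obtain ⟨y, hy⟩ := trX_apply_mem (p := p) S.hxi S.hxi' β h1
  refine ⟨π ((η ^ (p - j)) y), ?_, ?_⟩
  · rw [← Module.End.mul_apply, hπ.idem]
  · rw [← hy]
    have hc1 : π * (x - 1) ^ (p - j) = (x - 1) ^ (p - j) * π := by
      have : Commute π (x - 1) := by
        show π * (x - 1) = (x - 1) * π
        rw [mul_sub, sub_mul, S.below_x hπ, mul_one, one_mul]
      exact (this.pow_right _).eq
    have hc2 : π * w ^ (s * (p - j)) = w ^ (s * (p - j)) * π :=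
      (Commute.pow_right (show Commute π w from hπ.cw) _).eq
    have hc3 : π * η ^ (p - j) = η ^ (p - j) * π :=
      (Commute.pow_right (show Commute π η from hπ.cη) _).eq
    have h4 : π * (x - 1) ^ (p - j) = w ^ (s * (p - j)) * π * η ^ (p - j) := by
      calc π * (x - 1) ^ (p - j) = π * E₀ * (x - 1) ^ (p - j) := by rw [hπ.le']
        _ = π * ((x - 1) ^ (p - j) * E₀) := by
          have : Commute E₀ (x - 1) := by
            show E₀ * (x - 1) = (x - 1) * E₀
            rw [mul_sub, sub_mul, S.hE₀x, mul_one, one_mul]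
          rw [mul_assoc, (this.pow_right (p - j)).eq]
        _ = π * (w ^ (s * (p - j)) * η ^ (p - j) * E₀) := by rw [S.pow_rel]
        _ = w ^ (s * (p - j)) * π * η ^ (p - j) * E₀ := by
          rw [← hc2]
          simp only [mul_assoc]
        _ = w ^ (s * (p - j)) * π * η ^ (p - j) := by
          have hc5 : η ^ (p - j) * E₀ = E₀ * η ^ (p - j) :=
            (Commute.pow_left (show Commute η E₀ from S.hE₀η.symm) _).eq
          calc w ^ (s * (p - j)) * π * η ^ (p - j) * E₀ = w ^ (s * (p - j)) * π * (η ^ (p - j) * E₀) := by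
                simp only [mul_assoc]
            _ = w ^ (s * (p - j)) * (π * E₀) * η ^ (p - j) := by
                rw [hc5]; simp only [mul_assoc]
            _ = _ := by rw [hπ.le']
    have := LinearMap.congr_fun h4 y
    simpa only [Module.End.mul_apply] using this

omit [CharP K p] [hpf : Fact p.Prime] [FiniteDimensional K W] in
lemma below_pow_apply {π : End K W} (hπ : Below w η t E₀ π) (n : ℕ) (y : W) :
    π ((w ^ n) y) = (w ^ n) (π y) := by
  have : π * w ^ n = w ^ n * π := (Commute.pow_right (show Commute π w from hπ.cw) n).eq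
  exact LinearMap.congr_fun this y

/-- **Lemma**: an idempotent with `π = Tr(β)` and with nilpotency length less than `q` is zero. -/
lemma eq_zero_of_isTrX {π : End K W} (hπ : Below w η t E₀ π) (htr : IsTrX x xi p π) :
    ∀ ℓ : ℕ, ℓ < q → w ^ ℓ * π = 0 → π = 0 := by
  obtain ⟨β, hβ⟩ := htr
  intro ℓ
  induction ℓ using Nat.strong_induction_on with
  | _ ℓ ih =>
    intro hℓ h0
    rcases Nat.eq_zero_or_pos ℓ with rfl | hpos
    · simpa using h0
    have hs : 0 < s := by
      rcases Nat.eq_zero_or_pos s with h | h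
      · have := S.hsp
        rw [h, zero_mul] at this
        have := S.hq
        omega
      · exact h
    have hp1 := S.hp
    set c₀ := ℓ - s * (p - 1) with hc₀
    have hsp' : s * (p - 1) + s = q := by
      rw [← S.hsp]
      obtain ⟨p', rfl⟩ : ∃ p', p = p' + 1 := ⟨p - 1, by omega⟩
      simp only [Nat.add_sub_cancel]
      ring
    have hc₀s : c₀ < s := by omega
    have hs1 : 1 ≤ s * (p - 1) := Nat.mul_pos hs (by omega)
    have hc₀ℓ : c₀ < ℓ := by omega
    -- `w ^ c₀ U ⊆ w ^ (c₀ + 1) U`
    have hstep : ∀ y, ∃ u, π u = u ∧ (w ^ c₀) (π y) = (w ^ (c₀ + 1)) u := by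
      intro y
      have hE : E₀ ((w ^ c₀) (π y)) = (w ^ c₀) (π y) := by
        have h1 : E₀ * w ^ c₀ = w ^ c₀ * E₀ := (Commute.pow_right (show Commute E₀ w from S.hE₀w) _).eq
        have h2 := LinearMap.congr_fun h1 (π y)
        simp only [Module.End.mul_apply] at h2
        rw [h2, ← Module.End.mul_apply E₀ π, hπ.le]
      have hj : (w ^ (s * (p - 1))) ((w ^ c₀) (π y)) = 0 := by
        rw [← Module.End.mul_apply, ← pow_add]
        have h1 : s * (p - 1) + c₀ = (s * (p - 1) + c₀ - ℓ) + ℓ := by omega
        rw [h1, pow_add, Module.End.mul_apply, ← Module.End.mul_apply (w ^ ℓ), h0]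
        simp
      obtain ⟨u, hu, hu'⟩ := S.exists_eq_of_trX hπ β hE hj
      have h1 : π (trX x xi p β ((w ^ c₀) (π y))) = (w ^ c₀) (π y) := by
        rw [← hβ, below_pow_apply S hπ, ← Module.End.mul_apply π π, hπ.idem,
          ← below_pow_apply S hπ, ← Module.End.mul_apply π π, hπ.idem]
      have h2 : p - (p - 1) = 1 := by omega
      rw [h1, h2, mul_one] at hu'
      refine ⟨(w ^ (s - (c₀ + 1))) u, ?_, ?_⟩
      · rw [below_pow_apply S hπ, hu]
      · rw [hu', ← Module.End.mul_apply, ← pow_add]
        congr 2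
        omega
    have hiter : ∀ n y, ∃ u, π u = u ∧ (w ^ c₀) (π y) = (w ^ (c₀ + n)) u := by
      intro n
      induction n with
      | zero =>
        intro y
        exact ⟨π y, by rw [← Module.End.mul_apply, hπ.idem], rfl⟩
      | succ n ih' =>
        intro y
        obtain ⟨u, hu, hu'⟩ := ih' y
        obtain ⟨u₂, hu₂, hu₂'⟩ := hstep u
        refine ⟨u₂, hu₂, ?_⟩
        rw [hu']
        have h3 : (w ^ (c₀ + n)) u = (w ^ n) ((w ^ c₀) (π u)) := by
          rw [hu, ← Module.End.mul_apply, ← pow_add, add_comm]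
        rw [h3, hu₂', ← Module.End.mul_apply, ← pow_add]
        congr 2
        omega
    have hc0 : w ^ c₀ * π = 0 := by
      ext y
      obtain ⟨u, hu, hu'⟩ := hiter ℓ y
      simp only [Module.End.mul_apply, LinearMap.zero_apply]
      rw [hu', ← hu]
      have h5 : (w ^ (c₀ + ℓ)) (π u) = (w ^ c₀) ((w ^ ℓ * π) u) := by
        rw [pow_add]
        rfl
      rw [h5, h0]
      simp
    exact ih c₀ hc₀ℓ (by omega) hc0

/-- The bound on the length of a non-free cyclic summand. -/
lemma length_bound {F : End K W} (hF : Below w η t E₀ F) {c L : ℕ} (htr : IsTrX x xi p (w ^ c * F))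
    (hcp : c < p) (hs : s = 1 ∨ p ≤ s) {g : W} (hg : F g = g) (hL : 1 ≤ L) (h1 : (w ^ (L - 1)) g ≠ 0)
    (h0 : w ^ L * F = 0) : L ≤ c ∨ q ≤ L + c := by
  by_contra hcon
  push Not at hcon
  obtain ⟨hcL, hLq⟩ := hcon
  obtain ⟨β, hβ⟩ := htr
  have hU : ∀ u, F u = u → (w ^ L) u = 0 := by
    intro u hu
    rw [← hu, ← Module.End.mul_apply, h0]
    rfl
  have hE : ∀ z, F z = z → E₀ z = z := by
    intro z hz
    rw [← hz, ← Module.End.mul_apply, hF.le]
  -- the basic relation
  have hbasic : ∀ z j, F z = z → (w ^ (s * j)) z = 0 → ∃ u, F u = u ∧ (w ^ c) z = (w ^ (s * (p - j))) u := by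
    intro z j hz hj
    obtain ⟨u, hu, hu'⟩ := S.exists_eq_of_trX hF β (hE z hz) hj
    refine ⟨u, hu, ?_⟩
    rw [← hu', ← hβ]
    simp only [Module.End.mul_apply]
    rw [hz, below_pow_apply S hF, hz]
  have hgL : (w ^ L) g = 0 := hU g hg
  have hs0 : 0 < s := by
    rcases Nat.eq_zero_or_pos s with h | h
    · have := S.hsp
      rw [h, zero_mul] at this
      have := S.hq
      omega
    · exact h
  have hFw : ∀ n u, F u = u → F ((w ^ n) u) = (w ^ n) u := by
    intro n u hu
    rw [below_pow_apply S hF, hu]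
  rcases hs with rfl | hps
  · -- `s = 1`
    have hq' : p = q := by simpa using S.hsp
    subst hq'
    have hjL : c + 1 ≤ L := hcL
    obtain ⟨u, hu, hu'⟩ := hbasic ((w ^ (L - (c + 1))) g) (c + 1) (hFw _ _ hg) (by
      rw [one_mul, ← Module.End.mul_apply, ← pow_add]
      have : c + 1 + (L - (c + 1)) = L := by omega
      rw [this]
      exact hgL)
    apply h1
    have h2 : (w ^ (L - 1)) g = (w ^ c) ((w ^ (L - (c + 1))) g) := by
      rw [← Module.End.mul_apply, ← pow_add]
      congr 2
      omega
    rw [h2, hu', one_mul]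
    have h3 : p - (c + 1) = (p - (c + 1) - L) + L := by omega
    rw [h3, pow_add, Module.End.mul_apply, hU u hu, map_zero]
  · -- `p ≤ s`
    have hp1 := S.hp
    have hsp' : s * (p - 1) + s = q := by
      rw [← S.hsp]
      obtain ⟨p', rfl⟩ : ∃ p', p = p' + 1 := ⟨p - 1, by omega⟩
      simp only [Nat.add_sub_cancel]
      ring
    have hsle : s ≤ s * (p - 1) := Nat.le_mul_of_pos_right s (by omega)
    by_cases hsL : s ≤ L
    · obtain ⟨u, hu, hu'⟩ := hbasic ((w ^ (L - s)) g) 1 (hFw _ _ hg) (by
        rw [mul_one, ← Module.End.mul_apply, ← pow_add]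
        have : s + (L - s) = L := by omega
        rw [this]
        exact hgL)
      apply h1
      have h2 : (w ^ (L - 1)) g = (w ^ (s - 1 - c)) ((w ^ c) ((w ^ (L - s)) g)) := by
        rw [← Module.End.mul_apply (w ^ c), ← pow_add, ← Module.End.mul_apply, ← pow_add]
        congr 2
        omega
      rw [h2, hu', ← Module.End.mul_apply, ← pow_add]
      have h3 : s - 1 - c + s * (p - 1) = (s - 1 - c + s * (p - 1) - L) + L := by omega
      rw [h3, pow_add, Module.End.mul_apply, hU u hu, map_zero]
    · obtain ⟨u, hu, hu'⟩ := hbasic g 1 hg (by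
        rw [mul_one]
        have : s = (s - L) + L := by omega
        rw [this, pow_add, Module.End.mul_apply, hgL, map_zero])
      apply h1
      have h2 : (w ^ (L - 1)) g = (w ^ (L - 1 - c)) ((w ^ c) g) := by
        rw [← Module.End.mul_apply, ← pow_add]
        congr 2
        omega
      rw [h2, hu', ← Module.End.mul_apply, ← pow_add]
      have h3 : L - 1 - c + s * (p - 1) = (L - 1 - c + s * (p - 1) - L) + L := by omega
      rw [h3, pow_add, Module.End.mul_apply, hU u hu, map_zero]

end Setup

end Setup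

end Cfsg.Agent.Lib.Dade
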