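import Mathlib
import Cfsg.Agent.Lib.Dade.WA

/-!
# Peeling a cyclic summand, and the Jordan type under a dichotomy
-/

set_option autoImplicit false
set_option linter.unusedSectionVars false

namespace Cfsg.Agent.Lib.Dade

open Module
open Cfsg.Agent.Lib.DefectOne (exists_coord)

lemma sum_shift {A : Type*} [AddCommGroup A] (f : ℕ → A) (m : ℕ) (h : f m = f 0) :
    ∑ i ∈ Finset.range m, f (i + 1) = ∑ i ∈ Finset.range m, f i := by
  have h1 := Finset.sum_range_succ' f m
  have h2 := Finset.sum_range_succ f m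
  rw [h1, h] at h2
  exact add_right_cancel h2

section Peel

variable {K W : Type*} [Field K] [AddCommGroup W] [Module K W] [FiniteDimensional K W]
variable {w t : End K W} {τ : K} {m : ℕ}

lemma t_pow_comm (htw : t * w = τ • (w * t)) (n : ℕ) : t * w ^ n = τ ^ n • (w ^ n * t) := by
  induction n with
  | zero => simp
  | succ n ih =>
    rw [pow_succ, ← mul_assoc, ih, smul_mul_assoc, mul_assoc, htw, mul_smul_comm, smul_smul, pow_succ τ]
    simp only [mul_assoc]

/-- The averaging operator onto the `λ`-eigenspace. -/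
noncomputable def avgOp (t : End K W) (m : ℕ) (l : K) : End K W :=
  (m : K)⁻¹ • ∑ i ∈ Finset.range m, (l⁻¹) ^ i • t ^ i

lemma t_avgOp (ht : t ^ m = 1) {l : K} (hl : l ^ m = 1) (hm : (m : K) ≠ 0) (y : W) :
    t (avgOp t m l y) = l • avgOp t m l y := by
  have hm0 : m ≠ 0 := fun h => hm (by simp [h])
  have hl0 : l ≠ 0 := by
    intro h
    rw [h, zero_pow hm0] at hl
    exact zero_ne_one hl
  have hshift := sum_shift (fun i => (l⁻¹) ^ i • (t ^ i) y) m (by
    simp only [inv_pow, hl, ht, pow_zero]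
    simp)
  unfold avgOp
  simp only [LinearMap.smul_apply, LinearMap.sum_apply, map_smul, map_sum]
  rw [smul_comm l]
  congr 1
  rw [← hshift, Finset.smul_sum]
  refine Finset.sum_congr rfl fun i _ => ?_
  rw [pow_succ' (l⁻¹), smul_smul, ← mul_assoc, mul_inv_cancel₀ hl0, one_mul, pow_succ' t, Module.End.mul_apply]

end Peel

section Peel2

variable {K W : Type*} [Field K] [AddCommGroup W] [Module K W] [FiniteDimensional K W] [IsAlgClosed K]
variable {w η t E : End K W} {τ : K} {m : ℕ}

/-- **Peeling a cyclic summand.** -/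
theorem exists_peel (ht : t ^ m = 1) (hm : (m : K) ≠ 0) (htw : t * w = τ • (w * t)) (hτ : τ ^ m = 1)
    (hEE : E * E = E) (hEw : E * w = w * E) (hEt : E * t = t * E) {L : ℕ} (hL : 1 ≤ L)
    (h1 : w ^ (L - 1) * E ≠ 0) (h0 : w ^ L * E = 0) :
    ∃ (F : End K W) (g : W), F * F = F ∧ E * F = F ∧ F * E = F ∧ F * w = w * F ∧ F * t = t * F ∧
      w ^ L * F = 0 ∧ F g = g ∧ (w ^ (L - 1)) g ≠ 0 ∧
      ∀ d, Module.finrank K (LinearMap.range (w ^ d * F)) = L - d := by
  classical
  have hm0 : m ≠ 0 := fun h => hm (by simp [h])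
  have hτ0 : τ ≠ 0 := by
    intro h
    rw [h, zero_pow hm0] at hτ
    exact zero_ne_one hτ
  have hpw : ∀ (a b : ℕ) (y : W), (w ^ a) ((w ^ b) y) = (w ^ (a + b)) y := fun a b y => by
    rw [pow_add]
    rfl
  have hEwn : ∀ n : ℕ, E * w ^ n = w ^ n * E := fun n =>
    (Commute.pow_right (show Commute E w from hEw) n).eq
  have hEwa : ∀ n (y : W), E ((w ^ n) y) = (w ^ n) (E y) := fun n y => LinearMap.congr_fun (hEwn n) y
  have hEta : ∀ y, E (t y) = t (E y) := fun y => LinearMap.congr_fun hEt y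
  have htwn : ∀ n (y : W), t ((w ^ n) y) = τ ^ n • (w ^ n) (t y) := fun n y => by
    have := LinearMap.congr_fun (t_pow_comm htw n) y
    simpa using this
  have hEE' : ∀ y, E (E y) = E y := fun y => by rw [← Module.End.mul_apply, hEE]
  -- an eigenvector in `w ^ (L - 1) E W`
  set U : Submodule K W := LinearMap.range (w ^ (L - 1) * E) with hU
  have hUt : ∀ y ∈ U, t y ∈ U := by
    rintro _ ⟨z, rfl⟩
    refine ⟨τ ^ (L - 1) • t z, ?_⟩
    simp only [Module.End.mul_apply, map_smul]
    rw [htwn, hEta]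
  haveI hUn : Nontrivial U := by
    obtain ⟨z, hz⟩ : ∃ z, (w ^ (L - 1) * E) z ≠ 0 := by
      by_contra hcon
      push Not at hcon
      exact h1 (LinearMap.ext hcon)
    exact Submodule.nontrivial_iff_ne_bot.2 (fun h => hz (by
      have : (w ^ (L - 1) * E) z ∈ U := ⟨z, rfl⟩
      rw [h] at this
      simpa using this))
  obtain ⟨μ, hμ⟩ := Module.End.exists_eigenvalue (t.restrict hUt)
  obtain ⟨⟨u, hu⟩, hv⟩ := hμ.exists_hasEigenvector
  have htu : t u = μ • u := by
    have := hv.apply_eq_smul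
    exact congrArg Subtype.val this
  have hu0 : u ≠ 0 := fun h => hv.2 (Subtype.ext h)
  have htpow : ∀ n (y : W) (c : K), t y = c • y → (t ^ n) y = c ^ n • y := by
    intro n y c hy
    induction n with
    | zero => simp
    | succ n ih => rw [pow_succ', Module.End.mul_apply, ih, map_smul, hy, smul_smul, pow_succ']; ring_nf
  have hμm : μ ^ m = 1 := by
    have h2 := htpow m u μ htu
    rw [ht] at h2
    have h3 : (1 - μ ^ m) • u = 0 := by
      rw [sub_smul, one_smul, ← h2]
      simp
    rcases smul_eq_zero.1 h3 with h | h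
    · exact (sub_eq_zero.1 h).symm
    · exact absurd h hu0
  have hμ0 : μ ≠ 0 := by
    intro h
    rw [h, zero_pow hm0] at hμm
    exact zero_ne_one hμm
  obtain ⟨z₁, hz₁⟩ := hu
  set g₁ := E z₁ with hg₁
  have hEg₁ : E g₁ = g₁ := hEE' z₁
  have hug₁ : (w ^ (L - 1)) g₁ = u := hz₁
  set l : K := μ * (τ ^ (L - 1))⁻¹ with hl
  have hτn : τ ^ (L - 1) ≠ 0 := pow_ne_zero _ hτ0
  have hμl : μ = l * τ ^ (L - 1) := by
    rw [hl, mul_assoc, inv_mul_cancel₀ hτn, mul_one]
  have hlm : l ^ m = 1 := by
    rw [hl, mul_pow, inv_pow, ← pow_mul, mul_comm (L - 1), pow_mul, hτ, one_pow, inv_one, mul_one, hμm]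
  have hl0 : l ≠ 0 := mul_ne_zero hμ0 (inv_ne_zero hτn)
  set g := avgOp t m l g₁ with hg
  have htg : t g = l • g := t_avgOp ht hlm hm g₁
  have hEg : E g = g := by
    have hEtn : ∀ i (y : W), E ((t ^ i) y) = (t ^ i) (E y) := fun i y => by
      have : E * t ^ i = t ^ i * E := (Commute.pow_right (show Commute E t from hEt) i).eq
      exact LinearMap.congr_fun this y
    rw [hg]
    unfold avgOp
    simp only [LinearMap.smul_apply, LinearMap.sum_apply, map_smul, map_sum, hEtn, hEg₁]
  -- `w ^ (L - 1) g = u`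
  have hwti : ∀ i, (w ^ (L - 1)) ((t ^ i) g₁) = l ^ i • u := by
    intro i
    induction i with
    | zero => simpa using hug₁
    | succ i ih =>
      have h2 := htwn (L - 1) ((t ^ i) g₁)
      rw [← Module.End.mul_apply t (t ^ i), ← pow_succ'] at h2
      rw [ih, map_smul, htu, smul_smul] at h2
      have h3 : (w ^ (L - 1)) ((t ^ (i + 1)) g₁) = (τ ^ (L - 1))⁻¹ • ((l ^ i * μ) • u) := by
        rw [h2, smul_smul, inv_mul_cancel₀ hτn, one_smul]
      rw [h3, smul_smul, hμl]
      congr 1
      field_simp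
      ring
  have hmk : ((m : K)⁻¹ * m) = 1 := inv_mul_cancel₀ hm
  have hwg : (w ^ (L - 1)) g = u := by
    rw [hg]
    unfold avgOp
    simp only [LinearMap.smul_apply, LinearMap.sum_apply, map_smul, map_sum, hwti]
    have : ∀ i ∈ Finset.range m, l⁻¹ ^ i • l ^ i • u = u := by
      intro i _
      rw [smul_smul, ← mul_pow, inv_mul_cancel₀ hl0, one_pow, one_smul]
    rw [Finset.sum_congr rfl this, Finset.sum_const, Finset.card_range]
    rw [← Nat.cast_smul_eq_nsmul K, smul_smul, hmk, one_smul]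
  have hg0 : g ≠ 0 := by
    intro h
    rw [h, map_zero] at hwg
    exact hu0 hwg.symm
  have hwL : ∀ n, L ≤ n → (w ^ n) g = 0 := by
    intro n hn
    have h2 : (w ^ n) g = (w ^ (n - L)) ((w ^ L * E) g) := by
      rw [Module.End.mul_apply, hEg, hpw]
      congr 2
      omega
    rw [h2, h0]
    simp
  -- the functional
  have hcoord := exists_coord (k := K) (M := W) (y := w) (E := E) (U := Submodule.span K {g}) (s := L - 1)
    (fun v hv => by
      obtain ⟨c, rfl⟩ := Submodule.mem_span_singleton.1 hv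
      rw [map_smul, hEg])
    (by rw [Nat.sub_add_cancel hL]; exact h0)
    (fun v hv hv0 => by
      obtain ⟨c, rfl⟩ := Submodule.mem_span_singleton.1 hv
      rw [map_smul, hwg] at hv0
      rcases smul_eq_zero.1 hv0 with h | h
      · rw [h, zero_smul]
      · exact absurd h hu0)
  obtain ⟨Λ, -, hΛ1, hΛ0⟩ := hcoord
  obtain ⟨φ, hφ⟩ : ∃ φ : Module.Dual K W, φ g ≠ 0 := by
    by_contra hcon
    push Not at hcon
    exact hg0 ((Module.forall_dual_apply_eq_zero_iff K g).1 hcon)
  let ξ₁ : W →ₗ[K] K := (φ g)⁻¹ • (φ ∘ₗ Λ)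
  have hξ₁u : ξ₁ u = 1 := by
    change (φ g)⁻¹ • φ (Λ u) = 1
    rw [← hwg, hΛ1 g (Submodule.mem_span_singleton_self g), smul_eq_mul, inv_mul_cancel₀ hφ]
  have hξ₁a : ∀ a, a < L - 1 → ξ₁ ((w ^ a) g) = 0 := by
    intro a ha
    change (φ g)⁻¹ • φ (Λ ((w ^ a) g)) = 0
    rw [hΛ0 a ha g (Submodule.mem_span_singleton_self g), map_zero, smul_zero]
  have htw_g : ∀ a, t ((w ^ a) g) = (τ ^ a * l) • (w ^ a) g := by
    intro a
    rw [htwn, htg, map_smul, smul_smul]
  let ξ : W →ₗ[K] K := (m : K)⁻¹ • ∑ i ∈ Finset.range m, (μ⁻¹) ^ i • (ξ₁ ∘ₗ t ^ i)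
  have hξapp : ∀ z, ξ z = (m : K)⁻¹ * ∑ i ∈ Finset.range m, (μ⁻¹) ^ i * ξ₁ ((t ^ i) z) := by
    intro z
    simp [ξ, LinearMap.sum_apply]
  have hξt : ∀ z, ξ (t z) = μ * ξ z := by
    intro z
    rw [hξapp, hξapp]
    have hshift := sum_shift (fun i => (μ⁻¹) ^ i * ξ₁ ((t ^ i) z)) m (by
      simp only [inv_pow, hμm, ht, pow_zero]
      simp)
    rw [mul_left_comm μ, ← hshift]
    congr 1
    rw [Finset.mul_sum]
    refine Finset.sum_congr rfl fun i _ => ?_
    have e : (t ^ (i + 1)) z = (t ^ i) (t z) := by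
      rw [pow_succ]
      rfl
    rw [e, pow_succ (μ⁻¹ : K)]
    field_simp
  have hξg : ∀ n, ξ ((w ^ n) g) = if n = L - 1 then 1 else 0 := by
    intro n
    rcases lt_trichotomy n (L - 1) with hn | hn | hn
    · rw [if_neg hn.ne, hξapp]
      have : ∀ i ∈ Finset.range m, (μ⁻¹) ^ i * ξ₁ ((t ^ i) ((w ^ n) g)) = 0 := by
        intro i _
        rw [htpow i _ _ (htw_g n), map_smul, hξ₁a n hn]
        simp
      rw [Finset.sum_eq_zero this, mul_zero]
    · subst hn
      rw [if_pos rfl, hξapp]
      have : ∀ i ∈ Finset.range m, (μ⁻¹) ^ i * ξ₁ ((t ^ i) ((w ^ (L - 1)) g)) = 1 := by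
        intro i _
        rw [hwg, htpow i _ _ htu, map_smul, hξ₁u, smul_eq_mul, mul_one, ← mul_pow, inv_mul_cancel₀ hμ0, one_pow]
      rw [Finset.sum_congr rfl this, Finset.sum_const, Finset.card_range, nsmul_eq_mul, mul_one, hmk]
    · rw [if_neg hn.ne', hwL n (by omega), map_zero]
  -- the idempotent
  let F : End K W := ∑ i ∈ Finset.range L, (ξ ∘ₗ (w ^ (L - 1 - i) * E)).smulRight ((w ^ i) g)
  have hFapp : ∀ z, F z = ∑ i ∈ Finset.range L, ξ ((w ^ (L - 1 - i)) (E z)) • (w ^ i) g := by
    intro z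
    simp [F, LinearMap.sum_apply]
  have hEwg : ∀ a, E ((w ^ a) g) = (w ^ a) g := fun a => by rw [hEwa, hEg]
  have hFchain : ∀ a, a < L → F ((w ^ a) g) = (w ^ a) g := by
    intro a ha
    rw [hFapp, hEwg, Finset.sum_eq_single a]
    · rw [← Module.End.mul_apply, ← pow_add]
      have : L - 1 - a + a = L - 1 := by omega
      rw [this, hξg, if_pos rfl, one_smul]
    · intro i hi hia
      have hi' := Finset.mem_range.1 hi
      rw [← Module.End.mul_apply, ← pow_add, hξg, if_neg (by omega), zero_smul]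
    · intro h
      exact absurd (Finset.mem_range.2 ha) h
  have hFF : F * F = F := by
    ext z
    rw [Module.End.mul_apply, hFapp z, map_sum]
    refine Finset.sum_congr rfl fun i hi => ?_
    rw [map_smul, hFchain i (Finset.mem_range.1 hi)]
  have hEF : E * F = F := by
    ext z
    rw [Module.End.mul_apply, hFapp z, map_sum]
    refine Finset.sum_congr rfl fun i _ => ?_
    rw [map_smul, hEwg]
  have hFE : F * E = F := by
    ext z
    rw [Module.End.mul_apply, hFapp, hFapp, hEE']
  have hFw : F * w = w * F := by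
    ext z
    rw [Module.End.mul_apply, Module.End.mul_apply, hFapp, hFapp, map_sum]
    obtain ⟨n, rfl⟩ : ∃ n, L = n + 1 := ⟨L - 1, by omega⟩
    rw [Finset.sum_range_succ', Finset.sum_range_succ (fun i => w (ξ ((w ^ (n + 1 - 1 - i)) (E z)) • (w ^ i) g))]
    have e1 : ξ ((w ^ (n + 1 - 1 - 0)) (E (w z))) = 0 := by
      have h2 : (w ^ (n + 1 - 1 - 0)) (E (w z)) = (w ^ (n + 1) * E) z := by
        have h3 : E (w z) = w (E z) := LinearMap.congr_fun hEw z
        simp only [Nat.add_sub_cancel, Nat.sub_zero]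
        rw [h3, ← Module.End.mul_apply, ← pow_succ]
        rfl
      rw [h2, h0]
      simp
    have e2 : w (ξ ((w ^ (n + 1 - 1 - n)) (E z)) • (w ^ n) g) = 0 := by
      have e3 : w ((w ^ n) g) = (w ^ (n + 1)) g := by
        rw [pow_succ', Module.End.mul_apply]
      rw [map_smul, e3, hwL _ le_rfl, smul_zero]
    rw [e1, e2, zero_smul, add_zero, add_zero]
    refine Finset.sum_congr rfl fun i hi => ?_
    have hi' := Finset.mem_range.1 hi
    rw [map_smul, ← Module.End.mul_apply w, ← pow_succ']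
    congr 1
    have h3 : E (w z) = w (E z) := LinearMap.congr_fun hEw z
    rw [h3, ← Module.End.mul_apply, ← pow_succ]
    congr 3
    omega
  have hFt : F * t = t * F := by
    ext z
    rw [Module.End.mul_apply, Module.End.mul_apply, hFapp, hFapp, map_sum]
    refine Finset.sum_congr rfl fun i hi => ?_
    have hi' := Finset.mem_range.1 hi
    rw [map_smul, htw_g, smul_smul, hEta]
    congr 1
    set n := L - 1 - i with hn
    have h2 := hξt ((w ^ n) (E z))
    rw [htwn, map_smul, smul_eq_mul] at h2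
    have hτn' : τ ^ n ≠ 0 := pow_ne_zero _ hτ0
    apply mul_left_cancel₀ hτn'
    rw [h2, hμl]
    have e3 : τ ^ (L - 1) = τ ^ n * τ ^ i := by
      rw [← pow_add]
      congr 1
      omega
    rw [e3]
    ring
  have hwF : w ^ L * F = 0 := by
    ext z
    rw [Module.End.mul_apply, hFapp, map_sum, LinearMap.zero_apply]
    refine Finset.sum_eq_zero fun i _ => ?_
    rw [map_smul, hpw, hwL _ (by omega), smul_zero]
  have hL0 : 0 < L := hL
  have hFg : F g = g := by
    have := hFchain 0 hL0
    simpa using this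
  refine ⟨F, g, hFF, hEF, hFE, hFw, hFt, hwF, hFg, by rw [hwg]; exact hu0, ?_⟩
  -- the ranks
  have hFwa : ∀ n (y : W), F ((w ^ n) y) = (w ^ n) (F y) := fun n y => by
    have : F * w ^ n = w ^ n * F := (Commute.pow_right (show Commute F w from hFw) n).eq
    exact LinearMap.congr_fun this y
  have hFFa : ∀ y, F (F y) = F y := fun y => by rw [← Module.End.mul_apply, hFF]
  -- decomposition of a vector of the image
  have hdec : ∀ z, ∃ (c : K) (z₁ : W), F z₁ = z₁ ∧ F z = c • g + w z₁ := by
    intro z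
    obtain ⟨n, rfl⟩ : ∃ n, L = n + 1 := ⟨L - 1, by omega⟩
    refine ⟨ξ ((w ^ (n + 1 - 1 - 0)) (E z)),
      ∑ i ∈ Finset.range n, ξ ((w ^ (n + 1 - 1 - (i + 1))) (E z)) • (w ^ i) g, ?_, ?_⟩
    · rw [map_sum]
      refine Finset.sum_congr rfl fun i hi => ?_
      rw [map_smul, hFchain i (by have := Finset.mem_range.1 hi; omega)]
    · rw [hFapp, Finset.sum_range_succ', add_comm, map_sum]
      simp only [pow_zero, Module.End.one_apply]
      congr 1
      refine Finset.sum_congr rfl fun i _ => ?_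
      rw [map_smul, ← Module.End.mul_apply w, ← pow_succ']
  have hrk : ∀ k d, L - d = k → Module.finrank K (LinearMap.range (w ^ d * F)) = k := by
    intro k
    induction k with
    | zero =>
      intro d hd
      have : w ^ d * F = 0 := by
        have h2 : d = (d - L) + L := by omega
        rw [h2, pow_add, mul_assoc, hwF, mul_zero]
      rw [this, LinearMap.range_zero, finrank_bot]
    | succ k ih =>
      intro d hd
      have hdL : d < L := by omega
      have hih := ih (d + 1) (by omega)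
      have hg' : (w ^ d) g ≠ 0 := by
        intro h
        have h2 : (w ^ (L - 1)) g = (w ^ (L - 1 - d)) ((w ^ d) g) := by
          rw [hpw]
          congr 2
          omega
        rw [h, map_zero, hwg] at h2
        exact hu0 h2
      have hnot : (w ^ d) g ∉ LinearMap.range (w ^ (d + 1) * F) := by
        rintro ⟨y, hy⟩
        apply hu0
        rw [← hwg]
        have h2 : (w ^ (L - 1)) g = (w ^ (L - 1 - d)) ((w ^ d) g) := by
          rw [hpw]
          congr 2
          omega
        rw [h2, ← hy, ← Module.End.mul_apply, ← mul_assoc, ← pow_add]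
        have e : L - 1 - d + (d + 1) = L := by omega
        rw [e, hwF]
        rfl
      have hsup : LinearMap.range (w ^ d * F) =
          LinearMap.range (w ^ (d + 1) * F) ⊔ Submodule.span K {(w ^ d) g} := by
        apply le_antisymm
        · rintro _ ⟨z, rfl⟩
          obtain ⟨c, z₁, hz₁', hz₁⟩ := hdec z
          rw [Module.End.mul_apply, hz₁, map_add, map_smul, add_comm (c • (w ^ d) g)]
          refine Submodule.add_mem_sup ?_ (Submodule.smul_mem _ _ (Submodule.mem_span_singleton_self _))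
          exact ⟨z₁, by rw [Module.End.mul_apply, hz₁', pow_succ, Module.End.mul_apply]⟩
        · apply sup_le
          · rintro _ ⟨z, rfl⟩
            refine ⟨w z, ?_⟩
            rw [Module.End.mul_apply, Module.End.mul_apply, pow_succ, Module.End.mul_apply]
            congr 1
            exact LinearMap.congr_fun hFw z
          · rw [Submodule.span_singleton_le_iff_mem]
            exact ⟨g, by rw [Module.End.mul_apply, hFg]⟩
      have hdisj : LinearMap.range (w ^ (d + 1) * F) ⊓ Submodule.span K {(w ^ d) g} = ⊥ := by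
        rw [eq_bot_iff]
        rintro v ⟨hv1, hv2⟩
        obtain ⟨c, rfl⟩ := Submodule.mem_span_singleton.1 hv2
        by_cases hc : c = 0
        · simp [hc]
        · exfalso
          apply hnot
          have := Submodule.smul_mem _ c⁻¹ hv1
          rwa [smul_smul, inv_mul_cancel₀ hc, one_smul] at this
      have hsum := Submodule.finrank_sup_add_finrank_inf_eq (LinearMap.range (w ^ (d + 1) * F))
        (Submodule.span K {(w ^ d) g})
      rw [hdisj, finrank_bot, add_zero, finrank_span_singleton hg', hih, ← hsup] at hsum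
      exact hsum
  exact fun d => hrk _ d rfl

end Peel2

section Main

variable {K W : Type*} [Field K] [AddCommGroup W] [Module K W] [FiniteDimensional K W] [IsAlgClosed K]
variable {w x xi η t E₀ : End K W} {τ : K} {m p s q : ℕ}

lemma comm_aeval {F w : End K W} (h : F * w = w * F) (P : Polynomial K) :
    F * Polynomial.aeval w P = Polynomial.aeval w P * F := by
  induction P using Polynomial.induction_on' with
  | add P Q hP hQ => rw [map_add, mul_add, add_mul, hP, hQ]
  | monomial n a =>
    rw [Polynomial.aeval_monomial]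
    have h1 : F * w ^ n = w ^ n * F := (Commute.pow_right (show Commute F w from h) n).eq
    rw [Algebra.algebraMap_eq_smul_one, smul_mul_assoc, one_mul, mul_smul_comm, smul_mul_assoc, h1]

/-- Additivity of ranks for orthogonal idempotents. -/
lemma finrank_range_add {F F' T : End K W} (hFF : F * F = F) (hFF' : F * F' = 0)
    (hFT : F * T = T * F) (hF'F' : F' * F' = F') (hF'F : F' * F = 0) :
    Module.finrank K (LinearMap.range (T * (F + F'))) =
      Module.finrank K (LinearMap.range (T * F)) + Module.finrank K (LinearMap.range (T * F')) := by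
  have hsup : LinearMap.range (T * (F + F')) = LinearMap.range (T * F) ⊔ LinearMap.range (T * F') := by
    apply le_antisymm
    · rintro _ ⟨z, rfl⟩
      simp only [mul_add, LinearMap.add_apply]
      exact Submodule.add_mem_sup ⟨z, rfl⟩ ⟨z, rfl⟩
    · apply sup_le
      · rintro _ ⟨z, rfl⟩
        refine ⟨F z, ?_⟩
        simp only [mul_add, LinearMap.add_apply, Module.End.mul_apply]
        have e1 : F (F z) = F z := LinearMap.congr_fun hFF z
        have e2 : F' (F z) = 0 := LinearMap.congr_fun hF'F z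
        rw [e1, e2, map_zero, add_zero]
      · rintro _ ⟨z, rfl⟩
        refine ⟨F' z, ?_⟩
        simp only [mul_add, LinearMap.add_apply, Module.End.mul_apply]
        have e1 : F' (F' z) = F' z := LinearMap.congr_fun hF'F' z
        have e2 : F (F' z) = 0 := LinearMap.congr_fun hFF' z
        rw [e1, e2, map_zero, zero_add]
  have hinf : LinearMap.range (T * F) ⊓ LinearMap.range (T * F') = ⊥ := by
    rw [eq_bot_iff]
    rintro v ⟨⟨a, ha⟩, ⟨b, hb⟩⟩
    have e1 : F v = v := by
      rw [← ha]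
      have := LinearMap.congr_fun hFT (F a)
      simp only [Module.End.mul_apply] at this ⊢
      rw [this]
      congr 1
      exact LinearMap.congr_fun hFF a
    have e2 : F v = 0 := by
      rw [← hb]
      have := LinearMap.congr_fun hFT (F' b)
      simp only [Module.End.mul_apply] at this ⊢
      rw [this]
      have e3 : F (F' b) = 0 := LinearMap.congr_fun hFF' b
      rw [e3, map_zero]
    rw [e1] at e2
    simp [e2]
  have h := Submodule.finrank_sup_add_finrank_inf_eq (LinearMap.range (T * F)) (LinearMap.range (T * F'))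
  rw [hinf, finrank_bot, add_zero, ← hsup] at h
  exact h

variable [CharP K p] [hpf : Fact p.Prime]

/-- **The Jordan type** of `w` on the image of an idempotent with the dichotomy. -/
theorem exists_jordan (S : Setup w x xi η t E₀ τ m p s q) :
    ∀ (n : ℕ) (E : End K W), Module.finrank K (LinearMap.range E) = n → Below w η t E₀ E →
      (∀ π, Below w η t E₀ π → E * π = π → π * E = π → IsTrX x xi p π ∨ IsTrX x xi p (E - π)) →
      ∃ A L, L < q ∧ (∀ d, d ≤ q → Module.finrank K (LinearMap.range (w ^ d * E)) = (q - d) * A + (L - d)) ∧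
        (0 < L → ∃ (F : End K W) (g : W), Below w η t E₀ F ∧ E * F = F ∧ F * E = F ∧ w ^ L * F = 0 ∧ F g = g ∧
          (w ^ (L - 1)) g ≠ 0) := by
  intro n
  induction n using Nat.strong_induction_on with
  | _ n ih =>
  intro E hn hE hdich
  by_cases hE0 : E = 0
  · subst hE0
    refine ⟨0, 0, S.hq, fun d _ => ?_, fun h => absurd h (lt_irrefl _)⟩
    simp
  -- the length
  have hex : ∃ ℓ, w ^ ℓ * E = 0 := ⟨q, by rw [← hE.le, ← mul_assoc, S.hw, zero_mul]⟩
  classical
  have hℓ := Nat.find_spec hex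
  set ℓ := Nat.find hex with hℓdef
  have hℓ0 : 1 ≤ ℓ := by
    rcases Nat.eq_zero_or_pos ℓ with h | h
    · rw [h] at hℓ
      exact absurd (by simpa using hℓ) hE0
    · exact h
  have hℓ1 : w ^ (ℓ - 1) * E ≠ 0 := Nat.find_min hex (by omega)
  have hℓq : ℓ ≤ q := Nat.find_min' hex (by rw [← hE.le, ← mul_assoc, S.hw, zero_mul])
  obtain ⟨F₁, g, hF₁, hEF₁, hF₁E, hF₁w, hF₁t, hwF₁, hF₁g, hg, hrk⟩ :=
    exists_peel S.ht S.hm S.htw S.hτ hE.idem hE.cw hE.ct hℓ0 hℓ1 hℓ
  obtain ⟨P, hP⟩ := S.hηP
  have hbF : ∀ F : End K W, F * F = F → E * F = F → F * E = F → F * w = w * F → F * t = t * F →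
      Below w η t E₀ F := by
    intro F h1 h2 h3 h4 h5
    refine ⟨h1, ?_, ?_, h4, ?_, h5⟩
    · rw [← h2, ← mul_assoc, hE.le]
    · rw [← h3, mul_assoc, hE.le']
    · rw [hP]
      exact comm_aeval h4 P
  have hbF₁ := hbF F₁ hF₁ hEF₁ hF₁E hF₁w hF₁t
  set F' := E - F₁ with hF'
  have hF'F' : F' * F' = F' := by
    simp only [F', sub_mul, mul_sub, hE.idem, hEF₁, hF₁E, hF₁]
    abel
  have hF₁F' : F₁ * F' = 0 := by
    simp only [F', mul_sub, hF₁E, hF₁, sub_self]
  have hF'F₁ : F' * F₁ = 0 := by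
    simp only [F', sub_mul, hEF₁, hF₁, sub_self]
  have hEF' : E * F' = F' := by
    simp only [F', mul_sub, hE.idem, hEF₁]
  have hF'E : F' * E = F' := by
    simp only [F', sub_mul, hE.idem, hF₁E]
  have hF'w : F' * w = w * F' := by
    simp only [F', sub_mul, mul_sub, hE.cw, hF₁w]
  have hF't : F' * t = t * F' := by
    simp only [F', sub_mul, mul_sub, hE.ct, hF₁t]
  have hbF' := hbF F' hF'F' hEF' hF'E hF'w hF't
  have hg0 : g ≠ 0 := by
    intro h
    rw [h, map_zero] at hg
    exact hg rfl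
  have hF₁0 : F₁ ≠ 0 := by
    intro h
    rw [h] at hF₁g
    exact hg0 hF₁g.symm
  rcases Nat.lt_or_eq_of_le hℓq with hlt | heq
  · -- non-free: `E = F₁`
    have hF'0 : F' = 0 := by
      rcases hdich F₁ hbF₁ hEF₁ hF₁E with h | h
      · exact absurd (S.eq_zero_of_isTrX hbF₁ h ℓ hlt hwF₁) hF₁0
      · refine S.eq_zero_of_isTrX hbF' h ℓ hlt ?_
        simp only [F', mul_sub, hℓ, hwF₁, sub_self]
    have hEeq : E = F₁ := sub_eq_zero.1 hF'0
    refine ⟨0, ℓ, hlt, fun d _ => ?_, fun _ => ⟨F₁, g, hbF₁, hEF₁, hF₁E, hwF₁, hF₁g, hg⟩⟩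
    rw [hEeq, hrk d]
    simp
  · -- free: peel it off
    have hlt : Module.finrank K (LinearMap.range F') < n := by
      rw [← hn]
      apply Submodule.finrank_lt_finrank_of_lt
      refine lt_of_le_of_ne ?_ ?_
      · rintro _ ⟨a, rfl⟩
        exact ⟨F' a, by rw [← Module.End.mul_apply, hEF']⟩
      · intro h
        have hgE : g ∈ LinearMap.range E := ⟨g, by
          rw [← hF₁g, ← Module.End.mul_apply, hEF₁]⟩
        rw [← h] at hgE
        obtain ⟨a, ha⟩ := hgE
        apply hg0
        rw [← hF₁g, ← ha, ← Module.End.mul_apply, hF₁F']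
        rfl
    have hdich' : ∀ π, Below w η t E₀ π → F' * π = π → π * F' = π →
        IsTrX x xi p π ∨ IsTrX x xi p (F' - π) := by
      intro π hπ h1 h2
      have h3 : E * π = π := by rw [← h1, ← mul_assoc, hEF']
      have h4 : π * E = π := by rw [← h2, mul_assoc, hF'E]
      rcases hdich π hπ h3 h4 with h | h
      · exact Or.inl h
      · right
        have hcx : F' * x = x * F' := S.below_x hbF'
        have h5 := h.mul_mul hcx (S.comm_inv hcx) hcx (S.comm_inv hcx)
        have e : F' * (E - π) * F' = F' - π := by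
          calc F' * (E - π) * F' = (F' * E - F' * π) * F' := by rw [mul_sub F' E π]
            _ = (F' - π) * F' := by rw [hF'E, h1]
            _ = F' * F' - π * F' := by rw [sub_mul]
            _ = F' - π := by rw [hF'F', h2]
        rwa [e] at h5
    obtain ⟨A, L, hL, hrkE, hFex⟩ := ih _ hlt F' rfl hbF' hdich'
    refine ⟨A + 1, L, hL, fun d hd => ?_, fun hL0 => ?_⟩
    · have e : E = F₁ + F' := by simp [F']
      have hT : F₁ * w ^ d = w ^ d * F₁ := (Commute.pow_right (show Commute F₁ w from hF₁w) d).eq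
      rw [e, finrank_range_add hF₁ hF₁F' hT hF'F' hF'F₁, hrk d, hrkE d hd, heq]
      ring
    · obtain ⟨F, g', hF, h1, h2, h3⟩ := hFex hL0
      exact ⟨F, g', hF, by rw [← h1, ← mul_assoc, hEF'], by rw [← h2, mul_assoc, hF'E], h3⟩

/-- **The Jordan type** of `w` on the image of `E₀`, with the bound on the non-free part. -/
theorem jordan_final (S : Setup w x xi η t E₀ τ m p s q)
    (hdich : ∀ π, Below w η t E₀ π → IsTrX x xi p π ∨ IsTrX x xi p (E₀ - π)) (hs : s = 1 ∨ p ≤ s) :
    ∃ A L, L < q ∧ (∀ d, d ≤ q → Module.finrank K (LinearMap.range (w ^ d * E₀)) = (q - d) * A + (L - d)) ∧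
      ∀ c, c < p → IsTrX x xi p (w ^ c * E₀) → L ≤ c ∨ q ≤ L + c := by
  have hb : Below w η t E₀ E₀ := ⟨S.hE₀, S.hE₀, S.hE₀, S.hE₀w, S.hE₀η, S.hE₀t⟩
  obtain ⟨A, L, hL, hrk, hF⟩ := exists_jordan S _ E₀ rfl hb (fun π hπ _ _ => hdich π hπ)
  refine ⟨A, L, hL, hrk, fun c hc htr => ?_⟩
  rcases Nat.eq_zero_or_pos L with h0 | hpos
  · exact Or.inl (by omega)
  obtain ⟨F, g, hbF, hEF, hFE, hw, hg, hg1⟩ := hF hpos
  have hcx : F * x = x * F := S.below_x hbF
  have h5 := htr.mul_mul hcx (S.comm_inv hcx) hcx (S.comm_inv hcx)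
  have e : F * (w ^ c * E₀) * F = w ^ c * F := by
    have hT : F * w ^ c = w ^ c * F := (Commute.pow_right (show Commute F w from hbF.cw) c).eq
    rw [← mul_assoc, hT, mul_assoc, mul_assoc, hEF, hbF.idem]
  rw [e] at h5
  exact S.length_bound hbF h5 hc hs hg hpos hg1 hw

end Main

end Cfsg.Agent.Lib.Dade
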