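import Mathlib
import Cfsg.Agent.Lib.Dade.WB
import Cfsg.Agent.Lib.Blocks.RepFin2

/-!
# A rank one idempotent fixed by a finite cyclic group of automorphisms of a matrix algebra

(Skolem-Noether by hand.)
-/

set_option autoImplicit false
set_option linter.unusedSectionVars false

namespace Cfsg.Agent.Lib.Dade

open Module Matrix

section SN

variable {k : Type*} [Field k] [IsAlgClosed k] {n : ℕ} [NeZero n]

/-- A rank one idempotent fixed by an automorphism of finite order prime to the characteristic. -/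
theorem exists_fixed_rank_one (γ : Matrix (Fin n) (Fin n) k →ₐ[k] Matrix (Fin n) (Fin n) k) {m : ℕ}
    (hγ : ∀ A, γ^[m] A = A) (hm : (m : k) ≠ 0) :
    ∃ g₀ ξ : Fin n → k, ξ ⬝ᵥ g₀ = 1 ∧ γ (vecMulVec g₀ ξ) = vecMulVec g₀ ξ := by
  classical
  have hm0 : m ≠ 0 := fun h => hm (by simp [h])
  let E : Fin n → Fin n → Matrix (Fin n) (Fin n) k := fun i j => Matrix.single i j (1 : k)
  have hE : ∀ i j l m : Fin n, E i j * E l m = if j = l then E i m else 0 := by
    intro i j l m
    split_ifs with h
    · subst h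
      simp [E]
    · exact Matrix.single_mul_single_of_ne _ _ _ _ h _
  have h00 : γ (E 0 0) ≠ 0 := by
    intro h
    have h1 : ∀ r : ℕ, γ^[r + 1] (E 0 0) = 0 := by
      intro r
      induction r with
      | zero => simpa using h
      | succ r ih => rw [Function.iterate_succ_apply', ih, map_zero]
    obtain ⟨r, rfl⟩ : ∃ r, m = r + 1 := ⟨m - 1, by omega⟩
    have h2 := hγ (E 0 0)
    rw [h1 r] at h2
    have h3 := congrFun (congrFun h2 0) 0
    simp [E] at h3
  obtain ⟨i₀, l, hil⟩ : ∃ i l, γ (E 0 0) i l ≠ 0 := by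
    by_contra hcon
    push Not at hcon
    exact h00 (by ext i l; simpa using hcon i l)
  set Y := E l 0 with hY
  set X : Matrix (Fin n) (Fin n) k := ∑ i, γ (E i 0) * Y * E 0 i with hXdef
  have hXE : ∀ a b, X * E a b = γ (E a 0) * Y * E 0 b := by
    intro a b
    rw [hXdef, Finset.sum_mul, Finset.sum_eq_single a]
    · rw [mul_assoc, hE, if_pos rfl]
    · intro i _ hi
      rw [mul_assoc, hE, if_neg hi, mul_zero]
    · simp
  have hEX : ∀ a b, γ (E a b) * X = γ (E a 0) * Y * E 0 b := by
    intro a b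
    rw [hXdef, Finset.mul_sum, Finset.sum_eq_single b]
    · rw [← mul_assoc, ← mul_assoc, ← map_mul, hE, if_pos rfl]
    · intro i _ hi
      rw [← mul_assoc, ← mul_assoc, ← map_mul, hE, if_neg hi.symm]
      simp
    · simp
  have hXA : ∀ A, X * A = γ A * X := by
    intro A
    conv_lhs => rw [Matrix.matrix_eq_sum_single A]
    conv_rhs => rw [Matrix.matrix_eq_sum_single A]
    simp only [map_sum, Finset.mul_sum, Finset.sum_mul]
    refine Finset.sum_congr rfl fun a _ => Finset.sum_congr rfl fun b _ => ?_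
    have e : Matrix.single a b (A a b) = A a b • E a b := by
      simp [E]
    rw [e, map_smul, mul_smul_comm, smul_mul_assoc, hXE, hEX]
  have hX0 : X ≠ 0 := by
    intro h
    have h1 := hXE 0 0
    rw [h, zero_mul] at h1
    have h2 := congrFun (congrFun h1.symm i₀) 0
    have h3 : (γ (E 0 0) * Y * E 0 0) i₀ 0 = γ (E 0 0) i₀ l := by
      rw [hY, mul_assoc, hE, if_pos rfl]
      simp [E, Matrix.mul_single_apply_same]
    rw [h3] at h2
    exact hil h2
  have hXinj : Function.Injective X.mulVec := by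
    intro v v' hvv
    by_contra hne
    have hv : X *ᵥ (v - v') = 0 := by
      rw [Matrix.mulVec_sub, sub_eq_zero]
      exact hvv
    set z := v - v' with hz
    have hz0 : z ≠ 0 := sub_ne_zero.2 hne
    obtain ⟨a, ha⟩ : ∃ a, z a ≠ 0 := by
      by_contra hcon
      push Not at hcon
      exact hz0 (funext hcon)
    apply hX0
    ext j i
    have h1 : (X * E i a) *ᵥ z = 0 := by
      rw [hXA, ← Matrix.mulVec_mulVec, hv, Matrix.mulVec_zero]
    have h2 := congrFun h1 j
    have h3 : ((X * E i a) *ᵥ z) j = X j i * z a := by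
      rw [Matrix.mulVec, dotProduct, Finset.sum_eq_single a]
      · rw [show (X * E i a) j a = X j i from by simp [E, Matrix.mul_single_apply_same]]
      · intro b _ hb
        rw [show (X * E i a) j b = 0 from by simp [E, Matrix.mul_single_apply_of_ne, hb], zero_mul]
      · simp
    rw [h3] at h2
    rcases mul_eq_zero.1 h2 with h | h
    · simpa using h
    · exact absurd h ha
  have hXu : IsUnit X := Matrix.mulVec_injective_iff_isUnit.1 hXinj
  -- the power of `X` is a scalar
  have hXpow : ∀ r : ℕ, ∀ A, X ^ r * A = γ^[r] A * X ^ r := by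
    intro r
    induction r with
    | zero => intro A; simp
    | succ r ih =>
      intro A
      rw [pow_succ', mul_assoc, ih, ← mul_assoc, hXA, Function.iterate_succ_apply', mul_assoc]
  obtain ⟨c₀, hc₀⟩ := Cfsg.Agent.Lib.Blocks.RepFin.exists_scalar_of_commute (A := X ^ m) (fun i j => by
    have := hXpow m (Matrix.single i j (1 : k))
    rw [hγ] at this
    exact this)
  have hc₀0 : c₀ ≠ 0 := by
    rintro rfl
    rw [zero_smul] at hc₀
    have := hXu.pow m
    rw [hc₀] at this
    exact not_isUnit_zero this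
  obtain ⟨b, hb⟩ := IsAlgClosed.exists_pow_nat_eq c₀ (Nat.pos_of_ne_zero hm0)
  have hb0 : b ≠ 0 := by
    rintro rfl
    rw [zero_pow hm0] at hb
    exact hc₀0 hb.symm
  set X₁ := b⁻¹ • X with hX₁
  have hX₁m : X₁ ^ m = 1 := by
    rw [hX₁, smul_pow, hc₀, smul_smul, inv_pow, hb, inv_mul_cancel₀ hc₀0, one_smul]
  have hX₁A : ∀ A, X₁ * A = γ A * X₁ := by
    intro A
    rw [hX₁, smul_mul_assoc, mul_smul_comm, hXA]
  have hX₁u : IsUnit X₁ := by
    rw [isUnit_iff_exists_and_exists]
    obtain ⟨r, rfl⟩ : ∃ r, m = r + 1 := ⟨m - 1, by omega⟩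
    exact ⟨⟨X₁ ^ r, by rw [← pow_succ', hX₁m]⟩, ⟨X₁ ^ r, by rw [← pow_succ, hX₁m]⟩⟩
  -- an eigenvector and a dual eigenvector
  let t : End k (Fin n → k) := Matrix.toLin' X₁
  have ht : t ^ m = 1 := by
    simp only [t]
    rw [← Matrix.toLin'_pow, hX₁m, Matrix.toLin'_one]
    rfl
  haveI : Nonempty (Fin n) := ⟨0⟩
  obtain ⟨F, g, hFF, -, -, -, hFt, -, hFg, hg, hrk⟩ := exists_peel (w := (0 : End k (Fin n → k))) (t := t) (E := 1)
    (τ := 1) (L := 1) ht hm (by simp) (by simp) (by simp) (by simp) (by simp) le_rfl (by simp) (by simp)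
  have hg0 : g ≠ 0 := by simpa using hg
  have hr1 : Module.finrank k (LinearMap.range F) = 1 := by
    have := hrk 0
    rw [pow_zero, one_mul] at this
    exact this
  have hgr : g ∈ LinearMap.range F := ⟨g, hFg⟩
  have hcoord : ∀ z, ∃ c : k, F z = c • g := by
    intro z
    have h1 := (finrank_eq_one_iff_of_nonzero' (⟨g, hgr⟩ : LinearMap.range F) (by
      intro h
      exact hg0 (congrArg Subtype.val h))).1 hr1 ⟨F z, z, rfl⟩
    obtain ⟨c, hc⟩ := h1
    exact ⟨c, (congrArg Subtype.val hc).symm⟩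
  choose c hc using hcoord
  let ξ : Fin n → k := fun j => c (Pi.single j 1)
  have hFmat : LinearMap.toMatrix' F = vecMulVec g ξ := by
    ext i j
    rw [LinearMap.toMatrix'_apply, vecMulVec_apply]
    rw [hc, Pi.smul_apply, smul_eq_mul, mul_comm]
  have hFvec : ∀ z, F z = (vecMulVec g ξ) *ᵥ z := by
    intro z
    rw [← hFmat, LinearMap.toMatrix'_mulVec]
  refine ⟨g, ξ, ?_, ?_⟩
  · have h1 := hFvec g
    rw [hFg, vecMulVec_mulVec] at h1
    have h2 : (1 - ξ ⬝ᵥ g) • g = 0 := by
      rw [sub_smul, one_smul]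
      nth_rw 1 [h1]
      ext i
      simp [mul_comm]
    rcases smul_eq_zero.1 h2 with h | h
    · exact (sub_eq_zero.1 h).symm
    · exact absurd h hg0
  · set Fm := vecMulVec g ξ with hFm
    have h1 : Fm * X₁ = X₁ * Fm := by
      have h2 := congrArg LinearMap.toMatrix' hFt
      rw [LinearMap.toMatrix'_mul, LinearMap.toMatrix'_mul, hFmat] at h2
      have h3 : LinearMap.toMatrix' t = X₁ := by
        simp only [t]
        exact LinearMap.toMatrix'_toLin' X₁
      rwa [h3] at h2
    rw [hX₁A] at h1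
    have h4 := hX₁u.mul_right_cancel h1
    exact h4.symm

end SN

end Cfsg.Agent.Lib.Dade
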