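import Mathlib
import Cfsg.Agent.Lib.Dade.SN
import Cfsg.Agent.Lib.Blocks.RepFin3

/-!
# The structure of an algebra with one simple module, one self extension and an automorphism
-/

set_option autoImplicit false
set_option linter.unusedSectionVars false
set_option linter.style.haveILetI false

namespace Cfsg.Agent.Lib.Dade

open Module Cfsg.Agent.Lib.Blocks.SymLocal Cfsg.Agent.Lib.Blocks.SymCom Cfsg.Agent.Lib.Blocks.RepFin

section OneGen

variable {k A : Type*} [Field k] [Ring A] [Algebra k A]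

/-- With one generator modulo `I * I`, the algebra is generated by that element. -/
lemma exists_poly_of_one_gen {I : Submodule k A} (hII : I * I ≤ I) (hdec : ∀ a : A, ∃ c : k, a - c • (1 : A) ∈ I)
    (hnil : ∃ N : ℕ, I ^ N = ⊥) {w : A} (hwI : w ∈ I) (hgen : ∀ u ∈ I, ∃ c : k, u - c • w ∈ I * I) :
    ∀ a : A, ∃ P : Polynomial k, a = Polynomial.aeval w P := by
  obtain ⟨s₀, hs₀⟩ := hnil
  set N : Submodule k A := Submodule.span k {w} with hN
  have hNI : N ≤ I := by
    rw [hN, Submodule.span_le]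
    simpa using hwI
  have hIN : I ≤ N ⊔ I * I := by
    intro w' hw'
    obtain ⟨c, hc⟩ := hgen w' hw'
    rw [Submodule.mem_sup]
    exact ⟨c • w, N.smul_mem _ (Submodule.mem_span_singleton_self w), _, hc, by abel⟩
  have hstep : ∀ m : ℕ, I ^ (m + 1) ≤ N ^ (m + 1) ⊔ I ^ (m + 2) := by
    intro m
    induction m with
    | zero =>
      rw [zero_add, pow_one, pow_one, pow_two]
      exact hIN
    | succ m ih =>
      have h1 : I ^ (m + 1 + 1) = I ^ (m + 1) * I := pow_succ _ _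
      have h2 : I ^ (m + 1) * I ≤ (N ^ (m + 1) ⊔ I ^ (m + 2)) * (N ⊔ I * I) :=
        mul_le_mul' ih hIN
      have h3 : (N ^ (m + 1) ⊔ I ^ (m + 2)) * (N ⊔ I * I) ≤ N ^ (m + 1 + 1) ⊔ I ^ (m + 1 + 2) := by
        rw [Submodule.sup_mul, Submodule.mul_sup, Submodule.mul_sup]
        have hNp : N ^ (m + 1) ≤ I ^ (m + 1) := pow_le_pow_left' hNI _
        refine sup_le (sup_le ?_ ?_) (sup_le ?_ ?_)
        · rw [pow_succ N (m + 1)]
          exact le_sup_left
        · refine le_trans ?_ le_sup_right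
          have : I ^ (m + 1 + 2) = I ^ (m + 1) * (I * I) := by
            rw [pow_add, pow_two]
          rw [this]
          exact mul_le_mul' hNp le_rfl
        · refine le_trans ?_ le_sup_right
          have : I ^ (m + 1 + 2) = I ^ (m + 2) * I := by
            rw [show m + 1 + 2 = m + 2 + 1 by ring, pow_succ]
          rw [this]
          exact mul_le_mul' le_rfl hNI
        · refine le_trans ?_ le_sup_right
          have : I ^ (m + 1 + 2) = I ^ (m + 2) * I := by
            rw [show m + 1 + 2 = m + 2 + 1 by ring, pow_succ]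
          rw [this]
          exact mul_le_mul' le_rfl hII
      rw [h1]
      exact h2.trans h3
  set W : Submodule k A := Subalgebra.toSubmodule (Algebra.adjoin k {w}) with hW
  have hNW : N ≤ W := by
    rw [hN, Submodule.span_le]
    intro x hx
    rw [Set.mem_singleton_iff] at hx
    subst hx
    exact Algebra.subset_adjoin (Set.mem_singleton _)
  have hNpow : ∀ m : ℕ, N ^ (m + 1) ≤ W := by
    intro m
    induction m with
    | zero => simp only [zero_add, pow_one]; exact hNW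
    | succ m ih =>
      rw [pow_succ]
      refine (mul_le_mul' ih hNW).trans ?_
      rw [Submodule.mul_le]
      intro a ha b hb
      exact Subalgebra.mul_mem _ ha hb
  have hIWm : ∀ m : ℕ, I ≤ W ⊔ I ^ (m + 1) := by
    intro m
    induction m with
    | zero => simp
    | succ m ih =>
      refine ih.trans (sup_le le_sup_left ((hstep m).trans (sup_le ((hNpow m).trans le_sup_left) le_sup_right)))
  have hIW : I ≤ W := by
    have h1 := hIWm s₀
    have h2 : I ^ (s₀ + 1) = ⊥ := by rw [pow_succ, hs₀, Submodule.bot_mul]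
    rwa [h2, sup_bot_eq] at h1
  intro a
  obtain ⟨c, hc⟩ := hdec a
  have h1 : a ∈ Algebra.adjoin k ({w} : Set A) := by
    have h2 : a = (a - c • 1) + c • 1 := by abel
    rw [h2]
    refine Subalgebra.add_mem _ (hIW hc) ?_
    exact Subalgebra.smul_mem _ (Subalgebra.one_mem _) _
  rw [Algebra.adjoin_singleton_eq_range_aeval] at h1
  obtain ⟨P, hP⟩ := h1
  exact ⟨P, hP.symm⟩

end OneGen

section Corner

variable {k R G : Type*} [Field k] [Ring R] [Algebra k R] [FiniteDimensional k R] [Group G] [Finite G]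

/-- The corner is generated by one element `w₀`, and also by its perturbations. -/
theorem corner_one_gen {n : ℕ} [NeZero n] [Infinite k] {p : ℕ} [hp : Fact p.Prime] (hpk : (p : k) = 0)
    (t : R →ₗ[k] k) (ht : ∀ x y, t (x * y) = t (y * x)) (hnd : ∀ x, (∀ y, t (x * y) = 0) → x = 0)
    (f : R →ₐ[k] Matrix (Fin n) (Fin n) k) {J : Ideal R} [J.IsTwoSided] (hJ : IsNilpotent J)
    (hker : ∀ x, f x = 0 ↔ x ∈ J)
    {ε : R} {u v : Fin n → R} (hε : IsIdempotentElem ε) (huε : ∀ i, u i * ε = u i) (hvε : ∀ i, ε * v i = v i)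
    (hsum : ∑ i, u i * v i = 1) (hvu : ∀ i j, v i * u j = if i = j then ε else 0)
    (hfε : f ε = Matrix.single 0 0 (1 : k))
    (ρ : G →* R) (hρ : Submodule.span k (Set.range ρ) = ⊤)
    {y : G} {m : ℕ} (hy : y ^ p ^ m = 1) {g₀ : G} (hg₀ : y * g₀ = g₀ * y)
    {D : Subgroup G} (hDy : ∀ d ∈ D, ∃ l : ℕ, y ^ l = d) [Fintype (G ⧸ D)]
    (hz : f (transferW D ρ ρ g₀) ≠ 0) :
    ∃ w₀ ∈ corner k ε, f w₀ = 0 ∧ (∀ a ∈ corner k ε, ∀ b ∈ corner k ε, a * b = b * a) ∧
      ∀ h ∈ corner k ε, ∀ a ∈ corner k ε, ∃ P : Polynomial k, a = Polynomial.aeval (w₀ + w₀ * w₀ * h) P * ε := by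
  classical
  have hMU : MU f ε u v := ⟨hε, huε, hvε, hsum, hvu, hfε⟩
  set A : Submodule k R := corner k ε with hA
  letI iR : Ring A := cornerRing k hε
  letI iA : Algebra k A := Algebra.ofModule
    (fun c x y => Subtype.ext (by
      change (c • x.1) * y.1 = c • (x.1 * y.1)
      rw [smul_mul_assoc]))
    (fun c x y => Subtype.ext (by
      change x.1 * (c • y.1) = c • (x.1 * y.1)
      rw [mul_smul_comm]))
  have hmul : ∀ x y : A, ((x * y : A) : R) = x.1 * y.1 := fun _ _ => rfl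
  have hone : ((1 : A) : R) = ε := rfl
  let t₀ : A →ₗ[k] k := t ∘ₗ A.subtype
  let I₀ : Submodule k A := (Submodule.restrictScalars k J).comap A.subtype
  have hmemI : ∀ x : A, x ∈ I₀ ↔ x.1 ∈ J := fun x => Iff.rfl
  have hεA : ε ∈ A := ⟨hε.eq, hε.eq⟩
  have hloc : LocSym t₀ I₀ := by
    refine ⟨fun x y => ht x.1 y.1, ?_, ?_, ?_, ?_, ?_⟩
    · intro x hx
      apply Subtype.ext
      apply hnd
      intro r
      have hr : ε * r * ε ∈ A := ⟨by rw [← mul_assoc, ← mul_assoc, hε.eq], by rw [mul_assoc, hε.eq]⟩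
      have h1 := hx ⟨ε * r * ε, hr⟩
      have h2 : t₀ (x * ⟨ε * r * ε, hr⟩) = t (x.1 * (ε * r * ε)) := rfl
      rw [h2] at h1
      have h3 : t (x.1 * r) = t (x.1 * (ε * r * ε)) := by
        have e1 : x.1 * (ε * r * ε) = (x.1 * ε) * r * ε := by noncomm_ring
        rw [e1, x.2.2]
        calc t (x.1 * r) = t (ε * (x.1 * r)) := by rw [← mul_assoc, x.2.1]
          _ = t (x.1 * r * ε) := ht _ _
      rw [h3, h1]
    · rw [Submodule.mul_le]
      intro x hx y hy
      exact J.mul_mem_left _ hy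
    · intro x
      refine ⟨f x.1 0 0, ?_⟩
      change x.1 - f x.1 0 0 • ε ∈ J
      rw [← hker]
      exact (hMU.rad_sub x.2).2
    · intro h1
      have h2 : f ε = 0 := (hker _).2 h1
      rw [hfε] at h2
      have h3 := congrFun (congrFun h2 0) 0
      simp at h3
    · obtain ⟨s₀, hs₀⟩ := hJ
      refine ⟨s₀ + 1, ?_⟩
      have hIpow : ∀ s : ℕ, ∀ x ∈ I₀ ^ (s + 1), x.1 ∈ J ^ (s + 1) := by
        intro s
        induction s with
        | zero =>
          intro x hx
          rw [pow_one] at hx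
          rw [Submodule.pow_one]
          exact hx
        | succ s ih =>
          intro x hx
          rw [pow_succ'] at hx
          rw [Ideal.IsTwoSided.pow_succ]
          refine Submodule.mul_induction_on hx (fun a ha b hb => ?_) (fun a b h1 h2 => ?_)
          · exact Ideal.mul_mem_mul ha (ih b hb)
          · exact Ideal.add_mem _ h1 h2
      rw [eq_bot_iff]
      intro x hx
      have h1 := hIpow s₀ x hx
      have h2 : J ^ (s₀ + 1) ≤ J ^ s₀ := Ideal.pow_le_pow_right (Nat.le_succ s₀)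
      rw [hs₀] at h2
      have h3 := h2 h1
      rw [Submodule.mem_bot]
      apply Subtype.ext
      simpa using h3
  -- one generator
  have hgen : ∃ w ∈ I₀, ∀ x ∈ I₀, ∃ c : k, x - c • w ∈ I₀ * I₀ := by
    by_contra hcon
    push Not at hcon
    obtain ⟨j₁, hj₁, hj₁'⟩ := hcon 0 I₀.zero_mem
    have hj₁n : j₁ ∉ I₀ * I₀ := by
      have := hj₁' 0
      simpa using this
    obtain ⟨j₂, hj₂, hj₂'⟩ := hcon j₁ hj₁
    have hf₁ : f j₁.1 = 0 := (hker _).2 hj₁
    have hf₂ : f j₂.1 = 0 := (hker _).2 hj₂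
    set V : Submodule k R := (I₀ * I₀).map A.subtype ⊔ Submodule.span k {ε} with hV
    have hVmem : ∀ x ∈ V, ∃ (i : A) (c : k), i ∈ I₀ * I₀ ∧ x = i.1 + c • ε := by
      intro x hx
      obtain ⟨i', hi', s, hs, rfl⟩ := Submodule.mem_sup.mp hx
      obtain ⟨i, hi, rfl⟩ := hi'
      obtain ⟨c, rfl⟩ := Submodule.mem_span_singleton.mp hs
      exact ⟨i, c, hi, rfl⟩
    have hfI : ∀ i ∈ I₀ * I₀, f i.1 = 0 := by
      intro i hi
      exact (hker _).2 (hloc.II hi)
    have hε0 : ∀ c : k, f (c • ε) = 0 → c = 0 := by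
      intro c hc
      rw [map_smul, hfε] at hc
      have := congrFun (congrFun hc 0) 0
      simpa using this
    -- `j₁ ∉ V + k j₂`
    have hn₁ : j₁.1 ∉ V ⊔ Submodule.span k {j₂.1} := by
      intro h
      obtain ⟨x, hx, s, hs, hsum'⟩ := Submodule.mem_sup.mp h
      obtain ⟨i, c, hi, rfl⟩ := hVmem x hx
      obtain ⟨c', rfl⟩ := Submodule.mem_span_singleton.mp hs
      have h1 := congrArg f hsum'
      simp only [map_add, hfI i hi, map_smul f c', hf₁, hf₂, zero_add, smul_zero, add_zero] at h1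
      have hc0 : c = 0 := hε0 c h1
      subst hc0
      rw [zero_smul, add_zero] at hsum'
      by_cases hc' : c' = 0
      · subst hc'
        apply hj₁n
        have : j₁ = i := Subtype.ext (by rw [← hsum']; simp)
        rwa [this]
      · apply hj₂' c'⁻¹
        have h2 : j₂ - c'⁻¹ • j₁ = (-c'⁻¹) • i := by
          apply Subtype.ext
          change j₂.1 - c'⁻¹ • j₁.1 = (-c'⁻¹) • i.1
          rw [← hsum', smul_add, smul_smul, inv_mul_cancel₀ hc', one_smul, neg_smul]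
          abel
        rw [h2]
        exact (I₀ * I₀).smul_mem _ hi
    have hn₂ : j₂.1 ∉ V ⊔ Submodule.span k {j₁.1} := by
      intro h
      obtain ⟨x, hx, s, hs, hsum'⟩ := Submodule.mem_sup.mp h
      obtain ⟨i, c, hi, rfl⟩ := hVmem x hx
      obtain ⟨c', rfl⟩ := Submodule.mem_span_singleton.mp hs
      have h1 := congrArg f hsum'
      simp only [map_add, hfI i hi, map_smul f c', hf₁, hf₂, zero_add, smul_zero, add_zero] at h1
      have hc0 : c = 0 := hε0 c h1
      subst hc0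
      rw [zero_smul, add_zero] at hsum'
      apply hj₂' c'
      have h2 : j₂ - c' • j₁ = i := by
        apply Subtype.ext
        change j₂.1 - c' • j₁.1 = i.1
        rw [← hsum']
        abel
      rw [h2]
      exact hi
    obtain ⟨φ₁, hφ₁, hφ₁V⟩ := Submodule.exists_dual_map_eq_bot_of_notMem hn₁ (Module.Projective.of_free)
    obtain ⟨φ₂, hφ₂, hφ₂V⟩ := Submodule.exists_dual_map_eq_bot_of_notMem hn₂ (Module.Projective.of_free)
    have hz₁ : ∀ x ∈ V ⊔ Submodule.span k {j₂.1}, φ₁ x = 0 := fun x hx => by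
      have : φ₁ x ∈ (V ⊔ Submodule.span k {j₂.1}).map φ₁ := Submodule.mem_map_of_mem hx
      rw [hφ₁V] at this
      exact (Submodule.mem_bot k).mp this
    have hz₂ : ∀ x ∈ V ⊔ Submodule.span k {j₁.1}, φ₂ x = 0 := fun x hx => by
      have : φ₂ x ∈ (V ⊔ Submodule.span k {j₁.1}).map φ₂ := Submodule.mem_map_of_mem hx
      rw [hφ₂V] at this
      exact (Submodule.mem_bot k).mp this
    have hV₁ : V ≤ V ⊔ Submodule.span k {j₂.1} := le_sup_left
    have hV₂ : V ≤ V ⊔ Submodule.span k {j₁.1} := le_sup_left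
    have hεV : ε ∈ V := Submodule.mem_sup_right (Submodule.mem_span_singleton_self ε)
    have hprod : ∀ a' ∈ corner k ε, ∀ b' ∈ corner k ε, f a' = 0 → f b' = 0 → a' * b' ∈ V := by
      intro a' ha' b' hb' hfa hfb
      refine Submodule.mem_sup_left ⟨(⟨a', ha'⟩ : A) * ⟨b', hb'⟩, ?_, rfl⟩
      exact Submodule.mul_mem_mul ((hker _).1 hfa) ((hker _).1 hfb)
    let ξ₁ : R →ₗ[k] k := (φ₁ j₁.1)⁻¹ • φ₁
    let ξ₂ : R →ₗ[k] k := (φ₂ j₂.1)⁻¹ • φ₂
    have hD₁ : Der f ε ξ₁ := ⟨by
      change (φ₁ j₁.1)⁻¹ • φ₁ ε = 0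
      rw [hz₁ ε (hV₁ hεV), smul_zero], fun a' ha' b' hb' hfa hfb => by
      change (φ₁ j₁.1)⁻¹ • φ₁ (a' * b') = 0
      rw [hz₁ _ (hV₁ (hprod a' ha' b' hb' hfa hfb)), smul_zero]⟩
    have hD₂ : Der f ε ξ₂ := ⟨by
      change (φ₂ j₂.1)⁻¹ • φ₂ ε = 0
      rw [hz₂ ε (hV₂ hεV), smul_zero], fun a' ha' b' hb' hfa hfb => by
      change (φ₂ j₂.1)⁻¹ • φ₂ (a' * b') = 0
      rw [hz₂ _ (hV₂ (hprod a' ha' b' hb' hfa hfb)), smul_zero]⟩
    refine no_two_functionals hpk hMU ρ hρ hy hg₀ hDy hz hD₁ hD₂ j₁.2 j₂.2 hf₁ hf₂ ?_ ?_ ?_ ?_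
    · change (φ₁ j₁.1)⁻¹ • φ₁ j₁.1 = 1
      rw [smul_eq_mul, inv_mul_cancel₀ hφ₁]
    · change (φ₂ j₂.1)⁻¹ • φ₂ j₁.1 = 0
      rw [hz₂ j₁.1 (Submodule.mem_sup_right (Submodule.mem_span_singleton_self _)), smul_zero]
    · change (φ₁ j₁.1)⁻¹ • φ₁ j₂.1 = 0
      rw [hz₁ j₂.1 (Submodule.mem_sup_right (Submodule.mem_span_singleton_self _)), smul_zero]
    · change (φ₂ j₂.1)⁻¹ • φ₂ j₂.1 = 1
      rw [smul_eq_mul, inv_mul_cancel₀ hφ₂]
  obtain ⟨w, hw, hgen'⟩ := hgen
  have hcomm := hloc.comm_of_one_gen hw hgen'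
  have hC : ∀ a ∈ corner k ε, ∀ b ∈ corner k ε, a * b = b * a := by
    intro a ha b hb
    obtain ⟨c, hc⟩ := hloc.dec ⟨a, ha⟩
    obtain ⟨d, hd⟩ := hloc.dec ⟨b, hb⟩
    have h1 := hcomm _ hc _ hd
    have h2 : (⟨a, ha⟩ : A) * ⟨b, hb⟩ = ⟨b, hb⟩ * ⟨a, ha⟩ := by
      have e : (⟨a, ha⟩ : A) = c • 1 + ((⟨a, ha⟩ : A) - c • 1) := by abel
      have e' : (⟨b, hb⟩ : A) = d • 1 + ((⟨b, hb⟩ : A) - d • 1) := by abel
      set x := (⟨a, ha⟩ : A) - c • 1 with hx
      set y' := (⟨b, hb⟩ : A) - d • 1 with hy'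
      calc (⟨a, ha⟩ : A) * ⟨b, hb⟩ = (c • 1 + x) * (d • 1 + y') := by rw [← e, ← e']
        _ = (d • 1 + y') * (c • 1 + x) := by
          simp only [add_mul, mul_add, smul_mul_assoc, mul_smul_comm, one_mul, mul_one, h1]
          module
        _ = _ := by rw [← e, ← e']
    exact congrArg Subtype.val h2
  refine ⟨w.1, w.2, (hker _).2 hw, hC, fun h hh a ha => ?_⟩
  -- the perturbed generator
  have hwI' : ∀ x : A, x ∈ I₀ → ∀ y : A, x * y ∈ I₀ := fun x hx y => hloc.mem_right y hx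
  set w' : A := w + w * (w * ⟨h, hh⟩) with hw'
  have hw'I : w' ∈ I₀ := I₀.add_mem hw (hloc.II (Submodule.mul_mem_mul hw (hwI' w hw _)))
  have hgen2 : ∀ x ∈ I₀, ∃ c : k, x - c • w' ∈ I₀ * I₀ := by
    intro x hx
    obtain ⟨c, hc⟩ := hgen' x hx
    refine ⟨c, ?_⟩
    have e : x - c • w' = (x - c • w) - c • (w * (w * ⟨h, hh⟩)) := by
      rw [hw', smul_add]
      abel
    rw [e]
    exact (I₀ * I₀).sub_mem hc ((I₀ * I₀).smul_mem _ (Submodule.mul_mem_mul hw (hwI' w hw _)))
  obtain ⟨P, hP⟩ := exists_poly_of_one_gen hloc.II hloc.dec hloc.nil hw'I hgen2 ⟨a, ha⟩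
  refine ⟨P, ?_⟩
  have hw'val : (w' : R) = w.1 + w.1 * w.1 * h := by
    rw [hw']
    change w.1 + w.1 * (w.1 * h) = _
    rw [mul_assoc]
  have hpow : ∀ n : ℕ, ((w' ^ n : A) : R) = (w' : R) ^ n * ε := by
    intro n
    induction n with
    | zero => simp [hone]
    | succ n ih =>
      rw [pow_succ, hmul, ih, mul_assoc, w'.2.1, pow_succ, ]
      rw [mul_assoc, w'.2.2]
  have hval : ∀ Q : Polynomial k, ((Polynomial.aeval w' Q : A) : R) = Polynomial.aeval (w' : R) Q * ε := by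
    intro Q
    induction Q using Polynomial.induction_on' with
    | add P Q hP hQ =>
      rw [map_add, map_add, add_mul, ← hP, ← hQ]
      rfl
    | monomial n c =>
      rw [Polynomial.aeval_monomial, Polynomial.aeval_monomial, Algebra.algebraMap_eq_smul_one,
        Algebra.algebraMap_eq_smul_one, smul_mul_assoc, smul_mul_assoc, smul_mul_assoc, one_mul, one_mul]
      change c • ((w' ^ n : A) : R) = _
      rw [hpow]
  have := congrArg Subtype.val hP
  rw [hval, hw'val] at this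
  exact this

end Corner

end Cfsg.Agent.Lib.Dade
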