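import Mathlib
import Cfsg.Agent.Lib.Dade.CA

/-!
# The structure of an algebra with one simple module, one self extension and an automorphism, II
-/

set_option autoImplicit false
set_option linter.unusedSectionVars false
set_option linter.style.haveILetI false

namespace Cfsg.Agent.Lib.Dade

open Module Matrix Cfsg.Agent.Lib.Blocks.SymLocal Cfsg.Agent.Lib.Blocks.SymCom Cfsg.Agent.Lib.Blocks.RepFin

section Zeta

variable {k R : Type*} [Field k] [Ring R] [Algebra k R] {n : ℕ} {ε : R} {u v : Fin n → R}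

/-- The central element attached to an element of the corner. -/
def zt (u v : Fin n → R) (a : R) : R := ∑ i, u i * a * v i

/-- Matrix unit data. -/
structure MUnit (ε : R) (u v : Fin n → R) : Prop where
  hε : ε * ε = ε
  huε : ∀ i, u i * ε = u i
  hvε : ∀ i, ε * v i = v i
  hsum : ∑ i, u i * v i = 1
  hvu : ∀ i j, v i * u j = if i = j then ε else 0

lemma MUnit.vxu_mem (h : MUnit ε u v) (x : R) (i j : Fin n) : v i * x * u j ∈ corner k ε :=
  ⟨by rw [← mul_assoc, ← mul_assoc, h.hvε], by rw [mul_assoc, h.huε]⟩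

lemma MUnit.zt_central (h : MUnit ε u v) (hC : ∀ a ∈ corner k ε, ∀ b ∈ corner k ε, a * b = b * a) {w : R}
    (hw : w ∈ corner k ε) (x : R) : zt u v w * x = x * zt u v w := by
  have h1 : zt u v w * x = ∑ j, ∑ i, u j * (w * (v j * x * u i)) * v i := by
    calc zt u v w * x = zt u v w * x * (∑ i, u i * v i) := by rw [h.hsum, mul_one]
      _ = _ := by
        simp only [zt, Finset.mul_sum, Finset.sum_mul]
        rw [Finset.sum_comm]
        refine Finset.sum_congr rfl fun j _ => Finset.sum_congr rfl fun i _ => ?_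
        noncomm_ring
  have h2 : x * zt u v w = ∑ j, ∑ i, u j * ((v j * x * u i) * w) * v i := by
    calc x * zt u v w = (∑ j, u j * v j) * x * zt u v w := by rw [h.hsum, one_mul]
      _ = _ := by
        simp only [zt, Finset.mul_sum, Finset.sum_mul]
        rw [Finset.sum_comm]
        refine Finset.sum_congr rfl fun j _ => Finset.sum_congr rfl fun i _ => ?_
        noncomm_ring
  rw [h1, h2]
  refine Finset.sum_congr rfl fun j _ => Finset.sum_congr rfl fun i _ => ?_
  rw [hC w hw _ (h.vxu_mem x j i)]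

lemma MUnit.zt_u (h : MUnit ε u v) {w : R} (hw : w ∈ corner k ε) (i : Fin n) : zt u v w * u i = u i * w := by
  classical
  simp only [zt]
  rw [Finset.sum_mul]
  have : ∀ l, u l * w * v l * u i = if l = i then u i * w else 0 := by
    intro l
    rw [mul_assoc (u l * w), h.hvu]
    split_ifs with h'
    · subst h'
      rw [mul_assoc, hw.2]
    · simp
  simp only [this]
  simp

lemma MUnit.zt_mul_ε [NeZero n] (h : MUnit ε u v) (hC : ∀ a ∈ corner k ε, ∀ b ∈ corner k ε, a * b = b * a) {w : R}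
    (hw : w ∈ corner k ε) : zt u v w * ε = w := by
  have h0 : ε = v 0 * u 0 := by
    rw [h.hvu, if_pos rfl]
  calc zt u v w * ε = zt u v w * v 0 * u 0 := by rw [h0, mul_assoc]
    _ = v 0 * (zt u v w * u 0) := by rw [h.zt_central hC hw, mul_assoc]
    _ = ε * w := by rw [h.zt_u hw, ← mul_assoc, ← h0]
    _ = w := hw.1

lemma MUnit.zt_of_central (h : MUnit ε u v) {z : R} (hz : ∀ x, z * x = x * z) : zt u v (z * ε) = z := by
  simp only [zt]
  have : ∀ i, u i * (z * ε) * v i = z * (u i * v i) := by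
    intro i
    rw [← mul_assoc, ← hz (u i), mul_assoc z, h.huε, mul_assoc]
  simp only [this]
  rw [← Finset.mul_sum, h.hsum, mul_one]

lemma zt_zero : zt u v (0 : R) = 0 := by
  simp [zt]

lemma MUnit.eq_zero_of_mul_ε (h : MUnit ε u v) {z : R} (hz : ∀ x, z * x = x * z) (h0 : z * ε = 0) : z = 0 := by
  rw [← h.zt_of_central hz, h0, zt_zero]

lemma MUnit.expand (h : MUnit ε u v) (r : R) : r = ∑ i, ∑ j, u i * (v i * r * u j) * v j := by
  calc r = 1 * r * 1 := by simp
    _ = (∑ i, u i * v i) * r * (∑ j, u j * v j) := by rw [h.hsum]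
    _ = _ := by
      simp only [Finset.mul_sum, Finset.sum_mul]
      rw [Finset.sum_comm]
      refine Finset.sum_congr rfl fun i _ => Finset.sum_congr rfl fun j _ => ?_
      noncomm_ring

lemma aeval_central {z : R} (hz : ∀ x, z * x = x * z) (P : Polynomial k) (x : R) :
    Polynomial.aeval z P * x = x * Polynomial.aeval z P := by
  induction P using Polynomial.induction_on' with
  | add P Q hP hQ => rw [map_add, add_mul, mul_add, hP, hQ]
  | monomial n a =>
    rw [Polynomial.aeval_monomial, Algebra.algebraMap_eq_smul_one, smul_mul_assoc, one_mul, smul_mul_assoc,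
      mul_smul_comm]
    congr 1
    exact (Commute.pow_left (show Commute z x from hz x) n).eq

lemma pow_mul_ε_of_central {z a : R} (hz : ∀ x, z * x = x * z) (hε : ε * ε = ε) (ha : z * ε = a) (r : ℕ) :
    a ^ r * ε = z ^ r * ε := by
  induction r with
  | zero => simp
  | succ r ih =>
    rw [pow_succ', pow_succ', mul_assoc, ih, ← ha]
    calc z * ε * (z ^ r * ε) = z * (ε * z ^ r) * ε := by simp only [mul_assoc]
      _ = z * (z ^ r * ε) * ε := by
        rw [(Commute.pow_left (show Commute z ε from hz ε) r).eq.symm]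
      _ = z * z ^ r * ε := by simp only [mul_assoc, hε]

lemma aeval_mul_ε_of_central {z a : R} (hz : ∀ x, z * x = x * z) (hε : ε * ε = ε) (ha : z * ε = a)
    (P : Polynomial k) : Polynomial.aeval a P * ε = Polynomial.aeval z P * ε := by
  induction P using Polynomial.induction_on' with
  | add P Q hP hQ => rw [map_add, map_add, add_mul, add_mul, hP, hQ]
  | monomial n c =>
    simp only [Polynomial.aeval_monomial, Algebra.algebraMap_eq_smul_one, smul_mul_assoc, one_mul]
    rw [pow_mul_ε_of_central hz hε ha]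

/-- Independence of the powers of a nilpotent element. -/
lemma coeff_eq_zero_of_sum_pow {w : R} {L : ℕ} (h0 : w ^ L = 0) (h1 : w ^ (L - 1) ≠ 0) (c : ℕ → k)
    (h : ∑ a ∈ Finset.range L, c a • w ^ a = 0) : ∀ a, a < L → c a = 0 := by
  intro a
  induction a using Nat.strong_induction_on with
  | _ a ih =>
    intro ha
    have h2 := congrArg (fun y => w ^ (L - 1 - a) * y) h
    simp only [mul_zero, Finset.mul_sum, mul_smul_comm] at h2
    rw [Finset.sum_eq_single a] at h2
    · rw [← pow_add] at h2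
      have e : L - 1 - a + a = L - 1 := by omega
      rw [e] at h2
      rcases smul_eq_zero.1 h2 with h3 | h3
      · exact h3
      · exact absurd h3 h1
    · intro b hb hba
      have hb' := Finset.mem_range.1 hb
      rcases lt_or_gt_of_ne hba with hlt | hgt
      · rw [ih b hlt hb', zero_smul]
      · rw [← pow_add]
        have e : L - 1 - a + b = (L - 1 - a + b - L) + L := by omega
        rw [e, pow_add, h0, mul_zero, smul_zero]
    · intro h'
      exact absurd (Finset.mem_range.2 ha) h'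

end Zeta

section Main

variable {k R G : Type*} [Field k] [Ring R] [Algebra k R] [FiniteDimensional k R] [Group G] [Finite G]

omit [FiniteDimensional k R] in
lemma cen_add {a b : R} (ha : ∀ x, a * x = x * a) (hb : ∀ x, b * x = x * b) (x : R) :
    (a + b) * x = x * (a + b) := by
  rw [add_mul, mul_add, ha, hb]

omit [FiniteDimensional k R] in
lemma cen_mul {a b : R} (ha : ∀ x, a * x = x * a) (hb : ∀ x, b * x = x * b) (x : R) :
    (a * b) * x = x * (a * b) := by
  rw [mul_assoc, hb, ← mul_assoc, ha, mul_assoc]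

omit [FiniteDimensional k R] in
lemma cen_smul {a : R} (c : k) (ha : ∀ x, a * x = x * a) (x : R) : (c • a) * x = x * (c • a) := by
  rw [smul_mul_assoc, mul_smul_comm, ha]

/-- An automorphism preserves the radical of an algebra with simple quotient. -/
lemma map_ker_of_auto {n : ℕ} [NeZero n] {g : R →ₐ[k] Matrix (Fin n) (Fin n) k} (hgs : Function.Surjective g)
    {J : Ideal R} [J.IsTwoSided] (hJ : IsNilpotent J) (hgk : ∀ x, g x = 0 ↔ x ∈ J)
    {c : R →ₐ[k] R} (hcs : Function.Surjective c) {x : R} (hx : g x = 0) : g (c x) = 0 := by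
  classical
  by_contra hne
  obtain ⟨a, b, hab⟩ : ∃ a b, g (c x) a b ≠ 0 := by
    by_contra hcon
    push Not at hcon
    exact hne (by ext a b; simpa using hcon a b)
  obtain ⟨r₁, hr₁⟩ := hgs (Matrix.single 0 a (1 : k))
  obtain ⟨r₂, hr₂⟩ := hgs (Matrix.single b 0 (1 : k))
  obtain ⟨s₁, rfl⟩ := hcs r₁
  obtain ⟨s₂, rfl⟩ := hcs r₂
  have hy : s₁ * x * s₂ ∈ J := by
    apply J.mul_mem_right
    exact J.mul_mem_left _ ((hgk x).1 hx)
  obtain ⟨N, hN⟩ := isNilpotent_of_mem hJ hy
  have h1 : g (c (s₁ * x * s₂)) = g (c x) a b • Matrix.single 0 0 (1 : k) := by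
    rw [map_mul, map_mul, map_mul, map_mul, hr₁, hr₂, Matrix.single_mul_mul_single]
    ext i j
    simp [Matrix.single_apply]
  set α := g (c x) a b with hα
  have h2 : (α • Matrix.single (0 : Fin n) (0 : Fin n) (1 : k)) ^ N = 0 := by
    rw [← h1, ← map_pow, ← map_pow, hN, map_zero, map_zero]
  have h3 : ∀ N : ℕ, ((α • Matrix.single (0 : Fin n) (0 : Fin n) (1 : k)) ^ N) 0 0 = α ^ N := by
    intro N
    induction N with
    | zero => simp
    | succ N ih =>
      rw [pow_succ, Matrix.mul_apply, Finset.sum_eq_single 0]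
      · rw [ih, pow_succ]
        simp
      · intro j _ hj
        simp [Matrix.single_apply, hj.symm]
      · simp
  have h4 := h3 N
  rw [h2] at h4
  have h5 : α ^ N ≠ 0 := pow_ne_zero _ hab
  exact h5 h4.symm

/-- The eigenvector generator of the centre. -/
lemma exists_eigen_generator {n : ℕ} [NeZero n] [Nontrivial R] {ε : R} {u v : Fin n → R} (h : MUnit ε u v)
    (hC : ∀ a ∈ corner k ε, ∀ b ∈ corner k ε, a * b = b * a) {w₀ : R} (hw₀ : w₀ ∈ corner k ε)
    (hw₀nil : IsNilpotent w₀)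
    (hpoly : ∀ h ∈ corner k ε, ∀ a ∈ corner k ε, ∃ P : Polynomial k, a = Polynomial.aeval (w₀ + w₀ * w₀ * h) P * ε)
    (c : R →ₐ[k] R) {m : ℕ} (hcm : ∀ x, c^[m] x = x) (hm : (m : k) ≠ 0)
    (hZ0 : ∃ z : R, (∀ x, z * x = x * z) ∧ IsNilpotent z ∧ z ≠ 0) :
    ∃ (w : R) (τ : k) (L : ℕ), (∀ x, w * x = x * w) ∧ c w = τ • w ∧ τ ^ m = 1 ∧ 2 ≤ L ∧ w ^ L = 0 ∧ w ^ (L - 1) ≠ 0 ∧
      (∀ z, (∀ x, z * x = x * z) → ∃ P : Polynomial k, z = Polynomial.aeval w P) ∧
      (∀ a ∈ corner k ε, ∃ P : Polynomial k, a = Polynomial.aeval w P * ε) := by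
  classical
  have hm0 : m ≠ 0 := fun h => hm (by simp [h])
  have hε := h.hε
  set w₁ := zt u v w₀ with hw₁
  have hw₁c : ∀ x, w₁ * x = x * w₁ := h.zt_central hC hw₀
  have hw₁ε : w₁ * ε = w₀ := h.zt_mul_ε hC hw₀
  have hzε : ∀ z, (∀ x, z * x = x * z) → z * ε ∈ corner k ε := by
    intro z hz
    refine ⟨?_, ?_⟩
    · rw [← mul_assoc, ← hz ε, mul_assoc, hε]
    · rw [mul_assoc, hε]
  -- central elements from polynomials in a generator
  have hcent : ∀ w : R, (∀ x, w * x = x * w) → (∀ a ∈ corner k ε, ∃ P : Polynomial k, a = Polynomial.aeval w P * ε) →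
      ∀ z, (∀ x, z * x = x * z) → ∃ P : Polynomial k, z = Polynomial.aeval w P := by
    intro w hw hP z hz
    obtain ⟨P, hP'⟩ := hP _ (hzε z hz)
    refine ⟨P, ?_⟩
    rw [← h.zt_of_central hz, hP', h.zt_of_central (aeval_central hw P)]
  have hP₁ : ∀ a ∈ corner k ε, ∃ P : Polynomial k, a = Polynomial.aeval w₁ P * ε := by
    intro a ha
    obtain ⟨P, hP⟩ := hpoly 0 (Submodule.zero_mem _) a ha
    refine ⟨P, ?_⟩
    rw [hP, mul_zero, add_zero, aeval_mul_ε_of_central hw₁c hε hw₁ε]
  have hcent₁ := hcent w₁ hw₁c hP₁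
  have hw₁nil : IsNilpotent w₁ := by
    obtain ⟨s, hs⟩ := hw₀nil
    refine ⟨s, ?_⟩
    apply h.eq_zero_of_mul_ε
    · intro x
      exact (Commute.pow_left (show Commute w₁ x from hw₁c x) s).eq
    · rw [← pow_mul_ε_of_central hw₁c hε hw₁ε, hs, zero_mul]
  -- central nilpotent elements are multiples of `w₁`
  have hmult : ∀ z, (∀ x, z * x = x * z) → IsNilpotent z → ∃ b, (∀ x, b * x = x * b) ∧ z = w₁ * b := by
    intro z hz hzn
    obtain ⟨P, hP⟩ := hcent₁ z hz
    have e : z = w₁ * Polynomial.aeval w₁ P.divX + P.coeff 0 • 1 := by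
      conv_lhs => rw [hP, ← Polynomial.divX_mul_X_add P]
      simp only [map_add, map_mul, Polynomial.aeval_X, Polynomial.aeval_C, Algebra.algebraMap_eq_smul_one]
      rw [(aeval_central hw₁c P.divX w₁)]
    have hcoef : P.coeff 0 = 0 := by
      by_contra hne
      set b := w₁ * Polynomial.aeval w₁ P.divX with hb
      have hbn : IsNilpotent b := (show Commute w₁ _ from hw₁c _).isNilpotent_mul_right hw₁nil
      have hs : P.coeff 0 • (1 : R) = z - b := by rw [e]; abel
      have h1 : IsNilpotent (P.coeff 0 • (1 : R)) := by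
        rw [hs]
        refine Commute.isNilpotent_sub ?_ hzn hbn
        exact hz b
      obtain ⟨s, hs'⟩ := h1
      rw [smul_pow, one_pow] at hs'
      rcases smul_eq_zero.1 hs' with h2 | h2
      · exact pow_ne_zero s hne h2
      · exact one_ne_zero h2
    refine ⟨Polynomial.aeval w₁ P.divX, aeval_central hw₁c _, ?_⟩
    rw [e, hcoef, zero_smul, add_zero]
  have hw₁0 : w₁ ≠ 0 := by
    obtain ⟨z, hz, hzn, hz0⟩ := hZ0
    obtain ⟨b, _, hb⟩ := hmult z hz hzn
    intro h0
    rw [h0, zero_mul] at hb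
    exact hz0 hb
  -- units
  have hunit : ∀ (a : k) (b : R), a ≠ 0 → (∀ x, b * x = x * b) → ∀ y, (a • 1 + w₁ * b) * y = 0 → y = 0 := by
    intro a b ha hb y hy
    have hn : IsNilpotent (w₁ * (a⁻¹ • b)) :=
      (show Commute w₁ _ from hw₁c _).isNilpotent_mul_right hw₁nil
    obtain ⟨U, hU⟩ := hn.isUnit_one_add
    have e : a • 1 + w₁ * b = a • (1 + w₁ * (a⁻¹ • b)) := by
      rw [smul_add, mul_smul_comm, smul_smul, mul_inv_cancel₀ ha, one_smul]
    rw [e, smul_mul_assoc] at hy
    have h2 : (1 + w₁ * (a⁻¹ • b)) * y = 0 := by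
      rcases smul_eq_zero.1 hy with h3 | h3
      · exact absurd h3 ha
      · exact h3
    rw [← hU] at h2
    exact U.mul_right_eq_zero.1 h2
  -- the automorphism on the centre
  obtain ⟨r, rfl⟩ : ∃ r, m = r + 1 := ⟨m - 1, by omega⟩
  have hcs : ∀ x, c (c^[r] x) = x := fun x => by
    have := hcm x
    rwa [Function.iterate_succ_apply'] at this
  have hcc : ∀ z, (∀ x, z * x = x * z) → ∀ x, c z * x = x * c z := by
    intro z hz x
    rw [← hcs x, ← map_mul, ← map_mul, hz]
  have hnilc : IsNilpotent (c w₁) := hw₁nil.map c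
  obtain ⟨b₀, hb₀c, hb₀⟩ := hmult (c w₁) (hcc w₁ hw₁c) hnilc
  obtain ⟨Q, hQ⟩ := hcent₁ b₀ hb₀c
  set τ := Q.coeff 0 with hτ
  set h₁ := Polynomial.aeval w₁ Q.divX with hh₁
  have hh₁c : ∀ x, h₁ * x = x * h₁ := aeval_central hw₁c _
  have eb₀ : b₀ = τ • 1 + w₁ * h₁ := by
    conv_lhs => rw [hQ, ← Polynomial.divX_mul_X_add Q]
    simp only [map_add, map_mul, Polynomial.aeval_X, Polynomial.aeval_C, Algebra.algebraMap_eq_smul_one]
    rw [aeval_central hw₁c Q.divX w₁, add_comm]
  -- the iterates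
  have hiter : ∀ i : ℕ, ∃ hi : R, (∀ x, hi * x = x * hi) ∧ c^[i] w₁ = τ ^ i • w₁ + w₁ * (w₁ * hi) := by
    intro i
    induction i with
    | zero => exact ⟨0, by simp, by simp⟩
    | succ i ih =>
      obtain ⟨hi, hic, hie⟩ := ih
      refine ⟨τ ^ i • h₁ + b₀ * (b₀ * c hi), ?_, ?_⟩
      · exact cen_add (cen_smul _ hh₁c) (cen_mul hb₀c (cen_mul hb₀c (hcc hi hic)))
      · rw [Function.iterate_succ_apply', hie, map_add, map_smul, map_mul, map_mul, hb₀]
        have e1 : w₁ * b₀ * (w₁ * b₀ * c hi) = w₁ * (w₁ * (b₀ * (b₀ * c hi))) := by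
          calc w₁ * b₀ * (w₁ * b₀ * c hi) = w₁ * (b₀ * w₁) * (b₀ * c hi) := by simp only [mul_assoc]
            _ = w₁ * (w₁ * b₀) * (b₀ * c hi) := by rw [hb₀c]
            _ = _ := by simp only [mul_assoc]
        rw [e1, eb₀]
        simp only [mul_add, add_mul, smul_add, mul_smul_comm, smul_mul_assoc, mul_one, one_mul, pow_succ, smul_smul,
          mul_assoc]
        have e2 : τ ^ i * τ = τ ^ i * τ := rfl
        abel
  choose hh hhc hhe using hiter
  have hτm : τ ^ (r + 1) = 1 := by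
    by_contra hne
    have h2 := hhe (r + 1)
    rw [hcm] at h2
    have hne' : τ ^ (r + 1) - 1 ≠ 0 := sub_ne_zero.2 hne
    apply hw₁0
    refine hunit _ (hh (r + 1)) hne' (hhc _) _ ?_
    rw [add_mul, smul_mul_assoc, one_mul, sub_smul, one_smul, mul_assoc, hhc (r + 1) w₁, sub_add_eq_add_sub, ← h2,
      sub_self]
  have hτ0 : τ ≠ 0 := by
    intro h0
    rw [h0, zero_pow (Nat.succ_ne_zero r)] at hτm
    exact zero_ne_one hτm
  let c' : End k R := c.toLinearMap
  have hc'pow : ∀ (i : ℕ) (x : R), (c' ^ i) x = c^[i] x := fun i x => by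
    rw [Module.End.pow_apply]
    rfl
  have hc'm : c' ^ (r + 1) = 1 := by
    ext x
    rw [hc'pow, hcm]
    rfl
  set w := avgOp c' (r + 1) τ w₁ with hwdef
  have hwc : c w = τ • w := t_avgOp hc'm hτm hm w₁
  set h' : R := ((r + 1 : ℕ) : k)⁻¹ • ∑ i ∈ Finset.range (r + 1), (τ⁻¹) ^ i • hh i with hh'
  have hh'c : ∀ x, h' * x = x * h' := by
    intro x
    rw [hh', smul_mul_assoc, mul_smul_comm, Finset.sum_mul, Finset.mul_sum]
    congr 1
    refine Finset.sum_congr rfl fun i _ => ?_
    rw [smul_mul_assoc, mul_smul_comm, hhc]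
  have hweq : w = w₁ + w₁ * (w₁ * h') := by
    rw [hwdef]
    unfold avgOp
    simp only [LinearMap.smul_apply, LinearMap.sum_apply, hc'pow, hhe]
    have e1 : ∀ i ∈ Finset.range (r + 1), τ⁻¹ ^ i • (τ ^ i • w₁ + w₁ * (w₁ * hh i)) =
        w₁ + w₁ * (w₁ * (τ⁻¹ ^ i • hh i)) := by
      intro i _
      rw [smul_add, smul_smul, ← mul_pow, inv_mul_cancel₀ hτ0, one_pow, one_smul, mul_smul_comm, mul_smul_comm]
    rw [Finset.sum_congr rfl e1, Finset.sum_add_distrib, Finset.sum_const, Finset.card_range, smul_add,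
      ← Nat.cast_smul_eq_nsmul k, smul_smul, inv_mul_cancel₀ hm, one_smul, hh', mul_smul_comm, mul_smul_comm,
      Finset.mul_sum, Finset.mul_sum]
  have hwcen : ∀ x, w * x = x * w := by
    rw [hweq]
    exact cen_add hw₁c (cen_mul hw₁c (cen_mul hw₁c hh'c))
  have hwε : w * ε = w₀ + w₀ * w₀ * (h' * ε) := by
    rw [hweq, add_mul, hw₁ε, ← hw₁ε]
    congr 1
    calc w₁ * (w₁ * h') * ε = w₁ * w₁ * (h' * ε) := by simp only [mul_assoc]
      _ = w₁ * w₁ * ((ε * h') * ε) := by rw [← hh'c ε, mul_assoc h', hε]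
      _ = w₁ * (w₁ * ε) * (h' * ε) := by simp only [mul_assoc]
      _ = w₁ * (ε * w₁) * (h' * ε) := by rw [hw₁c ε]
      _ = (w₁ * ε) * w₁ * (ε * (h' * ε)) := by
        have e : ε * (h' * ε) = h' * ε := by rw [← mul_assoc, ← hh'c ε, mul_assoc, hε]
        rw [e]
        simp only [mul_assoc]
      _ = (w₁ * ε) * (w₁ * ε) * (h' * ε) := by simp only [mul_assoc]
  have hP : ∀ a ∈ corner k ε, ∃ P : Polynomial k, a = Polynomial.aeval w P * ε := by
    intro a ha
    obtain ⟨P, hP⟩ := hpoly (h' * ε) (hzε h' hh'c) a ha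
    refine ⟨P, ?_⟩
    rw [hP, ← hwε, aeval_mul_ε_of_central hwcen hε rfl]
  have hcentw := hcent w hwcen hP
  have hwfac : w = w₁ * (1 + w₁ * h') := by rw [hweq, mul_add, mul_one]
  have hwnil : IsNilpotent w := by
    rw [hwfac]
    exact (show Commute w₁ _ from hw₁c _).isNilpotent_mul_right hw₁nil
  have hw0 : w ≠ 0 := by
    intro h0
    apply hw₁0
    refine hunit 1 h' one_ne_zero hh'c _ ?_
    rw [one_smul, ← hw₁c, ← hwfac, h0]
  have hLspec := Nat.find_spec hwnil
  have hLmin := fun a => Nat.find_min hwnil (m := a)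
  set L := Nat.find hwnil with hL
  have hL2 : 2 ≤ L := by
    by_contra hlt
    have h2 : L = 0 ∨ L = 1 := by omega
    rcases h2 with h2 | h2
    · rw [h2, pow_zero] at hLspec
      exact one_ne_zero hLspec
    · rw [h2, pow_one] at hLspec
      exact hw0 hLspec
  exact ⟨w, τ, L, hwcen, hwc, hτm, hL2, hLspec, hLmin (L - 1) (by omega), hcentw, hP⟩

/-- A fixed idempotent equivalent to `ε`. -/
lemma exists_fixed_idem {n : ℕ} [NeZero n] [IsAlgClosed k] {g : R →ₐ[k] Matrix (Fin n) (Fin n) k}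
    (hgs : Function.Surjective g)
    {J : Ideal R} [J.IsTwoSided] (hJ : IsNilpotent J) (hgk : ∀ x, g x = 0 ↔ x ∈ J)
    {c : R →ₐ[k] R} {m : ℕ} (hcm : ∀ x, c^[m] x = x) (hm : (m : k) ≠ 0) {ε : R} (hε : ε * ε = ε)
    (hgε : g ε = Matrix.single 0 0 (1 : k)) :
    ∃ ι a b : R, ι * ι = ι ∧ c ι = ι ∧ b * a = ε ∧ a * b = ι ∧ ι * a = a ∧ a * ε = a ∧ ε * b = b ∧ b * ι = b := by
  classical
  have hm0 : m ≠ 0 := fun h => hm (by simp [h])
  obtain ⟨r, rfl⟩ : ∃ r, m = r + 1 := ⟨m - 1, by omega⟩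
  have hcs : ∀ x, c (c^[r] x) = x := fun x => by
    have := hcm x
    rwa [Function.iterate_succ_apply'] at this
  have hcsurj : Function.Surjective c := fun x => ⟨_, hcs x⟩
  have hker : ∀ x, g x = 0 → g (c x) = 0 := fun x hx => map_ker_of_auto hgs hJ hgk hcsurj hx
  -- the induced automorphism
  let s : Matrix (Fin n) (Fin n) k → R := Function.surjInv hgs
  have hs : ∀ A, g (s A) = A := Function.surjInv_eq hgs
  have hsc : ∀ x, g (c (s (g x))) = g (c x) := by
    intro x
    have h1 : g (s (g x) - x) = 0 := by rw [map_sub, hs, sub_self]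
    have h2 := hker _ h1
    rw [map_sub, map_sub, sub_eq_zero] at h2
    exact h2
  let γ : Matrix (Fin n) (Fin n) k →ₐ[k] Matrix (Fin n) (Fin n) k :=
    { toFun := fun A => g (c (s A))
      map_one' := by
        have := hsc 1
        rwa [map_one, map_one, map_one] at this
      map_mul' := by
        intro A B
        have := hsc (s A * s B)
        rw [map_mul, hs, hs] at this
        rw [this, map_mul, map_mul]
      map_zero' := by
        have := hsc 0
        rwa [map_zero, map_zero, map_zero] at this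
      map_add' := by
        intro A B
        have := hsc (s A + s B)
        rw [map_add, hs, hs] at this
        rw [this, map_add, map_add]
      commutes' := by
        intro a
        have := hsc (algebraMap k R a)
        rw [AlgHom.commutes, AlgHom.commutes, AlgHom.commutes] at this
        rw [this] }
  have hγg : ∀ x, γ (g x) = g (c x) := hsc
  have hγi : ∀ (i : ℕ) (x : R), γ^[i] (g x) = g (c^[i] x) := by
    intro i x
    induction i with
    | zero => rfl
    | succ i ih => rw [Function.iterate_succ_apply', Function.iterate_succ_apply', ih, hγg]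
  obtain ⟨g₀, ξ, hξ, hfix⟩ := exists_fixed_rank_one γ (m := r + 1) (fun A => by
    obtain ⟨x, rfl⟩ := hgs A
    rw [hγi, hcm]) hm
  set ι₀ : Matrix (Fin n) (Fin n) k := vecMulVec g₀ ξ with hι₀
  have hι₀i : ι₀ * ι₀ = ι₀ := by
    rw [hι₀, vecMulVec_mul_vecMulVec, hξ, one_smul]
  -- a fixed preimage
  let c' : End k R := c.toLinearMap
  have hc'pow : ∀ (i : ℕ) (x : R), (c' ^ i) x = c^[i] x := fun i x => by
    rw [Module.End.pow_apply]
    rfl
  have hc'm : c' ^ (r + 1) = 1 := by
    ext x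
    rw [hc'pow, hcm]
    rfl
  set p₁ := avgOp c' (r + 1) 1 (s ι₀) with hp₁
  have hcp₁ : c p₁ = p₁ := by
    have := t_avgOp hc'm (one_pow _) hm (s ι₀)
    rw [one_smul] at this
    exact this
  have hgp₁ : g p₁ = ι₀ := by
    rw [hp₁]
    unfold avgOp
    simp only [LinearMap.smul_apply, LinearMap.sum_apply, hc'pow, map_smul, map_sum, inv_one, one_pow, one_smul]
    have hiter : ∀ i : ℕ, γ^[i] ι₀ = ι₀ := by
      intro i
      induction i with
      | zero => rfl
      | succ i ih => rw [Function.iterate_succ_apply', ih, hfix]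
    have h1 : ∀ i ∈ Finset.range (r + 1), g (c^[i] (s ι₀)) = ι₀ := by
      intro i _
      rw [← hγi, hs, hiter]
    rw [Finset.sum_congr rfl h1, Finset.sum_const, Finset.card_range, ← Nat.cast_smul_eq_nsmul k, smul_smul,
      inv_mul_cancel₀ hm, one_smul]
  -- an idempotent in the fixed subalgebra
  let S := Algebra.adjoin k ({p₁} : Set R)
  let fS : S →+* Matrix (Fin n) (Fin n) k := ((g.comp S.val : S →ₐ[k] Matrix (Fin n) (Fin n) k) : S →+* _)
  have hfS : ∀ x : S, fS x = g x.1 := fun _ => rfl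
  have hnilS : ∀ x ∈ RingHom.ker fS, IsNilpotent x := by
    intro x hx
    have h1 : g x.1 = 0 := hx
    obtain ⟨N, hN⟩ := isNilpotent_of_mem hJ ((hgk _).1 h1)
    exact ⟨N, Subtype.ext (by simpa using hN)⟩
  obtain ⟨e', he', hfe'⟩ := exists_isIdempotentElem_eq_of_ker_isNilpotent fS hnilS ι₀
    ⟨⟨p₁, Algebra.subset_adjoin (Set.mem_singleton _)⟩, hgp₁⟩ hι₀i
  have hSfix : ∀ x ∈ S, c x = x := by
    intro x hx
    induction hx using Algebra.adjoin_induction with
    | mem x hx =>
      rw [Set.mem_singleton_iff] at hx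
      rw [hx, hcp₁]
    | algebraMap a => exact AlgHom.commutes _ _
    | add x y _ _ hx hy => rw [map_add, hx, hy]
    | mul x y _ _ hx hy => rw [map_mul, hx, hy]
  set ι : R := e'.1 with hι
  have hιι : ι * ι = ι := congrArg Subtype.val he'.eq
  have hcι : c ι = ι := hSfix _ e'.2
  have hgι : g ι = ι₀ := hfe'
  -- the equivalence with `ε`
  let e₀ : Fin n → k := Pi.single 0 1
  have he₀ : e₀ ⬝ᵥ e₀ = 1 := by
    simp [e₀]
  have hE : (Matrix.single 0 0 (1 : k) : Matrix (Fin n) (Fin n) k) = vecMulVec e₀ e₀ := by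
    ext i j
    by_cases hi : i = 0 <;> by_cases hj : j = 0 <;>
      simp [e₀, vecMulVec_apply, Matrix.single_apply, Pi.single_apply, hi, hj, eq_comm]
  set P : Matrix (Fin n) (Fin n) k := vecMulVec g₀ e₀ with hP
  set P' : Matrix (Fin n) (Fin n) k := vecMulVec e₀ ξ with hP'
  set a := ι * s P * ε with ha
  set b₀ := ε * s P' * ι with hb₀
  have hga : g a = P := by
    rw [ha, map_mul, map_mul, hgι, hs, hgε, hE, hι₀, hP, vecMulVec_mul_vecMulVec, hξ, one_smul,
      vecMulVec_mul_vecMulVec, he₀, one_smul]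
  have hgb₀ : g b₀ = P' := by
    rw [hb₀, map_mul, map_mul, hgι, hs, hgε, hE, hι₀, hP', vecMulVec_mul_vecMulVec, he₀, one_smul,
      vecMulVec_mul_vecMulVec, hξ, one_smul]
  have hιa : ι * a = a := by simp only [ha, ← mul_assoc, hιι]
  have haε : a * ε = a := by simp only [ha, mul_assoc, hε]
  have hεb₀ : ε * b₀ = b₀ := by simp only [hb₀, ← mul_assoc, hε]
  have hb₀ι : b₀ * ι = b₀ := by simp only [hb₀, mul_assoc, hιι]
  set n₀ := b₀ * a - ε with hn₀
  have hgn₀ : g n₀ = 0 := by
    rw [hn₀, map_sub, map_mul, hga, hgb₀, hgε, hE, hP, hP', vecMulVec_mul_vecMulVec, hξ, one_smul, sub_self]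
  have hn₀nil : IsNilpotent n₀ := isNilpotent_of_mem hJ ((hgk _).1 hgn₀)
  obtain ⟨U, hU⟩ := hn₀nil.isUnit_one_add
  set y₀ : R := ((U⁻¹ : Rˣ) : R) with hy₀
  have hy₀1 : y₀ * (1 + n₀) = 1 := by rw [← hU]; exact U.inv_mul
  have hgy₀ : g y₀ = 1 := by
    have := congrArg g hy₀1
    rwa [map_mul, map_add, map_one, hgn₀, add_zero, mul_one] at this
  set b := ε * y₀ * b₀ with hb
  have hba : b * a = ε := by
    have e1 : b₀ * a = (1 + n₀) * ε := by
      rw [add_mul, one_mul, hn₀, sub_mul, mul_assoc b₀ a ε, haε, hε]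
      abel
    calc b * a = ε * y₀ * (b₀ * a) := by simp only [hb, mul_assoc]
      _ = ε * (y₀ * (1 + n₀)) * ε := by rw [e1]; simp only [mul_assoc]
      _ = ε := by rw [hy₀1, mul_one, hε]
  have hgb : g b = P' := by
    rw [hb, map_mul, map_mul, hgy₀, mul_one, hgb₀, hgε, hE, hP', vecMulVec_mul_vecMulVec, he₀, one_smul]
  have hεb : ε * b = b := by simp only [hb, ← mul_assoc, hε]
  have hbι : b * ι = b := by simp only [hb, mul_assoc, hb₀ι]
  have hab : a * b = ι := by
    set d := ι - a * b with hd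
    have hdd : d * d = d := by
      have e1 : (a * b) * (a * b) = a * b := by
        calc (a * b) * (a * b) = a * (b * a) * b := by simp only [mul_assoc]
          _ = a * b := by rw [hba, haε]
      have e2 : ι * (a * b) = a * b := by rw [← mul_assoc, hιa]
      have e3 : (a * b) * ι = a * b := by rw [mul_assoc, hbι]
      rw [hd, sub_mul, mul_sub, mul_sub, hιι, e1, e2, e3]
      abel
    have hgd : g d = 0 := by
      rw [hd, map_sub, map_mul, hga, hgb, hgι, hι₀, hP, hP', vecMulVec_mul_vecMulVec, he₀, one_smul, sub_self]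
    obtain ⟨N, hN⟩ := isNilpotent_of_mem hJ ((hgk _).1 hgd)
    have hpow : ∀ i : ℕ, d ^ (i + 1) = d := by
      intro i
      induction i with
      | zero => simp
      | succ i ih => rw [pow_succ, ih, hdd]
    have hd0 : d = 0 := by
      rw [← hpow N, pow_succ, hN, zero_mul]
    exact (sub_eq_zero.1 hd0).symm
  exact ⟨ι, a, b, hιι, hcι, hba, hab, hιa, haε, hεb, hbι⟩

end Main

end Cfsg.Agent.Lib.Dade
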