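import Mathlib
import Cfsg.Agent.Lib.Dade.CB

/-!
# The structure of an algebra with one simple module, one self extension and an automorphism, III
-/

set_option autoImplicit false
set_option linter.unusedSectionVars false
set_option linter.style.haveILetI false

namespace Cfsg.Agent.Lib.Dade

open Module Matrix Cfsg.Agent.Lib.Blocks.SymLocal Cfsg.Agent.Lib.Blocks.SymCom Cfsg.Agent.Lib.Blocks.RepFin

section Main

variable {k R G : Type*} [Field k] [Ring R] [Algebra k R] [FiniteDimensional k R] [Group G] [Finite G]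

open Classical in
/-- **The structure theorem.** -/
theorem exists_cyc_structure [IsAlgClosed k] [Nontrivial R] {p : ℕ} [hp : Fact p.Prime] (hpk : (p : k) = 0)
    (t : R →ₗ[k] k) (ht : ∀ x y, t (x * y) = t (y * x)) (hnd : ∀ x, (∀ y, t (x * y) = 0) → x = 0)
    (hfac : ∀ (m : ℕ) (d : Fin m → ℕ) (f : R →ₐ[k] (Π i, Matrix (Fin (d i)) (Fin (d i)) k)),
      (∀ i, NeZero (d i)) → Function.Surjective f → m ≤ 1)
    (ρ : G →* R) (hρ : Submodule.span k (Set.range ρ) = ⊤)
    {y : G} {m' : ℕ} (hy : y ^ p ^ m' = 1) {g₀ : G} (hg₀ : y * g₀ = g₀ * y)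
    {D : Subgroup G} (hDy : ∀ d ∈ D, ∃ l : ℕ, y ^ l = d) [Fintype (G ⧸ D)]
    (hz : ¬ IsNilpotent (transferW D ρ ρ g₀))
    (c : R →ₐ[k] R) {m : ℕ} (hcm : ∀ x, c^[m] x = x) (hm : (m : k) ≠ 0)
    (hZ0 : ∃ z : R, (∀ x, z * x = x * z) ∧ IsNilpotent z ∧ z ≠ 0) :
    ∃ (n : ℕ) (ι w : R) (u v : Fin n → R) (τ : k) (L : ℕ), 0 < n ∧ c ι = ι ∧
      MUnit ι u v ∧ (∀ x, w * x = x * w) ∧ c w = τ • w ∧ τ ^ m = 1 ∧ 2 ≤ L ∧ w ^ L = 0 ∧ w ^ (L - 1) ≠ 0 ∧
      (∀ z, (∀ x, z * x = x * z) → ∃ P : Polynomial k, z = Polynomial.aeval w P) ∧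
      (∀ x, ι * x * ι = x → ∃ P : Polynomial k, x = Polynomial.aeval w P * ι) ∧
      (∀ r, r ∈ Submodule.span k {x | ∃ z, (∀ y, z * y = y * z) ∧ ∃ i j, x = z * (u i * v j)}) ∧
      n * n * L ≤ finrank k R := by
  haveI : IsArtinianRing R := IsArtinianRing.of_finite k R
  set J := Ring.jacobson R with hJdef
  have hn : IsNilpotent J := IsSemiprimaryRing.isNilpotent
  let q : R →ₐ[k] R ⧸ J := Ideal.Quotient.mkₐ k J
  have hqs : Function.Surjective q := Ideal.Quotient.mk_surjective
  haveI : FiniteDimensional k (R ⧸ J) := Module.Finite.of_surjective q.toLinearMap hqs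
  obtain ⟨m₀, d, hd, ⟨e⟩⟩ := IsSemisimpleRing.exists_algEquiv_pi_matrix_of_isAlgClosed (F := k) (R := R ⧸ J)
  let f : R →ₐ[k] (Π i, Matrix (Fin (d i)) (Fin (d i)) k) := (e : (R ⧸ J) →ₐ[k] _).comp q
  have hfs : Function.Surjective f := e.surjective.comp hqs
  have hfk : ∀ x, f x = 0 ↔ x ∈ J := by
    intro x
    change e (q x) = 0 ↔ _
    rw [EmbeddingLike.map_eq_zero_iff]
    exact Ideal.Quotient.eq_zero_iff_mem
  have hm0 : m₀ ≠ 0 := by
    rintro rfl
    have h1 : (1 : R) ∈ J := by
      rw [← hfk]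
      exact Subsingleton.elim _ _
    have h2 := Ring.jacobson_lt_top R
    exact h2.ne ((Ideal.eq_top_iff_one J).2 h1)
  have hm1 : m₀ = 1 := by
    have := hfac m₀ d f hd hfs
    omega
  subst hm1
  haveI := hd 0
  let g : R →ₐ[k] Matrix (Fin (d 0)) (Fin (d 0)) k := (Pi.evalAlgHom k _ (0 : Fin 1)).comp f
  have hgs : Function.Surjective g := by
    intro M
    obtain ⟨x, hx⟩ := hfs (Pi.single (0 : Fin 1) M)
    refine ⟨x, ?_⟩
    change f x 0 = M
    rw [hx, Pi.single_eq_same]
  have hgk : ∀ x, g x = 0 ↔ x ∈ J := by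
    intro x
    rw [← hfk]
    constructor
    · intro h
      funext i
      have : i = 0 := Subsingleton.elim _ _
      subst this
      exact h
    · intro h
      change f x 0 = 0
      rw [h]
      rfl
  obtain ⟨ε, u, v, hε, huε, hvε, hsum, hvu, hfε⟩ := exists_matrix_units g hgs hn hgk
  have hMU : MUnit ε u v := ⟨hε.eq, huε, hvε, hsum, hvu⟩
  have hz' : g (transferW D ρ ρ g₀) ≠ 0 := by
    intro h0
    exact hz (isNilpotent_of_mem hn ((hgk _).1 h0))
  obtain ⟨w₀, hw₀, hgw₀, hC, hpoly⟩ := corner_one_gen hpk t ht hnd g hn hgk hε huε hvε hsum hvu hfε ρ hρ hy hg₀ hDy hz'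
  have hw₀nil : IsNilpotent w₀ := isNilpotent_of_mem hn ((hgk _).1 hgw₀)
  obtain ⟨w, τ, L, hwc, hcw, hτm, hL2, hL0, hL1, hcent, hP⟩ := exists_eigen_generator hMU hC hw₀ hw₀nil hpoly c hcm hm hZ0
  obtain ⟨ι, a, b, hιι, hcι, hba, hab, hιa, haε, hεb, hbι⟩ := exists_fixed_idem hgs hn hgk hcm hm hε.eq hfε
  -- the new matrix units
  have hMU' : MUnit ι (fun i => u i * b) (fun i => a * v i) := by
    refine ⟨hιι, fun i => by simp only [mul_assoc, hbι], fun i => by simp only [← mul_assoc, hιa], ?_, ?_⟩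
    · have e1 : ∀ i, u i * b * (a * v i) = u i * v i := by
        intro i
        calc u i * b * (a * v i) = u i * (b * a) * v i := by simp only [mul_assoc]
          _ = u i * v i := by rw [hba, huε]
      simp only [e1]
      exact hsum
    · intro i j
      calc a * v i * (u j * b) = a * (v i * u j) * b := by simp only [mul_assoc]
        _ = _ := by
          rw [hvu]
          split_ifs
          · rw [haε, hab]
          · simp
  refine ⟨d 0, ι, w, fun i => u i * b, fun i => a * v i, τ, L, Nat.pos_of_ne_zero (NeZero.ne _), hcι, hMU', hwc, hcw,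
    hτm, hL2, hL0, hL1, hcent, ?_, ?_, ?_⟩
  · -- the corner of `ι`
    intro x hx
    have hy : b * x * a ∈ corner k ε := ⟨by rw [← mul_assoc, ← mul_assoc, hεb], by rw [mul_assoc, haε]⟩
    obtain ⟨P, hP'⟩ := hP _ hy
    refine ⟨P, ?_⟩
    have hcP := aeval_central hwc P
    calc x = ι * x * ι := hx.symm
      _ = a * (b * x * a) * b := by rw [← hab]; simp only [mul_assoc]
      _ = a * (Polynomial.aeval w P * ε) * b := by rw [← hP']
      _ = Polynomial.aeval w P * (a * ε) * b := by rw [← mul_assoc a, ← hcP a, mul_assoc (Polynomial.aeval w P) a ε]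
      _ = _ := by rw [haε, mul_assoc, hab]
  · -- the span
    intro r
    have e1 : ∀ i j, u i * (v i * r * u j) * v j = zt u v (v i * r * u j) * (u i * b * (a * v j)) := by
      intro i j
      have e2 : u i * b * (a * v j) = u i * v j := by
        calc u i * b * (a * v j) = u i * (b * a) * v j := by simp only [mul_assoc]
          _ = u i * v j := by rw [hba, huε]
      rw [e2, ← mul_assoc (zt u v (v i * r * u j)), hMU.zt_u (k := k) (hMU.vxu_mem r i j)]
    rw [hMU.expand r]
    simp only [e1]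
    refine Submodule.sum_mem _ fun i _ => Submodule.sum_mem _ fun j _ => Submodule.subset_span ?_
    exact ⟨_, hMU.zt_central hC (hMU.vxu_mem r i j), i, j, rfl⟩
  · -- the dimension
    let Φ : (Fin L × Fin (d 0) × Fin (d 0) → k) →ₗ[k] R :=
      { toFun := fun c' => ∑ x, c' x • (w ^ (x.1 : ℕ) * (u x.2.1 * v x.2.2))
        map_add' := by
          intro a b
          simp [add_smul, Finset.sum_add_distrib]
        map_smul' := by
          intro c' a
          simp [Finset.smul_sum, smul_smul] }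
    have hΦ : Function.Injective Φ := by
      rw [← LinearMap.ker_eq_bot, LinearMap.ker_eq_bot']
      intro c' hc'
      funext ⟨l₀, i₀, j₀⟩
      have h1 : ∑ x, c' x • (w ^ (x.1 : ℕ) * (u x.2.1 * v x.2.2)) = 0 := hc'
      have hwn : ∀ (n : ℕ) (x : R), w ^ n * x = x * w ^ n := fun n x =>
        (Commute.pow_left (show Commute w x from hwc x) n).eq
      have h2 : ∀ x : Fin L × Fin (d 0) × Fin (d 0), v i₀ * (c' x • (w ^ (x.1 : ℕ) * (u x.2.1 * v x.2.2))) * u j₀ =
          if x.2 = (i₀, j₀) then c' x • (w ^ (x.1 : ℕ) * ε) else 0 := by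
        rintro ⟨l, i, j⟩
        have e1 : v i₀ * (c' (l, i, j) • (w ^ (l : ℕ) * (u i * v j))) * u j₀ =
            c' (l, i, j) • (w ^ (l : ℕ) * ((v i₀ * u i) * (v j * u j₀))) := by
          rw [mul_smul_comm, smul_mul_assoc, ← mul_assoc, ← hwn (l : ℕ) (v i₀)]
          simp only [mul_assoc]
        simp only [e1, hvu]
        by_cases hi : i₀ = i
        · subst hi
          by_cases hj : j = j₀
          · subst hj
            simp [hε.eq]
          · simp [hj]
        · have : ¬ (i, j) = (i₀, j₀) := fun h => hi (congrArg Prod.fst h).symm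
          simp [hi, this]
      have h3 := congrArg (fun y => v i₀ * y * u j₀) h1
      simp only [Finset.mul_sum, Finset.sum_mul, mul_zero, zero_mul, h2] at h3
      -- the sum over the powers
      have h4 : ∑ l : Fin L, c' (l, i₀, j₀) • (w ^ (l : ℕ) * ε) = 0 := by
        rw [← h3, Finset.sum_ite, Finset.sum_const_zero, add_zero]
        symm
        refine Finset.sum_bij' (fun x _ => x.1) (fun l _ => (l, i₀, j₀)) ?_ ?_ ?_ ?_ ?_
        · intro x _
          exact Finset.mem_univ _
        · intro l _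
          simp
        · rintro ⟨l, i, j⟩ hx
          simp only [Finset.mem_filter, Finset.mem_univ, true_and] at hx
          simp [Prod.ext_iff] at hx ⊢
          exact ⟨hx.1.symm, hx.2.symm⟩
        · intro l _
          rfl
        · rintro ⟨l, i, j⟩ hx
          simp only [Finset.mem_filter, Finset.mem_univ, true_and] at hx
          simp [Prod.ext_iff] at hx
          rw [hx.1, hx.2]
      set z : R := ∑ l : Fin L, c' (l, i₀, j₀) • w ^ (l : ℕ) with hzdef
      have hzc : ∀ x, z * x = x * z := by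
        intro x
        rw [hzdef, Finset.sum_mul, Finset.mul_sum]
        refine Finset.sum_congr rfl fun l _ => ?_
        rw [smul_mul_assoc, mul_smul_comm, hwn]
      have hz0 : z = 0 := by
        apply hMU.eq_zero_of_mul_ε hzc
        rw [hzdef, Finset.sum_mul]
        simp only [smul_mul_assoc]
        exact h4
      let cc : ℕ → k := fun l => if hl : l < L then c' (⟨l, hl⟩, i₀, j₀) else 0
      have h5 : ∑ a ∈ Finset.range L, cc a • w ^ a = 0 := by
        rw [Finset.sum_range]
        rw [← hz0, hzdef]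
        refine Finset.sum_congr rfl fun l _ => ?_
        simp [cc]
      have h6 := coeff_eq_zero_of_sum_pow hL0 hL1 cc h5 l₀ l₀.2
      simpa [cc] using h6
    have h1 := LinearMap.finrank_le_finrank_of_injective hΦ
    have h2 : finrank k (Fin L × Fin (d 0) × Fin (d 0) → k) = L * (d 0 * d 0) := by
      rw [Module.finrank_fintype_fun_eq_card]
      simp
    rw [h2] at h1
    calc d 0 * d 0 * L = L * (d 0 * d 0) := by ring
      _ ≤ _ := h1

end Main

end Cfsg.Agent.Lib.Dade
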