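import Mathlib
import Cfsg.Agent.Lib.Dade.CC

/-!
# The structure of a direct factor of an algebra, with an automorphism
-/

set_option autoImplicit false
set_option linter.unusedSectionVars false
set_option linter.style.haveILetI false

namespace Cfsg.Agent.Lib.Dade

open Module Matrix Cfsg.Agent.Lib.Blocks.SymLocal Cfsg.Agent.Lib.Blocks.SymCom Cfsg.Agent.Lib.Blocks.RepFin

section Cut

variable {k A G : Type*} [Field k] [Ring A] [Algebra k A] (e : A) [IsAlgClosed k] [FiniteDimensional k A]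
  [Group G] [Finite G]

open Classical in
/-- The structure of the direct factor `eA` of the group algebra, in the cyclic case, with an automorphism. -/
theorem exists_structure_cut_aut (he : e * e = e) (hc : ∀ x, e * x = x * e) (he0 : e ≠ 0) (t : A →ₗ[k] k)
    (ht : ∀ x y, t (x * y) = t (y * x)) (hnd : ∀ x, (∀ y, t (x * y) = 0) → x = 0)
    (hfac : ∀ (m : ℕ) (d : Fin m → ℕ) (φ : A →ₐ[k] (Π i, Matrix (Fin (d i)) (Fin (d i)) k)),
      (∀ i, NeZero (d i)) → Function.Surjective φ → φ e = 1 → m ≤ 1)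
    {p : ℕ} [hp : Fact p.Prime] (hpk : (p : k) = 0)
    (ρ₀ : G →* A) (hρ₀ : Submodule.span k (Set.range ρ₀) = ⊤)
    {y : G} {m' : ℕ} (hy : y ^ p ^ m' = 1) {g₀ : G} (hg₀ : y * g₀ = g₀ * y)
    {D : Subgroup G} (hDy : ∀ d ∈ D, ∃ l : ℕ, y ^ l = d) [Fintype (G ⧸ D)]
    (hz : ¬ IsNilpotent (e * transferW D ρ₀ ρ₀ g₀))
    (c : A →ₐ[k] A) (hce : c e = e) {m : ℕ} (hcm : ∀ x, c^[m] x = x) (hm : (m : k) ≠ 0)
    (hZ0 : ∃ z : A, e * z = z ∧ (∀ x, z * x = x * z) ∧ IsNilpotent z ∧ z ≠ 0) :
    ∃ (n : ℕ) (ι w : A) (u v : Fin n → A) (τ : k) (L : ℕ), 0 < n ∧ c ι = ι ∧ e * ι = ι ∧ ι * ι = ι ∧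
      (∀ i, u i * ι = u i) ∧ (∀ i, ι * v i = v i) ∧ (∀ i, e * u i = u i) ∧ (∀ i, e * v i = v i) ∧
      (∑ i, u i * v i = e) ∧ (∀ i j, v i * u j = if i = j then ι else 0) ∧
      e * w = w ∧ (∀ x, w * x = x * w) ∧ c w = τ • w ∧ τ ^ m = 1 ∧ 2 ≤ L ∧ w ^ L = 0 ∧ w ^ (L - 1) ≠ 0 ∧
      (∀ z, e * z = z → (∀ x, z * x = x * z) → ∃ P : Polynomial k, z = Polynomial.aeval w P * e) ∧
      (∀ x, ι * x * ι = x → ∃ P : Polynomial k, x = Polynomial.aeval w P * ι) ∧
      (∀ r, e * r = r → r ∈ Submodule.span k {x | ∃ z, e * z = z ∧ (∀ y, z * y = y * z) ∧ ∃ i j, x = z * (u i * v j)}) ∧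
      n * n * L ≤ finrank k (cut k e) := by
  classical
  letI iR : Ring (cut k e) := cutRing e he hc
  have hmul : ∀ x y : cut k e, ((x * y : cut k e) : A) = x.1 * y.1 := fun _ _ => rfl
  have hone : ((1 : cut k e) : A) = e := rfl
  letI iA : Algebra k (cut k e) := Algebra.ofModule
    (fun c x y => Subtype.ext (by
      change (c • x.1) * y.1 = c • (x.1 * y.1)
      rw [smul_mul_assoc]))
    (fun c x y => Subtype.ext (by
      change x.1 * (c • y.1) = c • (x.1 * y.1)
      rw [mul_smul_comm]))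
  have hcut : ∀ x : cut k e, e * x.1 = x.1 := fun x => x.2
  have hmemcut : ∀ y : A, e * y ∈ cut k e := fun y => by
    change e * (e * y) = e * y
    rw [← mul_assoc, he]
  have hcut' : ∀ x : cut k e, x.1 * e = x.1 := fun x => by rw [← hc, hcut]
  -- the form
  let t' : cut k e →ₗ[k] k := t ∘ₗ (cut k e).subtype
  have ht' : ∀ x y : cut k e, t' (x * y) = t' (y * x) := fun x y => ht x.1 y.1
  have hnd' : ∀ x : cut k e, (∀ y, t' (x * y) = 0) → x = 0 := by
    intro x hx
    apply Subtype.ext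
    apply hnd
    intro y
    have h2 := hx ⟨e * y, hmemcut y⟩
    have h3 : x.1 * (e * y) = x.1 * y := by
      rw [← mul_assoc, hcut']
    have h4 : t' (x * ⟨e * y, hmemcut y⟩) = t (x.1 * (e * y)) := rfl
    rw [h4, h3] at h2
    exact h2
  -- the centre
  have hcentral : ∀ x : cut k e, (∀ y, x * y = y * x) → ∀ y, x.1 * y = y * x.1 := by
    intro x hx y
    have h2 : x * ⟨e * y, hmemcut y⟩ = ⟨e * y, hmemcut y⟩ * x := hx ⟨e * y, hmemcut y⟩
    have h3 : x.1 * (e * y) = (e * y) * x.1 := congrArg Subtype.val h2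
    calc x.1 * y = x.1 * (e * y) := by rw [← mul_assoc, hcut']
      _ = (e * y) * x.1 := h3
      _ = y * x.1 := by rw [hc y, mul_assoc, hcut]
  haveI : Nontrivial (cut k e) := ⟨⟨1, 0, fun h => he0 (congrArg Subtype.val h)⟩⟩
  -- the map from `A`
  let π : A →ₐ[k] cut k e :=
    { toFun := fun x => ⟨e * x, hmemcut x⟩
      map_one' := Subtype.ext (mul_one e)
      map_mul' := fun x y => Subtype.ext (by
        change e * (x * y) = (e * x) * (e * y)
        calc e * (x * y) = (e * e) * (x * y) := by rw [he]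
          _ = e * (e * x) * y := by noncomm_ring
          _ = e * (x * e) * y := by rw [hc x]
          _ = (e * x) * (e * y) := by noncomm_ring)
      map_zero' := Subtype.ext (mul_zero e)
      map_add' := fun x y => Subtype.ext (mul_add e x y)
      commutes' := fun c => Subtype.ext (by
        change e * algebraMap k A c = (algebraMap k (cut k e) c).1
        rw [Algebra.algebraMap_eq_smul_one, Algebra.algebraMap_eq_smul_one, mul_smul_comm, mul_one]
        rfl) }
  have hπs : Function.Surjective π := fun x => ⟨x.1, Subtype.ext (hcut x)⟩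
  have hπe : π e = 1 := Subtype.ext he
  have hfac' : ∀ (m : ℕ) (d : Fin m → ℕ) (f : cut k e →ₐ[k] (Π i, Matrix (Fin (d i)) (Fin (d i)) k)),
      (∀ i, NeZero (d i)) → Function.Surjective f → m ≤ 1 := by
    intro m d f hd hf
    refine hfac m d (f.comp π) hd (hf.comp hπs) ?_
    change f (π e) = 1
    rw [hπe, map_one]
  haveI : FiniteDimensional k (cut k e) := inferInstance
  -- the representation
  let ρ' : G →* cut k e := (π : A →* cut k e).comp ρ₀
  have hρ' : Submodule.span k (Set.range ρ') = ⊤ := by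
    have h1 : Set.range ρ' = π.toLinearMap '' Set.range ρ₀ := by
      ext x
      simp [ρ']
    rw [h1, ← Submodule.map_span, hρ₀, Submodule.map_top, LinearMap.range_eq_top]
    exact hπs
  have htr : transferW D ρ' ρ' g₀ = π (transferW D ρ₀ ρ₀ g₀) := by
    unfold transferW
    rw [map_sum]
    refine Finset.sum_congr rfl fun q _ => ?_
    exact (map_mul π _ _).symm
  have hpowR : ∀ (x : cut k e) (s : ℕ), ((x ^ (s + 1) : cut k e) : A) = x.1 ^ (s + 1) := by
    intro x s
    induction s with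
    | zero =>
      rw [zero_add, pow_one, pow_one]
    | succ s ih =>
      rw [pow_succ, hmul, ih, pow_succ x.1 (s + 1)]
  have hpow0 : ∀ (x : cut k e) (s : ℕ), ((x ^ s : cut k e) : A) = x.1 ^ s * e := by
    intro x s
    rcases s with _ | s
    · simp [hone]
    · rw [hpowR, pow_succ, mul_assoc, hcut']
  have hz' : ¬ IsNilpotent (transferW D ρ' ρ' g₀) := by
    rintro ⟨s, hs⟩
    apply hz
    refine ⟨s + 1, ?_⟩
    have h1 : (transferW D ρ' ρ' g₀) ^ (s + 1) = 0 := by rw [pow_succ, hs, zero_mul]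
    have h2 := congrArg Subtype.val h1
    rw [hpowR, htr] at h2
    exact h2
  -- the automorphism
  let cR : cut k e →ₐ[k] cut k e :=
    { toFun := fun x => ⟨c x.1, by
        change e * c x.1 = c x.1
        calc e * c x.1 = c e * c x.1 := by rw [hce]
          _ = c (e * x.1) := (map_mul c _ _).symm
          _ = c x.1 := by rw [hcut]⟩
      map_one' := Subtype.ext hce
      map_mul' := fun x y => Subtype.ext (map_mul c x.1 y.1)
      map_zero' := Subtype.ext (map_zero c)
      map_add' := fun x y => Subtype.ext (map_add c x.1 y.1)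
      commutes' := fun a => Subtype.ext (by
        change c (algebraMap k (cut k e) a).1 = (algebraMap k (cut k e) a).1
        rw [Algebra.algebraMap_eq_smul_one]
        change c (a • e) = a • e
        rw [map_smul, hce]) }
  have hcR : ∀ (x : cut k e), (cR x).1 = c x.1 := fun _ => rfl
  have hcRi : ∀ (i : ℕ) (x : cut k e), (cR^[i] x).1 = c^[i] x.1 := by
    intro i x
    induction i with
    | zero => rfl
    | succ i ih => rw [Function.iterate_succ_apply', Function.iterate_succ_apply', hcR, ih]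
  have hcRm : ∀ x, cR^[m] x = x := fun x => Subtype.ext (by rw [hcRi, hcm])
  have hZ0' : ∃ z : cut k e, (∀ x, z * x = x * z) ∧ IsNilpotent z ∧ z ≠ 0 := by
    obtain ⟨z, hz1, hz2, ⟨s, hs⟩, hz4⟩ := hZ0
    refine ⟨⟨z, hz1⟩, fun x => Subtype.ext (hz2 x.1), ?_, fun h => hz4 (congrArg Subtype.val h)⟩
    rcases s with _ | s
    · rw [pow_zero] at hs
      exact absurd (by rw [← one_mul z, hs, zero_mul]) hz4
    · refine ⟨s + 1, Subtype.ext ?_⟩
      rw [hpowR]
      exact hs
  obtain ⟨n, ι, w, u, v, τ, L, hn, hcι, hMU, hwc, hcw, hτm, hL2, hL0, hL1, hcent, hcorner, hspan, hdim⟩ :=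
    exists_cyc_structure hpk t' ht' hnd' hfac' ρ' hρ' hy hg₀ hDy hz' cR hcRm hm hZ0'
  have haeval : ∀ P : Polynomial k, ((Polynomial.aeval w P : cut k e) : A) = Polynomial.aeval w.1 P * e := by
    intro P
    induction P using Polynomial.induction_on' with
    | add P Q hP hQ =>
      rw [map_add, map_add, add_mul, ← hP, ← hQ]
      rfl
    | monomial n a =>
      rw [Polynomial.aeval_monomial, Polynomial.aeval_monomial, Algebra.algebraMap_eq_smul_one,
        Algebra.algebraMap_eq_smul_one, smul_mul_assoc, smul_mul_assoc, smul_mul_assoc, one_mul, one_mul]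
      change a • ((w ^ n : cut k e) : A) = _
      rw [hpow0]
  have hι1 : ι.1 * ι.1 = ι.1 := congrArg Subtype.val hMU.hε
  have hιe : ι.1 * e = ι.1 := hcut' ι
  refine ⟨n, ι.1, w.1, fun i => (u i).1, fun i => (v i).1, τ, L, hn, congrArg Subtype.val hcι, hcut ι, hι1,
    fun i => congrArg Subtype.val (hMU.huε i), fun i => congrArg Subtype.val (hMU.hvε i), fun i => hcut _, fun i => hcut _,
    ?_, ?_, hcut w, hcentral w hwc, congrArg Subtype.val hcw, hτm, hL2, ?_, ?_, ?_, ?_, ?_, hdim⟩
  · have h1 : ((∑ i, u i * v i : cut k e) : A) = ∑ i, (u i).1 * (v i).1 := by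
      change (cut k e).subtype _ = _
      rw [map_sum]
      rfl
    change ∑ i, (u i).1 * (v i).1 = e
    rw [← h1, hMU.hsum]
    rfl
  · intro i j
    have := congrArg Subtype.val (hMU.hvu i j)
    rw [hmul] at this
    rw [this]
    split_ifs <;> rfl
  · have := congrArg Subtype.val hL0
    rw [show L = (L - 1) + 1 by omega, hpowR] at this
    rw [show L = (L - 1) + 1 by omega]
    exact this
  · intro h
    apply hL1
    apply Subtype.ext
    have e1 : L - 1 = (L - 2) + 1 := by omega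
    rw [e1, hpowR, ← e1]
    exact h
  · intro z hz1 hz2
    obtain ⟨P, hP⟩ := hcent ⟨z, hz1⟩ (fun x => Subtype.ext (hz2 x.1))
    refine ⟨P, ?_⟩
    have := congrArg Subtype.val hP
    rw [haeval] at this
    exact this
  · intro x hx
    have hxe : e * x = x := by
      rw [← hx, ← mul_assoc, ← mul_assoc, hcut ι]
    obtain ⟨P, hP⟩ := hcorner ⟨x, hxe⟩ (Subtype.ext hx)
    refine ⟨P, ?_⟩
    have := congrArg Subtype.val hP
    rw [hmul, haeval, mul_assoc, hcut ι] at this
    exact this
  · intro r hr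
    have h1 := hspan ⟨r, hr⟩
    have h2 := Submodule.mem_map_of_mem (f := (cut k e).subtype) h1
    rw [Submodule.map_span] at h2
    refine Submodule.span_mono ?_ h2
    rintro _ ⟨_, ⟨z, hz, i, j, rfl⟩, rfl⟩
    exact ⟨z.1, hcut z, hcentral z hz, i, j, rfl⟩

end Cut

end Cfsg.Agent.Lib.Dade
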