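import Mathlib
import Cfsg.Agent.Lib.Dade.CD
import Cfsg.Agent.Lib.Blocks.RepFin4
import Cfsg.Agent.Lib.Blocks.Transport
import Cfsg.Agent.S4649

/-!
# The block factor of the group algebra, for a block with cyclic defect group and one Brauer character
-/

set_option autoImplicit false
set_option linter.unusedSectionVars false
set_option linter.style.haveILetI false

namespace Cfsg.Agent.Lib.Dade

open Module Cfsg Cfsg.Agent.Lib.Blocks.Local Cfsg.Agent.Lib.Blocks.Central Cfsg.Agent.Lib.Blocks.Osima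
open Cfsg.Agent.Lib.Blocks.ModRank Cfsg.Agent.Lib.Blocks.SymLocal
open Cfsg.Agent.Lib.Blocks.ModBlock Cfsg.Agent.Lib.Blocks.SymCom Cfsg.Agent.Lib.Blocks.RepFin
open Cfsg.Agent.Lib.Blocks.Transport

universe u

section Str

/-- The structure of a direct factor of an algebra: a matrix algebra over a truncated polynomial ring. -/
structure BStr {k A : Type*} [Field k] [Ring A] [Algebra k A] (e ι w : A) {n : ℕ} (u v : Fin n → A) (q : ℕ) :
    Prop where
  ee : e * e = e
  ec : ∀ x, e * x = x * e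
  eι : e * ι = ι
  ιι : ι * ι = ι
  uι : ∀ i, u i * ι = u i
  ιv : ∀ i, ι * v i = v i
  eu : ∀ i, e * u i = u i
  ev : ∀ i, e * v i = v i
  sum : ∑ i, u i * v i = e
  vu : ∀ i j, v i * u j = if i = j then ι else 0
  ew : e * w = w
  cw : ∀ x, w * x = x * w
  hq : 2 ≤ q
  wq : w ^ q = 0
  wq' : w ^ (q - 1) ≠ 0
  cpoly : ∀ z, e * z = z → (∀ x, z * x = x * z) → ∃ P : Polynomial k, z = Polynomial.aeval w P * e
  ipoly : ∀ x, ι * x * ι = x → ∃ P : Polynomial k, x = Polynomial.aeval w P * ι

end Str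

section DAut

variable {H : Type*} [Group H] (R : Type*) [CommRing R]

/-- The action of an automorphism of the group on the group algebra. -/
noncomputable def dAut (φ : H ≃* H) : MonoidAlgebra R H →ₐ[R] MonoidAlgebra R H :=
  MonoidAlgebra.mapDomainAlgHom R R φ.toMonoidHom

lemma dAut_single (φ : H ≃* H) (h : H) (r : R) :
    dAut R φ (MonoidAlgebra.single h r) = MonoidAlgebra.single (φ h) r := by
  simp [dAut]

lemma coeff_dAut [Fintype H] (φ : H ≃* H) (y : MonoidAlgebra R H) (g : H) :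
    (dAut R φ y).coeff g = y.coeff (φ.symm g) := by
  classical
  induction y using MonoidAlgebra.induction_on with
  | of h =>
    have e : MonoidAlgebra.of R H h = MonoidAlgebra.single h 1 := rfl
    rw [e, dAut_single]
    simp only [MonoidAlgebra.coeff_single, Finsupp.single_apply]
    congr 1
    simp [MulEquiv.eq_symm_apply]
  | add x y hx hy =>
    rw [map_add]
    simp only [MonoidAlgebra.coeff_add, Finsupp.add_apply, hx, hy]
  | smul c x hx =>
    rw [map_smul]
    simp only [MonoidAlgebra.coeff_smul, Finsupp.smul_apply, hx]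

lemma dAut_iterate [Fintype H] (φ : H ≃* H) (y : MonoidAlgebra R H) (i : ℕ) (g : H) :
    ((dAut R φ)^[i] y).coeff g = y.coeff ((φ.symm)^[i] g) := by
  induction i generalizing g with
  | zero => rfl
  | succ i ih =>
    rw [Function.iterate_succ_apply', coeff_dAut, ih, Function.iterate_succ_apply]

end DAut

section Main

variable {H : Type u} [Group H] [Fintype H]
variable {M : Ideal AlgInt} [hM : M.IsPrime] {p : ℕ} [hp : Fact p.Prime]
variable {f : Set (IrrCharacter H)} {a : MonoidAlgebra (localRing M) H}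

local notation "kk" => (localRing M ⧸ localIdeal M)

lemma iterate_symm_eq (φ : H ≃* H) {m : ℕ} (hm : ∀ h, φ^[m] h = h) (g : H) : (φ.symm)^[m] g = g := by
  have h1 : Function.RightInverse (φ.symm)^[m] (φ)^[m] :=
    Function.RightInverse.iterate (f := φ) (g := φ.symm) (fun x => by simp) m
  have := h1 g
  rwa [hm] at this

lemma dAut_iterate_eq (R : Type*) [CommRing R] (φ : H ≃* H) {m : ℕ} (hm : ∀ h, φ^[m] h = h)
    (y : MonoidAlgebra R H) : (dAut R φ)^[m] y = y := by
  apply MonoidAlgebra.ext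
  apply Finsupp.ext
  intro g
  rw [dAut_iterate, iterate_symm_eq φ hm]

lemma coeff_lift_comap (ha : iota H M a = blockElt f) (φ : H ≃* H)
    (hφ : blockMap φ f = f) (g : H) : a.coeff (φ.symm g) = a.coeff g := by
  apply Subtype.ext
  have h1 : ∀ g, (a.coeff g : ℂ) = blockCoeff f g := fun g => by
    rw [← coeff_iota, ha, coeff_blockElt]
  rw [h1, h1]
  have h2 := blockCoeff_blockMap φ f (φ.symm g)
  rw [hφ] at h2
  rw [h2]
  simp

lemma dAut_piR_eq (ha : iota H M a = blockElt f) (φ : H ≃* H) (hφ : blockMap φ f = f) :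
    dAut kk φ (piR H M a) = piR H M a := by
  apply MonoidAlgebra.ext
  apply Finsupp.ext
  intro g
  rw [coeff_dAut, coeff_piR, coeff_piR, coeff_lift_comap ha φ hφ]

open Classical in
/-- **The structure of the block factor**, with an automorphism of the group stabilizing the block. -/
theorem exists_block_str (hMp : IsPModular p M) (hB : IsPBlock M f) (hl : blockRank p f = 1)
    {D : Subgroup H} (hD : IsDefectGroup p M f D) (hcyc : IsCyclic D) (ha : iota H M a = blockElt f)
    (h2 : 2 ≤ (Finset.univ.filter (· ∈ f)).card)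
    (φ : H ≃* H) (hφ : blockMap φ f = f) {m : ℕ} (hm : ∀ h, φ^[m] h = h) (hm' : (m : kk) ≠ 0) :
    ∃ (n : ℕ) (ι w : MonoidAlgebra kk H) (u v : Fin n → MonoidAlgebra kk H) (τ : kk), 0 < n ∧
      (∀ ψ ∈ f, charDegree (ψ : H → ℂ) = n) ∧
      BStr (k := kk) (piR H M a) ι w u v (Finset.univ.filter (· ∈ f)).card ∧
      dAut kk φ ι = ι ∧ dAut kk φ w = τ • w ∧ τ ^ m = 1 := by
  obtain ⟨g₀, hg₀, S, hS⟩ := id hD
  have hDC : D ≤ Subgroup.centralizer ({g₀} : Set H) := by
    rw [hS]
    rintro _ ⟨s, _, rfl⟩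
    exact s.2
  have hDp : IsPGroup p D := by
    rw [hS]
    exact Cfsg.Agent.Lib.Blocks.Defect.isPGroup_sylow_map S
  obtain ⟨y₀, hy₀⟩ := IsCyclic.exists_generator (α := D)
  have hDy : ∀ d ∈ D, ∃ l : ℕ, (y₀ : H) ^ l = d := by
    intro d hd
    have h1 : (⟨d, hd⟩ : D) ∈ Submonoid.powers y₀ := mem_powers_iff_mem_zpowers.mpr (hy₀ _)
    obtain ⟨l, hl'⟩ := h1
    exact ⟨l, by simpa using congrArg Subtype.val hl'⟩
  obtain ⟨m', hm''⟩ := IsPGroup.iff_orderOf.mp hDp y₀
  have hy : (y₀ : H) ^ p ^ m' = 1 := by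
    have h1 : y₀ ^ p ^ m' = 1 := by rw [← hm'', pow_orderOf_eq_one]
    simpa using congrArg Subtype.val h1
  have hg₀y : (y₀ : H) * g₀ = g₀ * y₀ := Subgroup.mem_centralizer_singleton_iff.mp (hDC y₀.2)
  have hrel : ¬ MemLocalIdeal M ((D.relIndex (Subgroup.centralizer ({g₀} : Set H)) : ℕ) : ℂ) := by
    rw [memLocalIdeal_natCast_iff hMp]
    have h1 : D.subgroupOf (Subgroup.centralizer ({g₀} : Set H)) = S := by
      rw [hS, Subgroup.subgroupOf, Subgroup.comap_map_eq_self_of_injective (Subgroup.subtype_injective _)]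
    rw [Subgroup.relIndex, h1]
    exact S.not_dvd_index
  letI : Fintype (H ⧸ D) := Fintype.ofFinite _
  haveI : IsAlgClosed kk := isAlgClosed_residue
  haveI hchar : CharP kk p := Cfsg.Agent.Lib.Blocks.BlockHom.charP_residue hMp
  have hpk : ((p : ℕ) : kk) = 0 := CharP.cast_eq_zero kk p
  set Zs := Submodule.span kk (Set.range fun K : ConjClasses H => piR H M a * piR H M (csL K.out)) with hZs
  have hkZ : (Finset.univ.filter (· ∈ f)).card ≤ finrank kk Zs := card_le_finrank_span_mul_csL ha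
  have hZ : ∀ x, piR H M a * x = x → (∀ y, x * y = y * x) → x ∈ Zs := by
    intro x hx hxc
    rw [← hx, eq_sum_piR_csL hxc, Finset.mul_sum]
    refine Submodule.sum_mem _ fun K _ => ?_
    rw [mul_smul_comm]
    exact Submodule.smul_mem _ _ (Submodule.subset_span ⟨K, rfl⟩)
  have hZ' : ∀ x ∈ Zs, piR H M a * x = x ∧ ∀ y, x * y = y * x := by
    intro x hx
    induction hx using Submodule.span_induction with
    | mem x hx =>
      obtain ⟨K, rfl⟩ := hx
      refine ⟨by rw [← mul_assoc, piR_mul_self ha], fun y => ?_⟩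
      have hcl : IsClassFunction H (iota H M (csL (M := M) K.out)).coeff := by
        rw [iota_csL]
        exact isClassFunction_classSum _
      rw [mul_assoc, piR_central hcl y, ← mul_assoc, piR_comm ha, mul_assoc]
    | zero => simp
    | add x y _ _ hx hy =>
      refine ⟨by rw [mul_add, hx.1, hy.1], fun z => ?_⟩
      rw [add_mul, mul_add, hx.2, hy.2]
    | smul c x _ hx =>
      refine ⟨by rw [mul_smul_comm, hx.1], fun z => ?_⟩
      rw [smul_mul_assoc, mul_smul_comm, hx.2]
  have hne : (Finset.univ.filter (· ∈ f)).Nonempty := by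
    obtain ⟨χ₀, rfl⟩ := hB
    exact ⟨χ₀, Finset.mem_filter.2 ⟨Finset.mem_univ _, mem_blockOf_self χ₀⟩⟩
  have he0 : piR H M a ≠ 0 := by
    intro h0
    have h1 : Zs = ⊥ := by
      rw [hZs, h0]
      simp
    rw [h1, finrank_bot] at hkZ
    have := Finset.card_pos.2 hne
    omega
  obtain ⟨z₀, hz₀, hz₁, hz₂, hz₃⟩ := exists_central_nilpotent hB ha h2
  obtain ⟨n, ι, w, u, v, τ, L, hn, hcι, heι, hιι, huι, hιv, heu, hev, hsum, hvu, hew, hcw, hcwτ, hτ, hL, hwL,
      hwL', hcpoly, hipoly, hspan, hdim⟩ :=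
    exists_structure_cut_aut (piR H M a) (piR_mul_self ha) (piR_comm ha) he0
      (tr1 _) (tr1_comm _) (tr1_nondeg _) (fun m d φ hd hφ he => by
        have := card_le_blockRank hMp ha φ hd hφ he
        omega) hpk (MonoidAlgebra.of kk H) (span_range_of kk) hy hg₀y hDy
      (not_isNilpotent_transfer hB ha hg₀ hDC hrel)
      (dAut kk φ) (dAut_piR_eq ha φ hφ) (dAut_iterate_eq kk φ hm) hm'
      ⟨z₀, hz₀, hz₁, hz₃, hz₂⟩
  -- the dimension of the centre
  have hZL : finrank kk Zs ≤ L := by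
    have h1 : Zs ≤ Submodule.span kk (Set.range fun i : Fin L => w ^ (i : ℕ) * piR H M a) := by
      intro z hz
      obtain ⟨hz1, hz2⟩ := hZ' z hz
      obtain ⟨P, hP⟩ := hcpoly z hz1 hz2
      rw [hP, Polynomial.aeval_eq_sum_range, Finset.sum_mul]
      refine Submodule.sum_mem _ fun i _ => ?_
      rw [smul_mul_assoc]
      refine Submodule.smul_mem _ _ ?_
      by_cases hi : i < L
      · exact Submodule.subset_span ⟨⟨i, hi⟩, rfl⟩
      · have : w ^ i = 0 := by
          obtain ⟨d, rfl⟩ : ∃ d, i = L + d := ⟨i - L, by omega⟩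
          rw [pow_add, hwL, zero_mul]
        rw [this, zero_mul]
        exact Submodule.zero_mem _
    refine (Submodule.finrank_mono h1).trans ?_
    have := finrank_range_le_card (R := kk) (fun i : Fin L => w ^ (i : ℕ) * piR H M a)
    rw [Fintype.card_fin] at this
    exact this
  have hle : ∀ χ ∈ f, (charDegree (χ : H → ℂ)) ^ 2 ≤ n * n := fun χ hχ =>
    degree_sq_le' ha (A := fun i j => u i * v j) (fun i j => by rw [← mul_assoc, heu])
      (fun r hr => by
        refine Submodule.span_mono ?_ (hspan r hr)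
        rintro _ ⟨z, hz1, hz2, i, j, rfl⟩
        exact ⟨z, hZ z hz1 hz2, i, j, rfl⟩) hχ
  have hcut := finrank_cut_le ha
  have hsum' : ∑ χ ∈ Finset.univ.filter (· ∈ f), (charDegree (χ : H → ℂ)) ^ 2 ≤
      (Finset.univ.filter (· ∈ f)).card * (n * n) := by
    rw [← smul_eq_mul, ← Finset.sum_const]
    exact Finset.sum_le_sum fun ψ hψ => hle ψ (Finset.mem_filter.1 hψ).2
  have hnn : 0 < n * n := Nat.mul_pos hn hn
  have hLq : L = (Finset.univ.filter (· ∈ f)).card := by
    apply le_antisymm _ (hkZ.trans hZL)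
    have : n * n * L ≤ n * n * (Finset.univ.filter (· ∈ f)).card := by
      calc n * n * L ≤ _ := hdim
        _ ≤ _ := hcut
        _ ≤ _ := hsum'
        _ = _ := by ring
    exact Nat.le_of_mul_le_mul_left this hnn
  subst hLq
  refine ⟨n, ι, w, u, v, τ, hn, fun χ hχ => ?_, ⟨piR_mul_self ha, piR_comm ha, heι, hιι, huι, hιv, heu, hev, hsum, hvu,
    hew, hcw, hL, hwL, hwL', hcpoly, hipoly⟩, hcι, hcwτ, hτ⟩
  by_contra hnej
  have hlt : (charDegree (χ : H → ℂ)) ^ 2 < n * n := by
    refine lt_of_le_of_ne (hle χ hχ) ?_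
    intro h
    apply hnej
    have : (charDegree (χ : H → ℂ)) ^ 2 = n ^ 2 := by rw [h, sq]
    exact (Nat.pow_left_injective (n := 2) (by norm_num)) this
  have hsum2 : ∑ χ ∈ Finset.univ.filter (· ∈ f), (charDegree (χ : H → ℂ)) ^ 2 <
      ∑ _χ ∈ Finset.univ.filter (· ∈ f), n * n := by
    apply Finset.sum_lt_sum
    · intro ψ hψ
      exact hle ψ (Finset.mem_filter.1 hψ).2
    · exact ⟨χ, Finset.mem_filter.2 ⟨Finset.mem_univ _, hχ⟩, hlt⟩
  rw [Finset.sum_const, smul_eq_mul] at hsum2
  nlinarith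

end Main

end Cfsg.Agent.Lib.Dade
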