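import Mathlib
import Cfsg.Agent.Lib.Dade.GA

/-!
# The relation between a central element of order `p` and the generator of the centre of the block factor
-/

set_option autoImplicit false
set_option linter.unusedSectionVars false
set_option linter.style.haveILetI false

namespace Cfsg.Agent.Lib.Dade

open Module Cfsg Cfsg.Agent.Lib.Blocks.ModBlock Cfsg.Agent.Lib.Blocks.RepFin

section Alg

variable {k A : Type*} [Field k] [Ring A] [Algebra k A]

lemma geom_alg {p : ℕ} [hp : Fact p.Prime] [CharP k p] (z : A) :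
    ∑ i ∈ Finset.range p, z ^ i = (z - 1) ^ (p - 1) := by
  have h : (∑ i ∈ Finset.range p, (Polynomial.X : Polynomial k) ^ i) =
      (Polynomial.X - 1) ^ (p - 1) := by
    have h1 : (∑ i ∈ Finset.range p, (Polynomial.X : Polynomial k) ^ i) * (Polynomial.X - 1) =
        Polynomial.X ^ p - 1 := geom_sum_mul _ _
    have h2 : ((Polynomial.X : Polynomial k) - 1) ^ p = Polynomial.X ^ p - 1 := by
      rw [sub_pow_char, one_pow]
    have h3 : ((Polynomial.X : Polynomial k) - 1) ≠ 0 := Polynomial.X_sub_C_ne_zero (1 : k)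
    apply mul_right_cancel₀ h3
    rw [h1, ← h2, ← pow_succ, Nat.sub_add_cancel hp.out.one_le]
  have := congrArg (Polynomial.aeval z) h
  simpa using this

lemma pow_char_alg {p : ℕ} [hp : Fact p.Prime] [CharP k p] (z : A) :
    (z - 1) ^ p = z ^ p - 1 := by
  have h2 : ((Polynomial.X : Polynomial k) - 1) ^ p = Polynomial.X ^ p - 1 := by
    rw [sub_pow_char, one_pow]
  have := congrArg (Polynomial.aeval z) h2
  simpa using this

/-- A polynomial with nonzero constant term in a nilpotent central element is invertible. -/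
lemma isUnit_aeval_of_coeff {w : A} (hw : IsNilpotent w) (P : Polynomial k) (hP : P.coeff 0 ≠ 0) :
    IsUnit (Polynomial.aeval w P) := by
  have h1 : P = Polynomial.divX P * Polynomial.X + Polynomial.C (P.coeff 0) := (Polynomial.divX_mul_X_add P).symm
  have h2 : Polynomial.aeval w P = Polynomial.aeval w (Polynomial.divX P) * w + algebraMap k A (P.coeff 0) := by
    conv_lhs => rw [h1]
    simp
  rw [h2]
  have hc : Commute (Polynomial.aeval w (Polynomial.divX P)) w := by
    have := (Polynomial.commute_X (Polynomial.divX P)).map (Polynomial.aeval w)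
    rw [Polynomial.aeval_X] at this
    exact this.symm
  have hn : IsNilpotent (Polynomial.aeval w (Polynomial.divX P) * w) := by
    exact hc.isNilpotent_mul_left hw
  have hu : IsUnit (algebraMap k A (P.coeff 0)) := (isUnit_iff_ne_zero.mpr hP).map _
  exact hn.isUnit_add_right_of_commute hu (Algebra.commutes _ _).symm

end Alg

section Abs

variable {k A : Type*} [Field k] [Ring A] [Algebra k A] {e ι w : A} {n : ℕ} {u v : Fin n → A} {q : ℕ} {p : ℕ}
  [hp : Fact p.Prime]

/-- The relation between a central nilpotent element and the generator of the centre. -/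
theorem exists_rel_abs (S : BStr (k := k) e ι w u v q) {T : A} (hTc : ∀ y, T * y = y * T) (hTp : T ^ p = 0)
    (hann : ∀ y, T * y = 0 → ∃ r, y = T ^ (p - 1) * r) :
    ∃ (s : ℕ) (P : Polynomial k), P.coeff 0 ≠ 0 ∧ T * e = w ^ s * Polynomial.aeval w P * e ∧ s * p = q := by
  classical
  have hq2 := S.hq
  have hp1 : 1 ≤ p := hp.out.one_le
  have hp2 : 2 ≤ p := hp.out.two_le
  have hTpc : ∀ (i : ℕ) (y), T ^ i * y = y * T ^ i := fun i y =>
    (Commute.pow_left (show Commute T y from hTc y) i).eq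
  have he0 : e ≠ 0 := by
    intro h0
    have : w = 0 := by rw [← S.ew, h0, zero_mul]
    apply S.wq'
    rw [this, zero_pow (by omega)]
  have hew : ∀ d, 1 ≤ d → e * w ^ d = w ^ d := by
    intro d hd
    obtain ⟨d', rfl⟩ : ∃ d', d = d' + 1 := ⟨d - 1, by omega⟩
    rw [pow_succ', ← mul_assoc, S.ew]
  have hwnil : IsNilpotent w := ⟨q, S.wq⟩
  have hwc : ∀ (d : ℕ) (y), w ^ d * y = y * w ^ d := fun d y =>
    (Commute.pow_left (show Commute w y from S.cw y) d).eq
  have hac : ∀ (P : Polynomial k) (y), Polynomial.aeval w P * y = y * Polynomial.aeval w P := fun P y =>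
    aeval_central S.cw P y
  set X := T * e with hX
  have hXc : ∀ y, X * y = y * X := fun y => by
    rw [hX, mul_assoc, S.ec, ← mul_assoc, hTc, mul_assoc]
  have hXe : e * X = X := by
    rw [hX, S.ec, mul_assoc, S.ee]
  have hX0 : X ≠ 0 := by
    intro h0
    obtain ⟨r, hr⟩ := hann e h0
    apply he0
    obtain ⟨p', hp'⟩ : ∃ p', p - 1 = p' + 1 := ⟨p - 2, by omega⟩
    rw [hp', pow_succ] at hr
    calc e = e * e := S.ee.symm
      _ = (T ^ p' * T * r) * e := by
        conv_lhs => arg 1; rw [hr]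
      _ = T ^ p' * (T * e) * r := by
        rw [mul_assoc (T ^ p' * T), ← S.ec, mul_assoc (T ^ p'), mul_assoc (T ^ p'), ← mul_assoc T]
      _ = 0 := by
        have : T * e = 0 := h0
        rw [this, mul_zero, zero_mul]
  obtain ⟨Q, hQ⟩ := S.cpoly X hXe hXc
  have hQ0 : Q ≠ 0 := by
    rintro rfl
    apply hX0
    rw [hQ, map_zero, zero_mul]
  obtain ⟨Q₁, hQ₁, hnd⟩ := Polynomial.exists_eq_pow_rootMultiplicity_mul_and_not_dvd Q hQ0 0
  set s := Polynomial.rootMultiplicity 0 Q with hs
  rw [map_zero, sub_zero] at hQ₁ hnd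
  have hcoeff : Q₁.coeff 0 ≠ 0 := fun h => hnd (Polynomial.X_dvd_iff.2 h)
  set η := Polynomial.aeval w Q₁ with hη
  have hηu : IsUnit η := isUnit_aeval_of_coeff hwnil Q₁ hcoeff
  have hXw : X = w ^ s * η * e := by
    rw [hQ, hQ₁, map_mul, map_pow, Polynomial.aeval_X]
  refine ⟨s, Q₁, hcoeff, hXw, ?_⟩
  have hηc : ∀ (i : ℕ) (y), η ^ i * y = y * η ^ i := fun i y =>
    (Commute.pow_left (show Commute η y from hac Q₁ y) i).eq
  -- `X ^ i`
  have hXpow : ∀ i, X ^ (i + 1) = w ^ (s * (i + 1)) * η ^ (i + 1) * e := by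
    intro i
    induction i with
    | zero => simp [hXw]
    | succ i ih =>
      rw [pow_succ, ih, hXw]
      have e1 : s * (i + 1 + 1) = s * (i + 1) + s := by ring
      rw [e1, pow_add w, pow_succ η (i + 1)]
      calc w ^ (s * (i + 1)) * η ^ (i + 1) * e * (w ^ s * η * e)
          = w ^ (s * (i + 1)) * η ^ (i + 1) * (e * w ^ s) * η * e := by simp only [mul_assoc]
        _ = w ^ (s * (i + 1)) * η ^ (i + 1) * (w ^ s * e) * η * e := by rw [hwc s e]
        _ = w ^ (s * (i + 1)) * (η ^ (i + 1) * w ^ s) * (e * η) * e := by simp only [mul_assoc]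
        _ = w ^ (s * (i + 1)) * (w ^ s * η ^ (i + 1)) * (η * e) * e := by
          rw [hηc, show e * η = η * e from (hac Q₁ e).symm]
        _ = w ^ (s * (i + 1)) * w ^ s * (η ^ (i + 1) * η) * (e * e) := by simp only [mul_assoc]
        _ = _ := by rw [S.ee]
  have hXp0 : X ^ p = 0 := by
    rw [hX, (show Commute T e from hTc e).mul_pow, hTp, zero_mul]
  have hle1 : q ≤ s * p := by
    obtain ⟨p', hp'⟩ : ∃ p', p = p' + 1 := ⟨p - 1, by omega⟩
    have h1 := hXpow p'
    rw [← hp', hXp0] at h1
    have h2 : η ^ p * (w ^ (s * p) * e) = 0 := by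
      rw [← mul_assoc, hηc, h1]
    have h3 : w ^ (s * p) * e = 0 := ((hηu.pow _).mul_right_eq_zero).1 h2
    by_contra hlt
    push Not at hlt
    apply S.wq'
    have e1 : q - 1 = (q - 1 - s * p) + s * p := by omega
    rw [← hew (q - 1) (by omega), S.ec, e1, pow_add, mul_assoc, h3, mul_zero]
  have hs1 : 1 ≤ s := by
    rcases Nat.eq_zero_or_pos s with h | h
    · rw [h, zero_mul] at hle1
      omega
    · exact h
  have hsq : s < q := by
    by_contra hge
    push Not at hge
    apply hX0
    have : w ^ s = 0 := by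
      have e1 : s = q + (s - q) := by omega
      rw [e1, pow_add, S.wq, zero_mul]
    rw [hXw, this, zero_mul, zero_mul]
  -- the annihilator
  set Y := w ^ (q - s) * e with hY
  have hTY : T * Y = 0 := by
    calc T * Y = w ^ (q - s) * (T * e) := by rw [hY, ← mul_assoc, hTc, mul_assoc]
      _ = w ^ (q - s) * (w ^ s * η * e) := by rw [show T * e = w ^ s * η * e from hXw]
      _ = w ^ (q - s) * w ^ s * (η * e) := by simp only [mul_assoc]
      _ = 0 := by
        rw [← pow_add, Nat.sub_add_cancel hsq.le, S.wq, zero_mul]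
  obtain ⟨r, hr⟩ := hann Y hTY
  have hιι := S.ιι
  have heι := S.eι
  obtain ⟨P', hP'⟩ := S.ipoly (ι * r * ι) (by
    simp only [mul_assoc, hιι]
    rw [← mul_assoc, hιι])
  -- `T ^ i * ι`
  have hTι1 : T * ι = w ^ s * η * ι := by
    calc T * ι = X * ι := by rw [hX, mul_assoc, heι]
      _ = _ := by rw [hXw, mul_assoc, heι]
  have hTι : ∀ i, T ^ (i + 1) * ι = w ^ (s * (i + 1)) * η ^ (i + 1) * ι := by
    intro i
    induction i with
    | zero => simpa using hTι1
    | succ i ih =>
      rw [pow_succ', mul_assoc, ih]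
      have e1 : s * (i + 1 + 1) = s * (i + 1) + s := by ring
      rw [e1, pow_add w, pow_succ η (i + 1)]
      calc T * (w ^ (s * (i + 1)) * η ^ (i + 1) * ι)
          = w ^ (s * (i + 1)) * η ^ (i + 1) * (T * ι) := by
            rw [hTc, hTc ι]
            simp only [mul_assoc]
        _ = w ^ (s * (i + 1)) * η ^ (i + 1) * (w ^ s * η * ι) := by rw [hTι1]
        _ = w ^ (s * (i + 1)) * (η ^ (i + 1) * w ^ s) * η * ι := by simp only [mul_assoc]
        _ = w ^ (s * (i + 1)) * (w ^ s * η ^ (i + 1)) * η * ι := by rw [hηc]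
        _ = _ := by simp only [mul_assoc]
  set Z := η ^ (p - 1) * Polynomial.aeval w P' with hZ
  have hZc : ∀ y, Z * y = y * Z := fun y => by
    rw [hZ, mul_assoc, hac, ← mul_assoc, hηc, mul_assoc]
  have hmain : w ^ (q - s) * ι = w ^ (s * (p - 1)) * Z * ι := by
    obtain ⟨p', hp'⟩ : ∃ p', p - 1 = p' + 1 := ⟨p - 2, by omega⟩
    calc w ^ (q - s) * ι = ι * Y * ι := by
          rw [hY]
          calc w ^ (q - s) * ι = w ^ (q - s) * (ι * ι) := by rw [hιι]
            _ = w ^ (q - s) * ι * ι := by rw [mul_assoc]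
            _ = ι * w ^ (q - s) * (e * ι) := by rw [heι, hwc]
            _ = _ := by simp only [mul_assoc]
      _ = T ^ (p - 1) * (ι * r * ι) := by
          rw [hr]
          calc ι * (T ^ (p - 1) * r) * ι = (ι * T ^ (p - 1)) * r * ι := by simp only [mul_assoc]
            _ = T ^ (p - 1) * ι * r * ι := by rw [hTpc]
            _ = _ := by simp only [mul_assoc]
      _ = T ^ (p - 1) * (Polynomial.aeval w P' * ι) := by rw [hP']
      _ = Polynomial.aeval w P' * (T ^ (p - 1) * ι) := by
          rw [← mul_assoc, hTpc, mul_assoc]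
      _ = Polynomial.aeval w P' * (w ^ (s * (p - 1)) * η ^ (p - 1) * ι) := by rw [hp', hTι]
      _ = w ^ (s * (p - 1)) * (η ^ (p - 1) * Polynomial.aeval w P') * ι := by
          calc Polynomial.aeval w P' * (w ^ (s * (p - 1)) * η ^ (p - 1) * ι)
              = (Polynomial.aeval w P' * w ^ (s * (p - 1))) * η ^ (p - 1) * ι := by simp only [mul_assoc]
            _ = w ^ (s * (p - 1)) * (Polynomial.aeval w P' * η ^ (p - 1)) * ι := by
              rw [hac P' (w ^ (s * (p - 1)))]
              simp only [mul_assoc]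
            _ = _ := by rw [hac P' (η ^ (p - 1))]
  have hle2 : s * p ≤ q := by
    by_contra hlt
    push Not at hlt
    have hsp : s * p = s * (p - 1) + s := by
      conv_lhs => rw [show p = (p - 1) + 1 by omega]
      ring
    obtain ⟨d, hd⟩ : ∃ d, s * (p - 1) = (q - s) + (d + 1) := ⟨s * (p - 1) - (q - s) - 1, by omega⟩
    have hN : IsNilpotent (w ^ (d + 1) * Z) := by
      have h1 : Commute (w ^ (d + 1)) Z := hwc _ _
      exact h1.isNilpotent_mul_right ⟨q, by rw [← pow_mul, mul_comm, pow_mul, S.wq, zero_pow (by omega)]⟩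
    have hU : IsUnit (1 - w ^ (d + 1) * Z) := hN.isUnit_one_sub
    have h0 : (w ^ (q - s) * ι) * (1 - w ^ (d + 1) * Z) = 0 := by
      rw [mul_sub, mul_one, sub_eq_zero]
      conv_lhs => rw [hmain, hd, pow_add]
      calc w ^ (q - s) * w ^ (d + 1) * Z * ι = w ^ (q - s) * w ^ (d + 1) * (Z * ι) := by rw [mul_assoc _ Z]
        _ = w ^ (q - s) * w ^ (d + 1) * (ι * Z) := by rw [hZc]
        _ = w ^ (q - s) * (w ^ (d + 1) * ι) * Z := by simp only [mul_assoc]
        _ = w ^ (q - s) * (ι * w ^ (d + 1)) * Z := by rw [hwc (d + 1) ι]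
        _ = _ := by simp only [mul_assoc]
    have h1 : w ^ (q - s) * ι = 0 := hU.mul_left_eq_zero.1 h0
    have h2 : w ^ (q - s) = 0 := by
      rw [← hew (q - s) (by omega), ← S.sum, Finset.sum_mul]
      refine Finset.sum_eq_zero fun i _ => ?_
      calc u i * v i * w ^ (q - s) = u i * (ι * v i) * w ^ (q - s) := by rw [S.ιv]
        _ = u i * ι * (v i * w ^ (q - s)) := by simp only [mul_assoc]
        _ = u i * (ι * w ^ (q - s)) * v i := by rw [← hwc]; simp only [mul_assoc]
        _ = u i * (w ^ (q - s) * ι) * v i := by rw [hwc]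
        _ = 0 := by rw [h1, mul_zero, zero_mul]
    apply S.wq'
    have e1 : q - 1 = (q - s) + (s - 1) := by omega
    rw [e1, pow_add, h2, zero_mul]
  exact le_antisymm hle2 hle1

end Abs

section XRel

variable {k H : Type*} [Field k] [Group H] [Fintype H] {p : ℕ} [hp : Fact p.Prime] [CharP k p]

local notation "ofk" => MonoidAlgebra.of k H

lemma coeff_of_mul (x g : H) (y : MonoidAlgebra k H) : (ofk x * y).coeff (x * g) = y.coeff g := by
  have e : ofk x = MonoidAlgebra.single x 1 := rfl
  rw [e, MonoidAlgebra.coeff_single_mul_mul]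
  simp

/-- The annihilator of `x - 1`. -/
lemma exists_eq_pow_of_mul_eq {x : H} (hx : orderOf x = p) {y : MonoidAlgebra k H} (hy : ofk x * y = y) :
    ∃ r, y = (ofk x - 1) ^ (p - 1) * r := by
  classical
  letI : Fintype (Subgroup.zpowers x) := Fintype.ofFinite _
  obtain ⟨R, hR⟩ := Cfsg.Agent.Lib.DefectOne.exists_sum_free_action (U := Subgroup.zpowers x) (Y := H)
    (A := MonoidAlgebra k H) (fun h u hu => by
      have h1 : (u : H) * h = h := hu
      apply Subtype.ext
      simpa using h1)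
  have hco : ∀ (i : ℕ) (g : H), y.coeff (x ^ i * g) = y.coeff g := by
    intro i
    induction i with
    | zero => simp
    | succ i ih =>
      intro g
      rw [pow_succ', mul_assoc]
      have h1 := coeff_of_mul (k := k) x (x ^ i * g) y
      rw [hy] at h1
      rw [h1, ih]
  have hfin : IsOfFinOrder x := isOfFinOrder_iff_pow_eq_one.2 ⟨p, hp.out.pos, by
    rw [← hx, pow_orderOf_eq_one]⟩
  refine ⟨∑ r ∈ R, y.coeff r • ofk r, ?_⟩
  rw [← geom_alg (k := k) (p := p) (ofk x)]
  conv_lhs => rw [eq_sum_single_smul k y]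
  rw [hR, Finset.mul_sum]
  refine Finset.sum_congr rfl fun r _ => ?_
  subst hx
  rw [← Equiv.sum_comp (finEquivZPowers hfin), Finset.sum_mul, Finset.sum_range]
  refine Finset.sum_congr rfl fun i _ => ?_
  have e1 : ((finEquivZPowers hfin i : Subgroup.zpowers x) • r : H) = x ^ (i : ℕ) * r := by
    simp [finEquivZPowers_apply, Subgroup.smul_def]
  rw [e1, hco, mul_smul_comm, ← map_pow, ← map_mul]
  rfl

lemma of_central {x : H} (hc : ∀ h, x * h = h * x) (y : MonoidAlgebra k H) : ofk x * y = y * ofk x := by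
  rw [eq_sum_single_smul k y, Finset.mul_sum, Finset.sum_mul]
  refine Finset.sum_congr rfl fun g _ => ?_
  rw [mul_smul_comm, smul_mul_assoc]
  congr 1
  have e : ∀ a : H, ofk a = MonoidAlgebra.single a 1 := fun _ => rfl
  rw [e, MonoidAlgebra.single_mul_single, MonoidAlgebra.single_mul_single, hc]

variable {e ι w : MonoidAlgebra k H} {n : ℕ} {u v : Fin n → MonoidAlgebra k H} {q : ℕ}

lemma T_central {x : H} (hc : ∀ h, x * h = h * x) (y : MonoidAlgebra k H) :
    (ofk x - 1) * y = y * (ofk x - 1) := by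
  rw [sub_mul, mul_sub, one_mul, mul_one, of_central hc]

lemma T_pow {x : H} (hx : orderOf x = p) : (ofk x - 1) ^ p = 0 := by
  rw [pow_char_alg (k := k), ← map_pow, ← hx, pow_orderOf_eq_one, map_one, sub_self]

lemma T_ann {x : H} (hx : orderOf x = p) (y : MonoidAlgebra k H) (hy : (ofk x - 1) * y = 0) :
    ∃ r, y = (ofk x - 1) ^ (p - 1) * r := by
  apply exists_eq_pow_of_mul_eq hx
  rwa [sub_mul, one_mul, sub_eq_zero] at hy

/-- **The relation between `x` and the generator of the centre.** -/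
theorem exists_x_rel (S : BStr (k := k) e ι w u v q) {x : H} (hx : orderOf x = p) (hc : ∀ h, x * h = h * x) :
    ∃ (s : ℕ) (P : Polynomial k), P.coeff 0 ≠ 0 ∧ (ofk x - 1) * e = w ^ s * Polynomial.aeval w P * e ∧ s * p = q :=
  exists_rel_abs S (T_central hc) (T_pow hx) (T_ann hx)

/-- `x` does not act trivially on the block factor. -/
theorem T_mul_ne_zero (S : BStr (k := k) e ι w u v q) {x : H} (hx : orderOf x = p) (hc : ∀ h, x * h = h * x) :
    (ofk x - 1) * e ≠ 0 := by
  intro h0
  have he0 : e ≠ 0 := by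
    intro h0
    have : w = 0 := by rw [← S.ew, h0, zero_mul]
    apply S.wq'
    rw [this, zero_pow (by have := S.hq; omega)]
  obtain ⟨r, hr⟩ := T_ann hx e h0
  apply he0
  have hp2 : 2 ≤ p := hp.out.two_le
  obtain ⟨p', hp'⟩ : ∃ p', p - 1 = p' + 1 := ⟨p - 2, by omega⟩
  rw [hp', pow_succ] at hr
  set T : MonoidAlgebra k H := ofk x - 1 with hT
  calc e = e * e := S.ee.symm
    _ = (T ^ p' * T * r) * e := by
      conv_lhs => arg 1; rw [hr]
    _ = T ^ p' * (T * e) * r := by
      rw [mul_assoc (T ^ p' * T), ← S.ec, mul_assoc (T ^ p'), mul_assoc (T ^ p'), ← mul_assoc T]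
    _ = 0 := by
      rw [h0, mul_zero, zero_mul]

lemma dAut_mul_apply (R : Type*) [CommRing R] (φ ψ : MulAut H) (y : MonoidAlgebra R H) :
    dAut R (φ * ψ) y = dAut R φ (dAut R ψ y) := by
  apply MonoidAlgebra.ext
  apply Finsupp.ext
  intro g
  rw [coeff_dAut, coeff_dAut, coeff_dAut]
  rfl

lemma dAut_one (R : Type*) [CommRing R] (y : MonoidAlgebra R H) : dAut R (1 : MulAut H) y = y := by
  apply MonoidAlgebra.ext
  apply Finsupp.ext
  intro g
  rw [coeff_dAut]
  rfl

lemma dAut_pow_of_eigen (R : Type*) [CommRing R] (φ : MulAut H) {y : MonoidAlgebra R H} {τ : R}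
    (h : dAut R φ y = τ • y) (i : ℕ) : dAut R (φ ^ i) y = τ ^ i • y := by
  induction i with
  | zero => simp [dAut_one]
  | succ i ih =>
    rw [pow_succ', dAut_mul_apply, ih, map_smul, h, smul_smul, pow_succ]

lemma dAut_inner (R : Type*) [CommRing R] {ψ : MulAut H} {g : H} (hg : ∀ h, ψ h = g * h * g⁻¹)
    (y : MonoidAlgebra R H) : dAut R ψ y = MonoidAlgebra.single g 1 * y * MonoidAlgebra.single g⁻¹ 1 := by
  induction y using MonoidAlgebra.induction_on with
  | of h =>
    have e : MonoidAlgebra.of R H h = MonoidAlgebra.single h 1 := rfl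
    rw [e, dAut_single, hg, MonoidAlgebra.single_mul_single, MonoidAlgebra.single_mul_single]
    simp
  | add x y hx hy => rw [map_add, hx, hy, mul_add, add_mul]
  | smul c x hx => rw [map_smul, hx, mul_smul_comm, smul_mul_assoc]

/-- The eigenvalue of an inner automorphism on the generator of the centre is trivial. -/
theorem tau_pow_of_inner (S : BStr (k := k) e ι w u v q) {φ : MulAut H} {τ : k} (hcw : dAut k φ w = τ • w)
    {i : ℕ} {g : H} (hg : ∀ h, (φ ^ i) h = g * h * g⁻¹) : τ ^ i = 1 := by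
  have h1 := dAut_pow_of_eigen k φ hcw i
  rw [dAut_inner k hg, ← S.cw (MonoidAlgebra.single g 1), mul_assoc, MonoidAlgebra.single_mul_single, mul_inv_cancel,
    one_mul] at h1
  have hw0 : w ≠ 0 := by
    intro h0
    apply S.wq'
    rw [h0, zero_pow (by have := S.hq; omega)]
  have h2 : (τ ^ i - 1) • w = 0 := by
    rw [sub_smul, one_smul, sub_eq_zero]
    have e1 : (MonoidAlgebra.single (1 : H) (1 : k)) = (1 : MonoidAlgebra k H) := rfl
    rw [e1, mul_one] at h1
    exact h1.symm
  rcases smul_eq_zero.1 h2 with h3 | h3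
  · exact sub_eq_zero.1 h3
  · exact absurd h3 hw0

/-- The eigenvalue of the automorphism on the generator of the centre detects the action on `x`. -/
theorem tau_fix (S : BStr (k := k) e ι w u v q) {x : H} (hx : orderOf x = p) (hc : ∀ h, x * h = h * x)
    {φ : MulAut H} {τ : k} (hcw : dAut k φ w = τ • w) (hce : dAut k φ e = e)
    {i : ℕ} (hτ : τ ^ i = 1) (hφx : (φ ^ i) x ∈ Subgroup.zpowers x) : (φ ^ i) x = x := by
  classical
  have h1 : dAut k (φ ^ i) w = w := by
    rw [dAut_pow_of_eigen k φ hcw, hτ, one_smul]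
  have h2 : dAut k (φ ^ i) e = e := by
    have := dAut_pow_of_eigen k φ (y := e) (τ := 1) (by rw [one_smul]; exact hce) i
    rwa [one_pow, one_smul] at this
  set X := (ofk x - 1) * e with hX
  have hXe : e * X = X := by
    rw [hX, S.ec, mul_assoc, S.ee]
  have hXc : ∀ y, X * y = y * X := fun y => by
    rw [hX, mul_assoc, S.ec, ← mul_assoc, T_central hc, mul_assoc]
  obtain ⟨Q, hQ⟩ := S.cpoly X hXe hXc
  have h3 : dAut k (φ ^ i) X = X := by
    conv_lhs => rw [hQ]
    rw [map_mul, h2, ← Polynomial.aeval_algHom_apply, h1, ← hQ]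
  have h4 : dAut k (φ ^ i) X = (ofk ((φ ^ i) x) - 1) * e := by
    rw [hX, map_mul, h2, map_sub, map_one]
    congr 2
    exact dAut_single k _ x 1
  rw [h4] at h3
  by_contra hne
  set y := (φ ^ i) x with hy
  set z := y * x⁻¹ with hz
  have hz1 : z ≠ 1 := fun h => hne (by simpa [hz, mul_inv_eq_one] using h)
  have hzm : z ∈ Subgroup.zpowers x := Subgroup.mul_mem _ hφx (Subgroup.inv_mem _ (Subgroup.mem_zpowers x))
  have h5 : (ofk z - 1) * e = 0 := by
    have h6 : (ofk y - ofk x) * e = 0 := by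
      have h7 : (ofk y - 1) * e - (ofk x - 1) * e = 0 := sub_eq_zero.2 h3
      rw [← sub_mul] at h7
      rw [← h7]
      congr 1
      abel
    have h8 : ofk y = ofk z * ofk x := by
      rw [← map_mul, hz, inv_mul_cancel_right]
    have h9 : (ofk z - 1) * e * ofk x = 0 := by
      calc (ofk z - 1) * e * ofk x = (ofk z - 1) * (e * ofk x) := by rw [mul_assoc]
        _ = (ofk z - 1) * (ofk x * e) := by rw [S.ec]
        _ = (ofk z * ofk x - ofk x) * e := by rw [← mul_assoc, sub_mul, one_mul]
        _ = 0 := by rw [← h8, h6]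
    have h10 : ofk x * ofk x⁻¹ = (1 : MonoidAlgebra k H) := by
      rw [← map_mul, mul_inv_cancel, map_one]
    calc (ofk z - 1) * e = (ofk z - 1) * e * (ofk x * ofk x⁻¹) := by rw [h10, mul_one]
      _ = (ofk z - 1) * e * ofk x * ofk x⁻¹ := by simp only [mul_assoc]
      _ = 0 := by rw [h9, zero_mul]
  have h11 : ofk z * e = e := by
    rwa [sub_mul, one_mul, sub_eq_zero] at h5
  have h12 : ∀ l : ℕ, ofk (z ^ l) * e = e := by
    intro l
    induction l with
    | zero => rw [pow_zero, map_one, one_mul]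
    | succ l ih => rw [pow_succ, map_mul, mul_assoc, h11, ih]
  have hoz : orderOf z = p := by
    haveI := hp
    apply orderOf_eq_prime _ hz1
    obtain ⟨j, hj⟩ := Subgroup.mem_zpowers_iff.1 hzm
    rw [← hj, ← zpow_natCast, ← zpow_mul, mul_comm, zpow_mul, zpow_natCast, ← hx, pow_orderOf_eq_one, one_zpow]
  have hzx : Subgroup.zpowers z = Subgroup.zpowers x := by
    apply Subgroup.eq_of_le_of_card_ge ((Subgroup.zpowers_le).2 hzm)
    rw [Nat.card_zpowers, Nat.card_zpowers, hx, hoz]
  have hxz : x ∈ Subgroup.zpowers z := by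
    rw [hzx]
    exact Subgroup.mem_zpowers x
  have hfin : IsOfFinOrder z := isOfFinOrder_iff_pow_eq_one.2 ⟨p, hp.out.pos, by
    rw [← hoz, pow_orderOf_eq_one]⟩
  obtain ⟨l, hl⟩ := (hfin.mem_powers_iff_mem_zpowers).2 hxz
  have h13 := h12 l
  simp only at hl
  rw [hl] at h13
  apply T_mul_ne_zero S hx hc
  rw [sub_mul, one_mul, h13, sub_self]

end XRel

end Cfsg.Agent.Lib.Dade
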