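import Mathlib
import Cfsg.Agent.Lib.Dade.GB

/-!
# Lifts of the generator of the centre of the block factor
-/

set_option autoImplicit false
set_option linter.unusedSectionVars false
set_option linter.style.haveILetI false

namespace Cfsg.Agent.Lib.Dade

open Module Cfsg Cfsg.Agent.Lib.Blocks.Local Cfsg.Agent.Lib.Blocks.Central Cfsg.Agent.Lib.Blocks.Osima
open Cfsg.Agent.Lib.Blocks.ModRank Cfsg.Agent.Lib.Blocks.SymLocal
open Cfsg.Agent.Lib.Blocks.ModBlock Cfsg.Agent.Lib.Blocks.SymCom Cfsg.Agent.Lib.Blocks.RepFin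
open Cfsg.Agent.Lib.Blocks.Transport

universe u

section BStrFacts

variable {k A : Type*} [Field k] [Ring A] [Algebra k A] {e ι w : A} {n : ℕ} {u v : Fin n → A} {q : ℕ}

lemma BStr.e_ne (S : BStr (k := k) e ι w u v q) : e ≠ 0 := by
  intro h0
  have : w = 0 := by rw [← S.ew, h0, zero_mul]
  apply S.wq'
  rw [this, zero_pow (by have := S.hq; omega)]

lemma BStr.w_ne (S : BStr (k := k) e ι w u v q) : w ≠ 0 := by
  intro h0
  apply S.wq'
  rw [h0, zero_pow (by have := S.hq; omega)]

lemma BStr.e_pow (S : BStr (k := k) e ι w u v q) (d : ℕ) (hd : 1 ≤ d) : e * w ^ d = w ^ d := by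
  obtain ⟨d', rfl⟩ : ∃ d', d = d' + 1 := ⟨d - 1, by omega⟩
  rw [pow_succ', ← mul_assoc, S.ew]

lemma BStr.le_of_mul_e (S : BStr (k := k) e ι w u v q) {d : ℕ} (h : w ^ d * e = 0) : q ≤ d := by
  by_contra hlt
  push Not at hlt
  have hq := S.hq
  apply S.wq'
  have e1 : q - 1 = (q - 1 - d) + d := by omega
  rw [← S.e_pow (q - 1) (by omega), S.ec, e1, pow_add, mul_assoc, h, mul_zero]

end BStrFacts

section Lift

variable {H : Type u} [Group H] [Fintype H] {M : Ideal AlgInt} [hM : M.IsPrime]
  {f : Set (IrrCharacter H)} {a : MonoidAlgebra (localRing M) H}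

local notation "kk" => (localRing M ⧸ localIdeal M)
local notation "RR" => (localRing M)

lemma piR_dAut (φ : H ≃* H) (y : MonoidAlgebra RR H) : piR H M (dAut RR φ y) = dAut kk φ (piR H M y) := by
  apply MonoidAlgebra.ext
  apply Finsupp.ext
  intro g
  rw [coeff_piR, coeff_dAut, coeff_dAut, coeff_piR]

lemma iota_dAut (φ : H ≃* H) (y : MonoidAlgebra RR H) : iota H M (dAut RR φ y) = dAut ℂ φ (iota H M y) := by
  apply MonoidAlgebra.ext
  apply Finsupp.ext
  intro g
  rw [coeff_iota, coeff_dAut, coeff_dAut, coeff_iota]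

lemma isClassFunction_dAut (φ : H ≃* H) {y : MonoidAlgebra ℂ H} (hy : IsClassFunction H y.coeff) :
    IsClassFunction H (dAut ℂ φ y).coeff := by
  intro g x
  rw [coeff_dAut, coeff_dAut]
  have e1 : φ.symm (x * g * x⁻¹) = φ.symm x * φ.symm g * (φ.symm x)⁻¹ := by simp
  rw [e1]
  exact hy _ _

lemma isClassFunction_sum' {ι : Type*} (s : Finset ι) (g : ι → MonoidAlgebra ℂ H)
    (hg : ∀ i ∈ s, IsClassFunction H (g i).coeff) : IsClassFunction H (∑ i ∈ s, g i).coeff := by
  classical
  induction s using Finset.induction_on with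
  | empty =>
    intro x y
    simp
  | insert i s hi ih =>
    rw [Finset.sum_insert hi]
    exact isClassFunction_add (hg i (Finset.mem_insert_self _ _))
      (ih fun j hj => hg j (Finset.mem_insert_of_mem hj))

lemma omega_irrComap (φ : H ≃* H) (χ : IrrCharacter H) (y : MonoidAlgebra ℂ H) :
    omega (irrComap φ χ : H → ℂ) y = omega (χ : H → ℂ) (dAut ℂ φ y) := by
  unfold omega
  simp only [coe_irrComap, map_one, coeff_dAut]
  congr 1
  have := Equiv.sum_comp φ.toEquiv (fun g => y.coeff (φ.symm g) * (χ : H → ℂ) g)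
  rw [← this]
  refine Finset.sum_congr rfl fun g _ => ?_
  simp

lemma exists_root_lift {e : ℕ} (he : 0 < e) {τ : kk} (hτ : τ ^ e = 1) :
    ∃ τ' : RR, τ' ^ e = 1 ∧ residue M τ' = τ := by
  classical
  have hζ : IsPrimitiveRoot (Complex.exp (2 * Real.pi * Complex.I / e)) e :=
    Complex.isPrimitiveRoot_exp e he.ne'
  have hint : IsIntegral ℤ (Complex.exp (2 * Real.pi * Complex.I / e)) := hζ.isIntegral he
  let ζ : RR := ⟨_, memLocalRing_of_isIntegral hint⟩
  have hζ' : IsPrimitiveRoot ζ e := (IsPrimitiveRoot.map_iff_of_injective (f := (localRing M).subtype)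
    Subtype.val_injective).1 hζ
  have h1 := Polynomial.X_pow_sub_one_eq_prod he hζ'
  have h2 := congrArg (fun P => Polynomial.eval τ (Polynomial.map (residue M) P)) h1
  simp only [Polynomial.map_sub, Polynomial.map_pow, Polynomial.map_X, Polynomial.map_one, Polynomial.eval_sub,
    Polynomial.eval_pow, Polynomial.eval_X, Polynomial.eval_one, hτ, sub_self, Polynomial.map_prod,
    Polynomial.map_C, Polynomial.eval_prod, Polynomial.eval_C] at h2
  obtain ⟨z, hz, hz0⟩ := Finset.prod_eq_zero_iff.1 h2.symm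
  refine ⟨z, ?_, (sub_eq_zero.1 hz0).symm⟩
  rwa [Polynomial.mem_nthRootsFinset he] at hz

lemma mulAut_pow_apply (φ : MulAut H) (i : ℕ) (h : H) : (φ ^ i) h = φ^[i] h := by
  induction i generalizing h with
  | zero => rfl
  | succ i ih =>
    rw [pow_succ, Function.iterate_succ_apply, MulAut.mul_apply, ih]

variable {ι w : MonoidAlgebra (localRing M ⧸ localIdeal M) H} {n : ℕ} {u v : Fin n → MonoidAlgebra (localRing M ⧸ localIdeal M) H} {q : ℕ}

lemma dAut_lift_eq (ha : iota H M a = blockElt f) (φ : H ≃* H) (hφ : blockMap φ f = f) :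
    dAut RR φ a = a := by
  apply MonoidAlgebra.ext
  apply Finsupp.ext
  intro g
  rw [coeff_dAut, coeff_lift_comap ha φ hφ]

/-- **An eigenvector lifting the generator of the centre.** -/
theorem exists_eigen_lift (ha : iota H M a = blockElt f) (S : BStr (k := kk) (piR H M a) ι w u v q)
    (φ : MulAut H) (hφ : blockMap φ f = f) {m : ℕ} (hm : ∀ h, φ^[m] h = h) (hm' : (m : kk) ≠ 0)
    {τ' : RR} (hτ' : τ' ^ m = 1) (hcw : dAut kk φ w = residue M τ' • w) :
    ∃ w' : MonoidAlgebra RR H, piR H M w' = w ∧ a * w' = w' ∧ IsClassFunction H (iota H M w').coeff ∧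
      dAut RR φ w' = τ' • w' := by
  classical
  have hm0 : 0 < m := by
    rcases Nat.eq_zero_or_pos m with h | h
    · exact absurd (by rw [h]; simp) hm'
    · exact h
  -- a class function lifting `w`
  have hwZ : w ∈ Submodule.span kk (Set.range fun K : ConjClasses H => piR H M a * piR H M (csL K.out)) := by
    rw [← S.ew, eq_sum_piR_csL S.cw, Finset.mul_sum]
    refine Submodule.sum_mem _ fun K _ => ?_
    rw [mul_smul_comm]
    exact Submodule.smul_mem _ _ (Submodule.subset_span ⟨K, rfl⟩)
  obtain ⟨y, hy, hycl⟩ := exists_lift_of_mem_Zs ha hwZ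
  set w₂ := a * y with hw₂
  have hw₂cl : IsClassFunction H (iota H M w₂).coeff := by
    rw [hw₂, map_mul, ha]
    exact isClassFunction_mul (isClassFunction_blockElt f) hycl
  have hw₂p : piR H M w₂ = w := by
    rw [hw₂, map_mul, hy, S.ew]
  have haa : a * a = a := lift_mul_self ha
  have haw₂ : a * w₂ = w₂ := by rw [hw₂, ← mul_assoc, haa]
  have hm1 : IsUnit ((m : ℕ) : RR) := by
    apply isUnit_of_residue_ne_zero
    rwa [map_natCast]
  obtain ⟨mi, hmi⟩ := hm1.exists_left_inv
  set ti := τ' ^ (m - 1) with hti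
  have htt : τ' * ti = 1 := by
    rw [hti, ← pow_succ', Nat.sub_add_cancel hm0, hτ']
  have hφm : φ ^ m = 1 := by
    ext h
    rw [mulAut_pow_apply, hm]
    rfl
  have hapow : ∀ i, dAut RR (φ ^ i) a = a := by
    intro i
    have := dAut_pow_of_eigen RR φ (y := a) (τ := 1) (by rw [one_smul]; exact dAut_lift_eq ha φ hφ) i
    rwa [one_pow, one_smul] at this
  let F : ℕ → MonoidAlgebra RR H := fun i => ti ^ i • dAut RR (φ ^ i) w₂
  have hF0 : F m = F 0 := by
    simp only [F, pow_zero, one_smul, hφm, dAut_one]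
    have : ti ^ m = 1 := by
      rw [hti, ← pow_mul, mul_comm, pow_mul, hτ', one_pow]
    rw [this, one_smul]
  have hFs : ∀ i, dAut RR φ (F i) = τ' • F (i + 1) := by
    intro i
    simp only [F]
    rw [map_smul, smul_smul, ← dAut_mul_apply, ← pow_succ']
    congr 1
    rw [pow_succ', ← mul_assoc, htt, one_mul]
  have hshift := sum_shift F m hF0
  refine ⟨mi • ∑ i ∈ Finset.range m, F i, ?_, ?_, ?_, ?_⟩
  · rw [piR_smul, map_sum]
    have h1 : ∀ i ∈ Finset.range m, piR H M (F i) = w := by
      intro i _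
      simp only [F]
      rw [piR_smul, piR_dAut, hw₂p, dAut_pow_of_eigen kk φ hcw, smul_smul, map_pow, ← mul_pow]
      have : residue M ti * residue M τ' = 1 := by
        rw [← map_mul, mul_comm, htt, map_one]
      rw [this, one_pow, one_smul]
    rw [Finset.sum_congr rfl h1, Finset.sum_const, Finset.card_range, ← Nat.cast_smul_eq_nsmul kk, smul_smul]
    have : residue M mi * (m : kk) = 1 := by
      rw [← map_natCast (residue M), ← map_mul, hmi, map_one]
    rw [this, one_smul]
  · rw [mul_smul_comm, Finset.mul_sum]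
    congr 1
    refine Finset.sum_congr rfl fun i _ => ?_
    simp only [F]
    rw [mul_smul_comm]
    congr 1
    conv_lhs => arg 1; rw [← hapow i]
    rw [← map_mul, haw₂]
  · rw [iota_smul, map_sum]
    apply isClassFunction_smul
    apply isClassFunction_sum'
    intro i _
    simp only [F]
    rw [iota_smul, iota_dAut]
    exact isClassFunction_smul _ (isClassFunction_dAut _ hw₂cl)
  · rw [map_smul, map_sum, smul_comm]
    congr 1
    rw [Finset.sum_congr rfl fun i _ => hFs i, ← Finset.smul_sum, hshift]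

lemma omega_lift_of_notMem (ha : iota H M a = blockElt f) {y : MonoidAlgebra RR H} (hy : a * y = y)
    {ψ : IrrCharacter H} (hψ : ψ ∉ f) : omega (ψ : H → ℂ) (iota H M y) = 0 := by
  rw [← hy, map_mul, ha, omega_mul ψ.2 (isClassFunction_blockElt f), omega_blockElt_of_notMem hψ, zero_mul]

lemma omega_pow' {χ : H → ℂ} (hχ : IsIrrCharacter H χ) {y : MonoidAlgebra ℂ H} (hy : IsClassFunction H y.coeff)
    (n : ℕ) : IsClassFunction H (y ^ n).coeff ∧ omega χ (y ^ n) = omega χ y ^ n := by
  induction n with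
  | zero => exact ⟨by simpa using isClassFunction_one, by simpa using omega_one hχ⟩
  | succ n ih =>
    refine ⟨by rw [pow_succ]; exact isClassFunction_mul ih.1 hy, ?_⟩
    rw [pow_succ, omega_mul hχ ih.1, ih.2, pow_succ]

lemma mem_localCenter_of_class {y : MonoidAlgebra RR H} (hcl : IsClassFunction H (iota H M y).coeff) :
    iota H M y ∈ localCenter H M := by
  refine ⟨hcl, fun g => ?_⟩
  rw [coeff_iota]
  exact (y.coeff g).2

/-- The eigenvalues of a lift of a nilpotent element lie in the local ideal. -/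
lemma memLocalIdeal_omega_lift {y : MonoidAlgebra RR H} (hcl : IsClassFunction H (iota H M y).coeff) {q : ℕ}
    (hq : piR H M y ^ q = 0) (ψ : IrrCharacter H) : MemLocalIdeal M (omega (ψ : H → ℂ) (iota H M y)) := by
  have h1 : piR H M (y ^ q) = 0 := by rw [map_pow, hq]
  have h2 := (piR_eq_zero_iff _).mp h1
  have h3 : MemLocalIdeal M (omega (ψ : H → ℂ) ((iota H M y) ^ q)) := by
    refine Cfsg.Agent.Lib.Blocks.BlockHom.memLocalIdeal_omega_of_coeff ψ.2 (omega_pow' ψ.2 hcl q).1 fun g => ?_
    rw [← map_pow, coeff_iota]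
    exact h2 g
  rw [(omega_pow' ψ.2 hcl q).2] at h3
  let α : RR := ⟨_, memLocalRing_omega ψ.2 (mem_localCenter_of_class hcl)⟩
  have h4 : α ^ q ∈ localIdeal M := by
    rw [mem_localIdeal]
    push_cast
    exact h3
  exact (Ideal.IsPrime.mem_of_pow_mem inferInstance q h4 : α ∈ localIdeal M)

open Classical in
/-- Products of `w' - α` with prescribed zeros. -/
lemma exists_zS (ha : iota H M a = blockElt f) (S : BStr (k := kk) (piR H M a) ι w u v q)
    {w' : MonoidAlgebra RR H} (hw : piR H M w' = w) (hcl : IsClassFunction H (iota H M w').coeff)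
    (T : Finset (IrrCharacter H)) :
    ∃ z : MonoidAlgebra RR H, a * z = z ∧ IsClassFunction H (iota H M z).coeff ∧
      piR H M z = w ^ T.card * piR H M a ∧
      ∀ ψ ∈ f, omega (ψ : H → ℂ) (iota H M z) =
        ∏ ψ' ∈ T, (omega (ψ : H → ℂ) (iota H M w') - omega (ψ' : H → ℂ) (iota H M w')) := by
  have haa : a * a = a := lift_mul_self ha
  have hq0 : piR H M w' ^ q = 0 := by rw [hw, S.wq]
  induction T using Finset.induction_on with
  | empty =>
    refine ⟨a, haa, ?_, by simp, fun ψ hψ => ?_⟩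
    · rw [ha]
      exact isClassFunction_blockElt f
    · rw [ha, omega_blockElt_of_mem hψ, Finset.prod_empty]
  | insert ψ₁ T hψ₁ ih =>
    obtain ⟨z, hz1, hz2, hz3, hz4⟩ := ih
    let α : RR := ⟨_, memLocalRing_omega ψ₁.2 (mem_localCenter_of_class hcl)⟩
    have hαi : α ∈ localIdeal M := by
      rw [mem_localIdeal]
      exact memLocalIdeal_omega_lift hcl hq0 ψ₁
    have hαr : residue M α = 0 := Ideal.Quotient.eq_zero_iff_mem.2 hαi
    have hi : iota H M (w' - α • a) = iota H M w' - (α : ℂ) • blockElt f := by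
      rw [map_sub, iota_smul, ha]
    have hicl : IsClassFunction H (iota H M (w' - α • a)).coeff := by
      rw [hi]
      intro g x
      simp only [MonoidAlgebra.coeff_sub, Finsupp.sub_apply]
      rw [hcl g x, isClassFunction_smul _ (isClassFunction_blockElt f) g x]
    refine ⟨z * (w' - α • a), ?_, ?_, ?_, fun ψ hψ => ?_⟩
    · rw [← mul_assoc, hz1]
    · rw [map_mul]
      exact isClassFunction_mul hz2 hicl
    · rw [map_mul, hz3, map_sub, hw, piR_smul, hαr, zero_smul, sub_zero, Finset.card_insert_of_notMem hψ₁,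
        pow_succ]
      calc w ^ T.card * piR H M a * w = w ^ T.card * (piR H M a * w) := by rw [mul_assoc]
        _ = w ^ T.card * (w * piR H M a) := by rw [S.ec]
        _ = _ := by rw [mul_assoc]
    · rw [map_mul, omega_mul ψ.2 hz2, hz4 ψ hψ, hi, omega_sub, omega_smul, omega_blockElt_of_mem hψ, mul_one,
        Finset.prod_insert hψ₁, mul_comm]

open Classical in
/-- **The eigenvalues of the lift are distinct.** -/
theorem alpha_injOn (ha : iota H M a = blockElt f) (S : BStr (k := kk) (piR H M a) ι w u v q)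
    (hq : (Finset.univ.filter (· ∈ f)).card = q)
    {w' : MonoidAlgebra RR H} (hw : piR H M w' = w) (hcl : IsClassFunction H (iota H M w').coeff) :
    Set.InjOn (fun ψ : IrrCharacter H => omega (ψ : H → ℂ) (iota H M w')) f := by
  haveI : Nonempty (IrrCharacter H) := by
    have h2 := S.hq
    have h3 : 0 < (Finset.univ.filter (· ∈ f)).card := by omega
    obtain ⟨ψ, _⟩ := Finset.card_pos.1 h3
    exact ⟨ψ⟩
  set α := fun ψ : IrrCharacter H => omega (ψ : H → ℂ) (iota H M w') with hα
  set F := Finset.univ.filter (· ∈ f) with hF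
  let g := Function.invFunOn α (F : Set (IrrCharacter H))
  set T := (F.image α).image g with hT
  obtain ⟨z, hz1, hz2, hz3, hz4⟩ := exists_zS ha S hw hcl T
  have hz0 : iota H M z = 0 := by
    apply eq_of_omega_eq' hz2 (by intro x y; simp)
    intro χ
    rw [omega_zero]
    by_cases hχ : χ ∈ f
    · rw [hz4 χ hχ]
      have hχF : χ ∈ (F : Set (IrrCharacter H)) := by simp [hF, hχ]
      apply Finset.prod_eq_zero (i := g (α χ))
      · exact Finset.mem_image_of_mem _ (Finset.mem_image_of_mem _ (by simpa using hχF))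
      · have : α (g (α χ)) = α χ := Function.invFunOn_eq ⟨χ, hχF, rfl⟩
        exact sub_eq_zero.2 this.symm
    · exact omega_lift_of_notMem ha hz1 hχ
  have hz : z = 0 := iota_injective (by rw [hz0, map_zero])
  have h1 : w ^ T.card * piR H M a = 0 := by rw [← hz3, hz, map_zero]
  have h2 := S.le_of_mul_e h1
  have h3 : T.card ≤ (F.image α).card := Finset.card_image_le
  have h4 : (F.image α).card ≤ F.card := Finset.card_image_le
  have h5 : (F.image α).card = F.card := by omega
  have h6 := Finset.card_image_iff.1 h5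
  intro x hx y hy hxy
  exact h6 (by simpa [hF] using hx) (by simpa [hF] using hy) hxy

/-- The effect of the automorphism on the eigenvalues. -/
lemma alpha_comap (φ : H ≃* H) {w' : MonoidAlgebra RR H} {τ' : RR} (h : dAut RR φ w' = τ' • w')
    (ψ : IrrCharacter H) : omega (irrComap φ ψ : H → ℂ) (iota H M w') = τ' * omega (ψ : H → ℂ) (iota H M w') := by
  rw [omega_irrComap, ← iota_dAut, h, iota_smul, omega_smul]

end Lift

section Orbits

variable {X : Type*} [DecidableEq X]

lemma perm_pow_mul_apply (σ : Equiv.Perm X) {e : ℕ} {y : X} (h : (σ ^ e) y = y) (l : ℕ) : (σ ^ (e * l)) y = y := by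
  induction l with
  | zero => simp
  | succ l ih =>
    rw [mul_add, mul_one, pow_add, Equiv.Perm.mul_apply, h, ih]

lemma perm_pow_mod (σ : Equiv.Perm X) {e : ℕ} {y : X} (h : (σ ^ e) y = y) (j : ℕ) :
    (σ ^ j) y = (σ ^ (j % e)) y := by
  conv_lhs => rw [← Nat.mod_add_div j e, pow_add, Equiv.Perm.mul_apply, perm_pow_mul_apply σ h]

/-- Orbit representatives for a power of a permutation acting freely. -/
theorem exists_orbit_reps_iter (σ : Equiv.Perm X) {e : ℕ} (he : 0 < e) (Y : Finset X) (hY : ∀ y ∈ Y, σ y ∈ Y)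
    (h1 : ∀ y ∈ Y, (σ ^ e) y = y) (h2 : ∀ y ∈ Y, ∀ j : ℕ, (σ ^ j) y = y → e ∣ j) :
    ∃ R ⊆ Y, R.card * e = Y.card ∧ (∀ y ∈ Y, ∃ r ∈ R, ∃ j < e, (σ ^ j) r = y) ∧
      (∀ r ∈ R, ∀ r' ∈ R, ∀ j : ℕ, (σ ^ j) r = r' → r = r') := by
  induction hn : Y.card using Nat.strong_induction_on generalizing Y with
  | _ n ih =>
    rcases Y.eq_empty_or_nonempty with rfl | ⟨y, hy⟩
    · refine ⟨∅, by simp, ?_, by simp, by simp⟩
      rw [← hn]
      simp
    have hYit : ∀ j : ℕ, ∀ z ∈ Y, (σ ^ j) z ∈ Y := by
      intro j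
      induction j with
      | zero => simp
      | succ j ih' =>
        intro z hz
        rw [pow_succ', Equiv.Perm.mul_apply]
        exact hY _ (ih' z hz)
    set O := (Finset.range e).image (fun j => (σ ^ j) y) with hO
    have hinj : Set.InjOn (fun j => (σ ^ j) y) (Finset.range e : Set ℕ) := by
      have key : ∀ i j, i < j → j < e → (σ ^ i) y ≠ (σ ^ j) y := by
        intro i j hij hje h
        have h3 : (σ ^ (j - i)) y = y := by
          have : (σ ^ i) ((σ ^ (j - i)) y) = (σ ^ i) y := by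
            rw [← Equiv.Perm.mul_apply, ← pow_add, Nat.add_sub_cancel' hij.le, h]
          exact (σ ^ i).injective this
        have h4 := Nat.le_of_dvd (by omega) (h2 y hy _ h3)
        omega
      intro i hi j hj hij
      simp only [Finset.coe_range, Set.mem_Iio] at hi hj
      rcases lt_trichotomy i j with h | h | h
      · exact absurd hij (key i j h hj)
      · exact h
      · exact absurd hij.symm (key j i h hi)
    have hOc : O.card = e := by
      rw [hO, Finset.card_image_of_injOn hinj, Finset.card_range]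
    have hOY : O ⊆ Y := by
      intro z hz
      obtain ⟨j, -, rfl⟩ := Finset.mem_image.1 hz
      exact hYit j y hy
    have hOall : ∀ j : ℕ, (σ ^ j) y ∈ O := by
      intro j
      rw [perm_pow_mod σ (h1 y hy) j]
      exact Finset.mem_image_of_mem _ (Finset.mem_range.2 (Nat.mod_lt _ he))
    have hOback : ∀ z, ∀ j : ℕ, (σ ^ j) z ∈ O → z ∈ Y → z ∈ O := by
      intro z j hz hzY
      obtain ⟨i, -, hi⟩ := Finset.mem_image.1 hz
      -- `σ ^ (e * (j + 1) - j)` brings it back
      have hle : j ≤ e * (j + 1) := by nlinarith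
      have h3 : (σ ^ (e * (j + 1) - j)) ((σ ^ j) z) = z := by
        rw [← Equiv.Perm.mul_apply, ← pow_add, Nat.sub_add_cancel hle]
        exact perm_pow_mul_apply σ (h1 z hzY) _
      rw [← h3, ← hi, ← Equiv.Perm.mul_apply, ← pow_add]
      exact hOall _
    set Y' := Y \ O with hY'
    have hY'c : Y'.card + e = Y.card := by
      rw [hY', ← hOc, Finset.card_sdiff_add_card_eq_card hOY]
    have hstab : ∀ z ∈ Y', σ z ∈ Y' := by
      intro z hz
      obtain ⟨hz1, hz2⟩ := Finset.mem_sdiff.1 hz
      refine Finset.mem_sdiff.2 ⟨hY z hz1, fun h3 => hz2 ?_⟩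
      exact hOback z 1 (by simpa using h3) hz1
    obtain ⟨R, hR, hRc, hRcov, hRuniq⟩ := ih Y'.card (by omega) Y' hstab
      (fun z hz => h1 z (Finset.mem_sdiff.1 hz).1) (fun z hz => h2 z (Finset.mem_sdiff.1 hz).1) rfl
    have hyO : y ∈ O := by
      have := hOall 0
      simpa using this
    have hyR : y ∉ R := fun h => (Finset.mem_sdiff.1 (hR h)).2 hyO
    refine ⟨insert y R, ?_, ?_, ?_, ?_⟩
    · intro z hz
      rcases Finset.mem_insert.1 hz with rfl | hz
      · exact hy
      · exact (Finset.mem_sdiff.1 (hR hz)).1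
    · rw [Finset.card_insert_of_notMem hyR, add_mul, hRc, one_mul, hY'c, hn]
    · intro z hz
      by_cases hzO : z ∈ O
      · obtain ⟨j, hj, hjz⟩ := Finset.mem_image.1 hzO
        exact ⟨y, Finset.mem_insert_self _ _, j, Finset.mem_range.1 hj, hjz⟩
      · obtain ⟨r, hr, j, hj, hjz⟩ := hRcov z (Finset.mem_sdiff.2 ⟨hz, hzO⟩)
        exact ⟨r, Finset.mem_insert_of_mem hr, j, hj, hjz⟩
    · intro r hr r' hr' j hj
      rcases Finset.mem_insert.1 hr with rfl | hr1
      · rcases Finset.mem_insert.1 hr' with rfl | hr2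
        · rfl
        · exact absurd (hj ▸ hOall j) (Finset.mem_sdiff.1 (hR hr2)).2
      · rcases Finset.mem_insert.1 hr' with rfl | hr2
        · have h3 := hOback r j (by rw [hj]; exact hyO) (Finset.mem_sdiff.1 (hR hr1)).1
          exact absurd h3 (Finset.mem_sdiff.1 (hR hr1)).2
        · exact hRuniq r hr1 r' hr2 j hj

end Orbits

end Cfsg.Agent.Lib.Dade
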