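import Mathlib
import Cfsg.Agent.Lib.Dade.WB

/-!
# The relative trace and the dichotomy (a Green type argument)

`ρ : G →* End K W`, `T` a subgroup containing `x` of prime order `p`, `ê` an idempotent commuting with `T`.
-/

set_option autoImplicit false
set_option linter.unusedSectionVars false

namespace Cfsg.Agent.Lib.Dade

open Module
open Cfsg.Agent.Lib.DefectOne (cj relTr relTr_comm cj_mul cj_out cj_eq_of_mem exists_sum_free_action)

section TrX2

variable {K W : Type*} [Field K] [AddCommGroup W] [Module K W]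
variable {x xi : End K W} {p : ℕ}

lemma trX_add (a b : End K W) : trX x xi p (a + b) = trX x xi p a + trX x xi p b := by
  unfold trX
  rw [← Finset.sum_add_distrib]
  refine Finset.sum_congr rfl fun i _ => ?_
  rw [mul_add, add_mul]

lemma trX_neg (a : End K W) : trX x xi p (-a) = - trX x xi p a := by
  unfold trX
  rw [← Finset.sum_neg_distrib]
  refine Finset.sum_congr rfl fun i _ => ?_
  rw [mul_neg, neg_mul]

lemma trX_smul (c : K) (a : End K W) : trX x xi p (c • a) = c • trX x xi p a := by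
  unfold trX
  rw [Finset.smul_sum]
  refine Finset.sum_congr rfl fun i _ => ?_
  rw [mul_smul_comm, smul_mul_assoc]

lemma IsTrX.add {a b : End K W} (ha : IsTrX x xi p a) (hb : IsTrX x xi p b) : IsTrX x xi p (a + b) := by
  obtain ⟨α, rfl⟩ := ha
  obtain ⟨β, rfl⟩ := hb
  exact ⟨α + β, (trX_add α β).symm⟩

lemma IsTrX.neg {a : End K W} (ha : IsTrX x xi p a) : IsTrX x xi p (-a) := by
  obtain ⟨α, rfl⟩ := ha
  exact ⟨-α, (trX_neg α).symm⟩

lemma IsTrX.sub {a b : End K W} (ha : IsTrX x xi p a) (hb : IsTrX x xi p b) : IsTrX x xi p (a - b) := by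
  rw [sub_eq_add_neg]
  exact ha.add hb.neg

lemma IsTrX.smul {a : End K W} (c : K) (ha : IsTrX x xi p a) : IsTrX x xi p (c • a) := by
  obtain ⟨α, rfl⟩ := ha
  exact ⟨c • α, (trX_smul c α).symm⟩

lemma isTrX_zero : IsTrX x xi p 0 := ⟨0, by simp [trX]⟩

lemma IsTrX.sum {ι : Type*} (s : Finset ι) (f : ι → End K W) (h : ∀ i ∈ s, IsTrX x xi p (f i)) :
    IsTrX x xi p (∑ i ∈ s, f i) := by
  classical
  induction s using Finset.induction_on with
  | empty => simpa using isTrX_zero
  | insert a s ha ih =>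
    rw [Finset.sum_insert ha]
    exact (h a (Finset.mem_insert_self _ _)).add (ih fun i hi => h i (Finset.mem_insert_of_mem hi))

end TrX2

section Green

variable {G : Type*} [Group G] [Finite G] {K W : Type*} [Field K] [AddCommGroup W] [Module K W]
variable {p : ℕ}

lemma sum_zpowers_conj (ρ : G →* End K W) {x : G} (hx : orderOf x = p) (hp : 0 < p)
    [Fintype (Subgroup.zpowers x)] (B : End K W) :
    ∑ u : Subgroup.zpowers x, ρ (u : G) * B * ρ (u : G)⁻¹ = trX (ρ x) (ρ x⁻¹) p B := by
  have hfin : IsOfFinOrder x := isOfFinOrder_iff_pow_eq_one.2 ⟨p, hp, by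
    rw [← hx, pow_orderOf_eq_one]⟩
  rw [← Equiv.sum_comp (finEquivZPowers hfin)]
  unfold trX
  rw [← hx, Finset.sum_range]
  refine Finset.sum_congr rfl fun i _ => ?_
  have h : ρ (x ^ (i : ℕ))⁻¹ = ρ x⁻¹ ^ (i : ℕ) := by rw [← inv_pow, map_pow]
  simp [finEquivZPowers_apply, map_pow, h]

variable (ρ : G →* End K W) {T : Subgroup G} {x : G} {E : End K W}

/-- The relative trace cut by `E`, modulo traces from `⟨x⟩`. -/
theorem isTrX_relTr_sub (hx : orderOf x = p) (hpp : p.Prime) (hxT : x ∈ T)
    (hEE : E * E = E) (hET : ∀ t ∈ T, E * ρ t = ρ t * E)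
    (h1 : ∀ g, g ∉ T → (∀ u ∈ Subgroup.zpowers x, g⁻¹ * u * g ∈ Subgroup.zpowers x) →
      E * cj ρ g E = 0)
    (h2 : ∀ g, (∀ u ∈ Subgroup.zpowers x, g⁻¹ * u * g ∈ T) →
      (¬ ∀ u ∈ Subgroup.zpowers x, g⁻¹ * u * g ∈ Subgroup.zpowers x) → IsTrX (ρ x) (ρ x⁻¹) p (cj ρ g E))
    {a : End K W} (haT : ∀ t ∈ T, a * ρ t = ρ t * a) (hEa : E * a = a) (haE : a * E = a) :
    IsTrX (ρ x) (ρ x⁻¹) p (E * relTr ρ T a * E - a) := by
  classical
  letI : Fintype (G ⧸ T) := Fintype.ofFinite _
  letI : Fintype (Subgroup.zpowers x) := Fintype.ofFinite _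
  set P := Subgroup.zpowers x with hPdef
  have hPT : P ≤ T := Subgroup.zpowers_le.2 hxT
  have hcardP : (Nat.card P).Prime := by
    rw [hPdef, Nat.card_zpowers, hx]
    exact hpp
  have hEx : E * ρ x = ρ x * E := hET x hxT
  have hExi : E * ρ x⁻¹ = ρ x⁻¹ * E := hET _ (T.inv_mem hxT)
  have hρ1 : ∀ g : G, ρ g * ρ g⁻¹ = 1 := fun g => by rw [← map_mul, mul_inv_cancel, map_one]
  have hρ2 : ∀ g : G, ρ g⁻¹ * ρ g = 1 := fun g => by rw [← map_mul, inv_mul_cancel, map_one]
  -- the fixed cosets
  let X : Finset (G ⧸ T) := Finset.univ.filter (fun q : G ⧸ T => ∀ u : P, u • q = q)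
  have hX : ∀ q, q ∈ X ↔ ∀ u : P, u • q = q := fun q => by simp [X]
  have hXg : ∀ q ∈ X, ∀ u ∈ P, q.out⁻¹ * u * q.out ∈ T := by
    intro q hq u hu
    have h1 := (hX q).1 hq ⟨u, hu⟩
    have h2 : ((u * q.out : G) : G ⧸ T) = (q.out : G ⧸ T) := by
      conv_rhs => rw [QuotientGroup.out_eq']
      conv_rhs => rw [← h1]
      conv_rhs => rw [← QuotientGroup.out_eq' q]
      rfl
    have h3 := QuotientGroup.eq.1 h2
    have h4 : q.out⁻¹ * u⁻¹ * q.out ∈ T := by
      simpa [mul_assoc] using h3
    have h5 := T.inv_mem h4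
    simpa [mul_assoc] using h5
  let Y := {q : G ⧸ T // ¬ ∀ u : P, u • q = q}
  have hsmul : ∀ (u : P) (q : Y), ¬ ∀ u' : P, u' • (u • q.1) = u • q.1 := by
    intro u q h
    apply q.2
    intro u'
    have h1 := h (u * u' * u⁻¹)
    have h2 : (u * u' * u⁻¹) • (u • q.1) = u • (u' • q.1) := by
      simp only [mul_smul, inv_smul_smul]
    rw [h2] at h1
    exact smul_left_cancel u h1
  letI : MulAction P Y :=
    { smul := fun u q => ⟨u • q.1, hsmul u q⟩
      one_smul := fun q => Subtype.ext (one_smul _ _)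
      mul_smul := fun a b q => Subtype.ext (mul_smul a b q.1) }
  have hsm : ∀ (u : P) (q : Y), (u • q : Y).1 = u • q.1 := fun _ _ => rfl
  have hfree : ∀ (y : Y) (u : P), u • y = y → u = 1 := by
    intro y u hu
    by_contra hne
    haveI : Fact (Nat.card P).Prime := ⟨hcardP⟩
    have hS : (MulAction.stabilizer P y.1) = ⊤ := by
      rcases Subgroup.eq_bot_or_eq_top_of_prime_card (MulAction.stabilizer P y.1) with h | h
      · exfalso
        apply hne
        have : u ∈ MulAction.stabilizer P y.1 := congrArg Subtype.val hu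
        rw [h] at this
        simpa using this
      · exact h
    apply y.2
    intro u'
    have : u' ∈ MulAction.stabilizer P y.1 := by rw [hS]; trivial
    exact this
  letI : Fintype Y := Fintype.ofFinite _
  obtain ⟨R, hR⟩ := exists_sum_free_action (U := P) (Y := Y) (A := End K W) hfree
  have hsplit : relTr ρ T a = ∑ q ∈ X, cj ρ q.out a + ∑ y : Y, cj ρ y.1.out a := by
    unfold relTr
    rw [← Finset.sum_filter_add_sum_filter_not Finset.univ (· ∈ X)]
    congr 1
    · refine Finset.sum_congr ?_ fun _ _ => rfl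
      ext q
      simp
    · refine Finset.sum_subtype _ (fun q => ?_) (fun q : G ⧸ T => cj ρ q.out a)
      simp [hX]
  -- the free part
  have hfreepart : IsTrX (ρ x) (ρ x⁻¹) p (∑ y : Y, cj ρ y.1.out a) := by
    rw [hR]
    refine IsTrX.sum _ _ fun r _ => ?_
    refine ⟨cj ρ r.1.out a, ?_⟩
    rw [← sum_zpowers_conj ρ hx hpp.pos]
    refine Finset.sum_congr rfl fun u _ => ?_
    have h1 : (u • r : Y).1 = (((u : G) * r.1.out : G) : G ⧸ T) := by
      rw [hsm]
      conv_lhs => rw [← QuotientGroup.out_eq' r.1]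
      rfl
    rw [h1, cj_out ρ haT, cj_mul]
  have hcut : ∀ b : End K W, IsTrX (ρ x) (ρ x⁻¹) p b → IsTrX (ρ x) (ρ x⁻¹) p (E * b * E) := fun b hb =>
    hb.mul_mul hEx hExi hEx hExi
  -- the fixed part
  have h1T : ((1 : G) : G ⧸ T) ∈ X := by
    rw [hX]
    intro u
    have : ((u : G) : G) ∈ T := hPT u.2
    show ((u : G) • ((1 : G) : G ⧸ T)) = _
    rw [MulAction.Quotient.smul_coe]
    apply QuotientGroup.eq.2
    simpa using this
  have hfixed : ∀ q ∈ X, IsTrX (ρ x) (ρ x⁻¹) p
      (E * cj ρ q.out a * E - if q = ((1 : G) : G ⧸ T) then a else 0) := by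
    intro q hq
    split_ifs with hq1
    · -- the trivial coset
      subst hq1
      have hmem : ((1 : G) : G ⧸ T).out ∈ T := by
        have : (((1 : G) : G ⧸ T).out : G ⧸ T) = ((1 : G) : G ⧸ T) := QuotientGroup.out_eq' _
        have h2 := QuotientGroup.eq.1 this
        simpa using T.inv_mem h2 |> fun h => by simpa using h
      have : cj ρ ((1 : G) : G ⧸ T).out a = a := by
        unfold cj
        rw [← haT _ hmem, mul_assoc, hρ1, mul_one]
      rw [this, mul_assoc, haE, hEa, sub_self]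
      exact isTrX_zero
    · have hnot : q.out ∉ T := by
        intro hmem
        apply hq1
        rw [← QuotientGroup.out_eq' q]
        apply QuotientGroup.eq.2
        simpa using hmem
      rw [sub_zero]
      set g := q.out with hg
      have hcjE : cj ρ g a = cj ρ g E * cj ρ g a * cj ρ g E := by
        unfold cj
        calc ρ g * a * ρ g⁻¹ = ρ g * (E * a * E) * ρ g⁻¹ := by rw [mul_assoc E, haE, hEa]
          _ = ρ g * E * (ρ g⁻¹ * ρ g) * a * (ρ g⁻¹ * ρ g) * E * ρ g⁻¹ := by
            rw [hρ2]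
            simp only [mul_one, mul_assoc]
          _ = _ := by simp only [mul_assoc]
      by_cases hgN : ∀ u ∈ P, g⁻¹ * u * g ∈ P
      · -- a conjugate block
        have h3 := h1 g hnot hgN
        rw [hcjE]
        have : E * (cj ρ g E * cj ρ g a * cj ρ g E) * E = 0 := by
          rw [← mul_assoc, ← mul_assoc, h3]
          simp
        rw [this]
        exact isTrX_zero
      · -- the conjugate is a trace
        have hg' := hXg q hq
        have h4 := h2 g hg' hgN
        have hcx : cj ρ g a * ρ x = ρ x * cj ρ g a := by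
          have h5 : g⁻¹ * x * g ∈ T := hg' x (Subgroup.mem_zpowers x)
          have h6 := haT _ h5
          have e1 : ρ (g⁻¹ * x * g) = ρ g⁻¹ * ρ x * ρ g := by simp only [map_mul]
          rw [e1] at h6
          unfold cj
          calc ρ g * a * ρ g⁻¹ * ρ x = ρ g * a * (ρ g⁻¹ * ρ x * ρ g) * ρ g⁻¹ := by
                simp only [mul_assoc]
                rw [hρ1, mul_one]
            _ = ρ g * (ρ g⁻¹ * ρ x * ρ g) * a * ρ g⁻¹ := by
                rw [mul_assoc (ρ g) a, h6]
                simp only [mul_assoc]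
            _ = ρ x * (ρ g * a * ρ g⁻¹) := by
                simp only [← mul_assoc]
                rw [hρ1, one_mul]
        have hcxi : cj ρ g a * ρ x⁻¹ = ρ x⁻¹ * cj ρ g a := by
          calc cj ρ g a * ρ x⁻¹ = (ρ x⁻¹ * ρ x) * cj ρ g a * ρ x⁻¹ := by rw [hρ2, one_mul]
            _ = ρ x⁻¹ * (ρ x * cj ρ g a) * ρ x⁻¹ := by simp only [mul_assoc]
            _ = ρ x⁻¹ * (cj ρ g a * ρ x) * ρ x⁻¹ := by rw [hcx]
            _ = ρ x⁻¹ * cj ρ g a * (ρ x * ρ x⁻¹) := by simp only [mul_assoc]
            _ = _ := by rw [hρ1, mul_one]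
        have e5 : E * cj ρ g a * E = E * (cj ρ g a * cj ρ g E) * E := by
          have : cj ρ g a * cj ρ g E = cj ρ g a := by
            unfold cj
            calc ρ g * a * ρ g⁻¹ * (ρ g * E * ρ g⁻¹) = ρ g * a * (ρ g⁻¹ * ρ g) * E * ρ g⁻¹ := by
                  simp only [mul_assoc]
              _ = ρ g * (a * E) * ρ g⁻¹ := by rw [hρ2]; simp only [mul_one, mul_assoc]
              _ = _ := by rw [haE]
          rw [this]
        rw [e5]
        refine hcut _ ?_
        have := h4.mul_mul (a := cj ρ g a) (b := 1) hcx hcxi (by simp) (by simp)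
        simpa using this
  rw [hsplit, mul_add, add_mul]
  have hsum : ∑ q ∈ X, (E * cj ρ q.out a * E - if q = ((1 : G) : G ⧸ T) then a else 0) =
      E * (∑ q ∈ X, cj ρ q.out a) * E - a := by
    rw [Finset.sum_sub_distrib, Finset.sum_ite_eq' X, if_pos h1T, Finset.mul_sum, Finset.sum_mul]
  have h5 := IsTrX.sum X _ hfixed
  rw [hsum] at h5
  have h6 := h5.add (hcut _ hfreepart)
  have e : E * (∑ q ∈ X, cj ρ q.out a) * E - a + E * (∑ y : Y, cj ρ y.1.out a) * E =
      E * (∑ q ∈ X, cj ρ q.out a) * E + E * (∑ y : Y, cj ρ y.1.out a) * E - a := by abel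
  rwa [e] at h6

/-- **The dichotomy.** -/
theorem green_dichotomy [FiniteDimensional K W] (hx : orderOf x = p) (hpp : p.Prime) (hxT : x ∈ T)
    (hFit : ∀ S : End K W, (∀ g, S * ρ g = ρ g * S) → IsNilpotent S ∨ Function.Bijective S)
    (hEE : E * E = E) (hET : ∀ t ∈ T, E * ρ t = ρ t * E)
    (hES : ∀ S : End K W, (∀ g, S * ρ g = ρ g * S) → S * E = E * S)
    (h1 : ∀ g, g ∉ T → (∀ u ∈ Subgroup.zpowers x, g⁻¹ * u * g ∈ Subgroup.zpowers x) →
      E * cj ρ g E = 0)
    (h2 : ∀ g, (∀ u ∈ Subgroup.zpowers x, g⁻¹ * u * g ∈ T) →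
      (¬ ∀ u ∈ Subgroup.zpowers x, g⁻¹ * u * g ∈ Subgroup.zpowers x) → IsTrX (ρ x) (ρ x⁻¹) p (cj ρ g E))
    {π : End K W} (hππ : π * π = π) (hEπ : E * π = π) (hπE : π * E = π) (hπT : ∀ t ∈ T, π * ρ t = ρ t * π) :
    IsTrX (ρ x) (ρ x⁻¹) p π ∨ IsTrX (ρ x) (ρ x⁻¹) p (E - π) := by
  classical
  letI : Fintype (G ⧸ T) := Fintype.ofFinite _
  have hρ1 : ∀ g : G, ρ g * ρ g⁻¹ = 1 := fun g => by rw [← map_mul, mul_inv_cancel, map_one]
  have hρ2 : ∀ g : G, ρ g⁻¹ * ρ g = 1 := fun g => by rw [← map_mul, inv_mul_cancel, map_one]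
  set π' := E - π with hπ'
  have hπ'π' : π' * π' = π' := by
    simp only [π', sub_mul, mul_sub, hEE, hEπ, hπE, hππ]
    abel
  have hEπ' : E * π' = π' := by simp only [π', mul_sub, hEE, hEπ]
  have hπ'E : π' * E = π' := by simp only [π', sub_mul, hEE, hπE]
  have hπ'T : ∀ t ∈ T, π' * ρ t = ρ t * π' := by
    intro t ht
    simp only [π', sub_mul, mul_sub, hET t ht, hπT t ht]
  have hππ' : π * π' = 0 := by simp only [π', mul_sub, hπE, hππ, sub_self]
  have hπ'π : π' * π = 0 := by simp only [π', sub_mul, hEπ, hππ, sub_self]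
  have hπx : π * ρ x = ρ x * π := hπT x hxT
  have hπxi : π * ρ x⁻¹ = ρ x⁻¹ * π := hπT _ (inv_mem hxT)
  have hπ'x : π' * ρ x = ρ x * π' := hπ'T x hxT
  have hπ'xi : π' * ρ x⁻¹ = ρ x⁻¹ * π' := hπ'T _ (inv_mem hxT)
  have hlem := fun a (h₁ : ∀ t ∈ T, a * ρ t = ρ t * a) (h₂ : E * a = a) (h₃ : a * E = a) =>
    isTrX_relTr_sub ρ hx hpp hxT hEE hET h1 h2 h₁ h₂ h₃
  -- an invertible relative trace gives the other alternative
  have hbij : ∀ {ϖ ϖ' : End K W}, (ϖ * ϖ' = 0) → (ϖ' * ϖ = 0) → ϖ + ϖ' = E → (ϖ' * ϖ' = ϖ') →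
      (ϖ' * ρ x = ρ x * ϖ') → (ϖ' * ρ x⁻¹ = ρ x⁻¹ * ϖ') → (∀ t ∈ T, ϖ * ρ t = ρ t * ϖ) → E * ϖ = ϖ → ϖ * E = ϖ →
      Function.Bijective (relTr ρ T ϖ) → IsTrX (ρ x) (ρ x⁻¹) p ϖ' := by
    intro ϖ ϖ' h01 h10 hsum hid h3 h4 hT hE1 hE2 hb
    set n := relTr ρ T ϖ with hn
    have hnG : ∀ g, n * ρ g = ρ g * n := relTr_comm ρ hT
    have hunit : IsUnit n := (Module.End.isUnit_iff n).2 hb
    obtain ⟨u, hu⟩ := hunit
    let v : End K W := (u⁻¹ : (End K W)ˣ)
    have hvn : v * n = 1 := by rw [← hu]; exact u.inv_mul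
    have hnv : n * v = 1 := by rw [← hu]; exact u.mul_inv
    have hvG : ∀ g, v * ρ g = ρ g * v := by
      intro g
      calc v * ρ g = v * ρ g * (n * v) := by rw [hnv, mul_one]
        _ = v * (ρ g * n) * v := by simp only [mul_assoc]
        _ = v * (n * ρ g) * v := by rw [hnG]
        _ = (v * n) * ρ g * v := by simp only [mul_assoc]
        _ = _ := by rw [hvn, one_mul]
    have hvE : v * E = E * v := hES v hvG
    have hrel : relTr ρ T (v * ϖ) = 1 := by
      rw [← hvn, hn]
      unfold relTr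
      rw [Finset.mul_sum]
      refine Finset.sum_congr rfl fun q _ => ?_
      unfold cj
      simp only [← mul_assoc]
      rw [← hvG]
    have h5 := hlem (v * ϖ) (fun t ht => by
      rw [mul_assoc, hT t ht, ← mul_assoc, hvG, mul_assoc]) (by rw [← mul_assoc, ← hvE, mul_assoc, hE1]) (by
      rw [mul_assoc, hE2])
    rw [hrel, mul_one, hEE] at h5
    have h6 := h5.mul_mul (a := ϖ') (b := ϖ') h3 h4 h3 h4
    have hE'ϖ : ϖ' * E = ϖ' := by rw [← hsum, mul_add, h10, hid, zero_add]
    have hEϖ' : E * ϖ' = ϖ' := by rw [← hsum, add_mul, h01, hid, zero_add]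
    have e : ϖ' * (E - v * ϖ) * ϖ' = ϖ' := by
      calc ϖ' * (E - v * ϖ) * ϖ' = (ϖ' * E * ϖ') - ϖ' * v * (ϖ * ϖ') := by
            simp only [mul_sub, sub_mul, mul_assoc]
        _ = ϖ' := by rw [h01, mul_zero, sub_zero, hE'ϖ, hid]
    rwa [e] at h6
  rcases hFit _ (relTr_comm ρ hπT) with hn | hb
  · rcases hFit _ (relTr_comm ρ hπ'T) with hn' | hb'
    · -- both are nilpotent
      left
      have hadd : relTr ρ T π + relTr ρ T π' = relTr ρ T E := by
        unfold relTr
        rw [← Finset.sum_add_distrib]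
        refine Finset.sum_congr rfl fun q _ => ?_
        unfold cj
        simp only [π']
        noncomm_ring
      set R := relTr ρ T π with hR
      set R' := relTr ρ T π' with hR'
      have hRG : ∀ g, R * ρ g = ρ g * R := relTr_comm ρ hπT
      have hR'G : ∀ g, R' * ρ g = ρ g * R' := relTr_comm ρ hπ'T
      set Sg := R + R' with hSg
      have hSgG : ∀ g, Sg * ρ g = ρ g * Sg := fun g => by
        rw [hSg, add_mul, mul_add, hRG, hR'G]
      have hinvc : ∀ {a v b : End K W}, v * a = 1 → a * v = 1 → a * b = b * a → v * b = b * v := by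
        intro a v b h3 h4 h5
        calc v * b = v * b * (a * v) := by rw [h4, mul_one]
          _ = v * (b * a) * v := by simp only [mul_assoc]
          _ = v * (a * b) * v := by rw [h5]
          _ = (v * a) * b * v := by simp only [mul_assoc]
          _ = _ := by rw [h3, one_mul]
      -- the sum is nilpotent
      have hnotu : ∀ (y : End K W), IsNilpotent y → Function.Bijective y → (Subsingleton W) := by
        intro y hy hb
        obtain ⟨n, hn⟩ := hy
        have h0 : Function.Bijective (y ^ n) := by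
          have := (Module.End.isUnit_iff y).2 hb
          exact (Module.End.isUnit_iff _).1 (this.pow n)
        rw [hn] at h0
        refine ⟨fun a b => h0.1 ?_⟩
        simp
      have hSgn : IsNilpotent Sg := by
        rcases hFit Sg hSgG with h | hb₀
        · exact h
        · -- `Sg` would be invertible: the local ring argument
          by_cases hsub : Subsingleton W
          · exact ⟨1, by
              ext z
              exact Subsingleton.elim _ _⟩
          have hunit : IsUnit Sg := (Module.End.isUnit_iff _).2 hb₀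
          obtain ⟨u, hu⟩ := id hunit
          let v : End K W := (u⁻¹ : (End K W)ˣ)
          have hvn : v * Sg = 1 := by rw [← hu]; exact u.inv_mul
          have hnv : Sg * v = 1 := by rw [← hu]; exact u.mul_inv
          have hvG : ∀ g, v * ρ g = ρ g * v := fun g => hinvc hvn hnv (hSgG g)
          have hvR : ∀ g, (v * R) * ρ g = ρ g * (v * R) := fun g => by
            rw [mul_assoc, hRG, ← mul_assoc, hvG, mul_assoc]
          have hvR' : ∀ g, (v * R') * ρ g = ρ g * (v * R') := fun g => by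
            rw [mul_assoc, hR'G, ← mul_assoc, hvG, mul_assoc]
          rcases hFit _ hvR with h3 | h3
          · -- `v R` nilpotent so `v R' = 1 - v R` is invertible
            have h4 : v * R' = 1 - v * R := by
              rw [eq_sub_iff_add_eq, add_comm, ← mul_add]
              exact hvn
            have h5 : IsUnit (v * R') := by
              rw [h4]
              exact h3.isUnit_one_sub
            have h7 : IsUnit R' := by
              have e : R' = Sg * (v * R') := by rw [← mul_assoc, hnv, one_mul]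
              rw [e]
              exact hunit.mul h5
            exact absurd (hnotu R' hn' ((Module.End.isUnit_iff _).1 h7)) hsub
          · have h7 : IsUnit (v * R) := (Module.End.isUnit_iff _).2 h3
            have h9 : IsUnit R := by
              have e : R = Sg * (v * R) := by rw [← mul_assoc, hnv, one_mul]
              rw [e]
              exact hunit.mul h7
            exact absurd (hnotu R hn ((Module.End.isUnit_iff _).1 h9)) hsub
      have h3 := (hlem π hπT hEπ hπE).add (hlem π' hπ'T hEπ' hπ'E)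
      have e3 : E * R * E - π + (E * R' * E - π') = Sg * E - E := by
        have e4 : Sg * E = E * Sg * E := by
          rw [mul_assoc, hES Sg hSgG, ← mul_assoc, hEE]
        rw [e4, hSg]
        simp only [mul_add, add_mul, π']
        abel
      rw [e3] at h3
      -- invert `1 - Sg`
      obtain ⟨u, hu⟩ := id hSgn.isUnit_one_sub
      let V : End K W := (u⁻¹ : (End K W)ˣ)
      have hV1 : V * (1 - Sg) = 1 := by rw [← hu]; exact u.inv_mul
      have hV2 : (1 - Sg) * V = 1 := by rw [← hu]; exact u.mul_inv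
      have hSgx : ∀ g, (1 - Sg) * ρ g = ρ g * (1 - Sg) := fun g => by
        rw [sub_mul, mul_sub, hSgG, one_mul, mul_one]
      have hVx : ∀ g, V * ρ g = ρ g * V := fun g => hinvc hV1 hV2 (hSgx g)
      have h4 := h3.mul_mul (a := V) (b := 1) (hVx _) (hVx _) (by simp) (by simp)
      have e5 : V * (Sg * E - E) * 1 = - E := by
        calc V * (Sg * E - E) * 1 = - ((V * (1 - Sg)) * E) := by
              rw [mul_one, mul_assoc, sub_mul, one_mul, mul_sub, mul_sub, neg_sub]
          _ = - E := by rw [hV1, one_mul]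
      rw [e5] at h4
      have h5 := h4.neg
      rw [neg_neg] at h5
      have h6 := h5.mul_mul (a := π) (b := π) hπx hπxi hπx hπxi
      rwa [hπE, hππ] at h6
    · -- `relTr π'` is bijective
      left
      have := hbij (ϖ := π') (ϖ' := π) hπ'π hππ' (by simp [π']) hππ hπx hπxi hπ'T hEπ' hπ'E hb'
      exact this
  · right
    exact hbij (ϖ := π) (ϖ' := π') hππ' hπ'π (by simp [π']) hπ'π' hπ'x hπ'xi hπT hEπ hπE hb

end Green

end Cfsg.Agent.Lib.Dade
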