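import Mathlib
import Cfsg.Agent.Lib.Dade.GC
import Cfsg.Agent.Lib.Dade.Green
import Cfsg.Agent.Lib.DefectOne.ThmA

/-!
# Integral forms and the block factor
-/

set_option autoImplicit false
set_option linter.unusedSectionVars false
set_option linter.style.haveILetI false

namespace Cfsg.Agent.Lib.Dade

open Module Matrix Cfsg Cfsg.Agent.Lib.Blocks.Local Cfsg.Agent.Lib.Blocks.Central Cfsg.Agent.Lib.Blocks.Osima
open Cfsg.Agent.Lib.Blocks.ModBlock Cfsg.Agent.Lib.DefectOne

section Val

variable {M : Ideal AlgInt} [hM : M.IsPrime]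

/-- A valuation subring of `ℂ` dominating the local ring at `M`. -/
theorem exists_val_M (hmax : M.IsMaximal) :
    ∃ O : ValuationSubring ℂ, (∀ z : ℂ, IsIntegral ℤ z → z ∈ O) ∧ (∀ z, MemLocalRing M z → z ∈ O) ∧
      (∀ z, MemLocalIdeal M z → z ∈ O.nonunits) := by
  obtain ⟨O, hO, hIO⟩ := Ideal.image_subset_nonunits_valuationSubring (A := AlgInt.toSubring) M hM.ne_top
  have hint : ∀ z : AlgInt, (z : ℂ) ∈ O := fun z => hO z.2
  have hnon : ∀ z : AlgInt, z ∈ M → (z : ℂ) ∈ O.nonunits := fun z hz => hIO ⟨z, hz, rfl⟩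
  have hval : ∀ b : AlgInt, b ∉ M → O.valuation (b : ℂ) = 1 := by
    intro b hb
    obtain ⟨c, m, hm, hcb⟩ := hmax.exists_inv hb
    have h1 : O.valuation (b : ℂ) ≤ 1 := (O.valuation_le_one_iff _).2 (hint b)
    by_contra hne
    have h2 : O.valuation (b : ℂ) < 1 := lt_of_le_of_ne h1 hne
    have h3 : O.valuation (c : ℂ) ≤ 1 := (O.valuation_le_one_iff _).2 (hint c)
    have h4 : O.valuation (m : ℂ) < 1 := (ValuationSubring.mem_nonunits_iff _).1 (hnon m hm)
    have h5 : O.valuation ((c : ℂ) * (b : ℂ)) < 1 := by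
      rw [map_mul]
      exact lt_of_le_of_lt (mul_le_of_le_one_left' h3) h2
    have h6 : ((c : ℂ) * (b : ℂ) + (m : ℂ)) = 1 := by
      have := congrArg (Subtype.val) hcb
      simpa using this
    have h7 := (O.valuation).map_add_lt h5 h4
    rw [h6, map_one] at h7
    exact lt_irrefl _ h7
  refine ⟨O, fun z hz => hO hz, ?_, ?_⟩
  · rintro _ ⟨a, b, hb, rfl⟩
    rw [← O.valuation_le_one_iff, map_div₀, hval b hb, div_one]
    exact (O.valuation_le_one_iff _).2 (hint a)
  · rintro _ ⟨a, b, ha, hb, rfl⟩
    rw [ValuationSubring.mem_nonunits_iff, map_div₀, hval b hb, div_one]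
    exact (ValuationSubring.mem_nonunits_iff _).1 (hnon a ha)

end Val

section Closed

variable (O : ValuationSubring ℂ)

/-- The residue field of a valuation subring of `ℂ` is algebraically closed. -/
theorem isAlgClosed_residue_val : IsAlgClosed (IsLocalRing.ResidueField O) := by
  refine IsAlgClosed.of_exists_root _ ?_
  intro p hp hirr
  have hsurj : Function.Surjective (IsLocalRing.residue O) := IsLocalRing.residue_surjective
  have h1 : p ∈ Polynomial.lifts (IsLocalRing.residue O) := by
    rw [Polynomial.lifts_iff_coeff_lifts]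
    intro n
    exact hsurj _
  obtain ⟨F, hF, hdeg, hFm⟩ := Polynomial.lifts_and_natDegree_eq_and_monic h1 hp
  have hdeg' : (F.map O.subtype).degree ≠ 0 := by
    rw [Polynomial.degree_map_eq_of_injective (Subtype.val_injective), Polynomial.degree_eq_natDegree hFm.ne_zero, hdeg]
    have := hirr.natDegree_pos
    intro h
    have h2 : p.natDegree = 0 := by exact_mod_cast h
    omega
  obtain ⟨x, hx⟩ := IsAlgClosed.exists_root _ hdeg'
  have hint : IsIntegral O x := ⟨F, hFm, by
    show Polynomial.eval₂ O.subtype x F = 0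
    rw [← Polynomial.eval_map]
    exact hx⟩
  obtain ⟨y, hy⟩ := IsIntegrallyClosed.isIntegral_iff.1 hint
  refine ⟨IsLocalRing.residue O y, ?_⟩
  have h3 : F.eval y = 0 := by
    apply Subtype.val_injective
    have h9 : (F.map O.subtype).eval (O.subtype y) = O.subtype (F.eval y) := Polynomial.eval_map_apply _ _
    have h10 : O.subtype y = x := hy
    rw [h10, hx] at h9
    exact h9.symm
  rw [← hF, Polynomial.eval_map_apply, h3, map_zero]

end Closed

section Maps

variable {M : Ideal AlgInt} [hM : M.IsPrime] (O : ValuationSubring ℂ)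

local notation "kk" => (localRing M ⧸ localIdeal M)
local notation "κ" => (IsLocalRing.ResidueField O)

/-- The inclusion of the local ring. -/
def locToO (hRO : ∀ z, MemLocalRing M z → z ∈ O) : localRing M →+* O where
  toFun z := ⟨z.1, hRO z.1 z.2⟩
  map_one' := rfl
  map_mul' _ _ := rfl
  map_zero' := rfl
  map_add' _ _ := rfl

/-- The map of residue fields. -/
noncomputable def jRes (hRO : ∀ z, MemLocalRing M z → z ∈ O) (hIO : ∀ z, MemLocalIdeal M z → z ∈ O.nonunits) :
    kk →+* κ :=
  Ideal.Quotient.lift (localIdeal M) ((IsLocalRing.residue O).comp (locToO O hRO)) (fun z hz => by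
    rw [RingHom.comp_apply, IsLocalRing.residue_eq_zero_iff, ValuationSubring.valuation_lt_one_iff]
    exact (ValuationSubring.mem_nonunits_iff _).1 (hIO _ hz))

lemma jRes_residue (hRO : ∀ z, MemLocalRing M z → z ∈ O) (hIO : ∀ z, MemLocalIdeal M z → z ∈ O.nonunits)
    (z : localRing M) : jRes O hRO hIO (residue M z) = IsLocalRing.residue O (locToO O hRO z) :=
  Ideal.Quotient.lift_mk _ _ _

variable {G : Type*} [Group G] [Fintype G] {N : ℕ} (A : G →* Matrix (Fin N) (Fin N) O) (C : Subgroup G) [Fintype C]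
  (hRO : ∀ z, MemLocalRing M z → z ∈ O) (hIO : ∀ z, MemLocalIdeal M z → z ∈ O.nonunits)

/-- The action of the group algebra modulo `M` on the reduction. -/
noncomputable def Lam : MonoidAlgebra kk C →+* End κ (Fin N → κ) :=
  MonoidAlgebra.liftNCRingHom ((algebraMap κ (End κ (Fin N → κ))).comp (jRes O hRO hIO))
    ((rhoK O A).comp C.subtype) (fun x _ => show Commute _ _ from Algebra.commutes (jRes O hRO hIO x) _)

/-- The action of the group algebra over the local ring on the lattice. -/
noncomputable def ThO : MonoidAlgebra (localRing M) C →+* Matrix (Fin N) (Fin N) O :=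
  MonoidAlgebra.liftNCRingHom ((algebraMap O (Matrix (Fin N) (Fin N) O)).comp (locToO O hRO))
    (A.comp C.subtype) (fun x _ => show Commute _ _ from Algebra.commutes (locToO O hRO x) _)

/-- The action of the complex group algebra. -/
noncomputable def ThC (R : G →* Matrix (Fin N) (Fin N) ℂ) : MonoidAlgebra ℂ C →+* Matrix (Fin N) (Fin N) ℂ :=
  MonoidAlgebra.liftNCRingHom (algebraMap ℂ (Matrix (Fin N) (Fin N) ℂ))
    (R.comp C.subtype) (fun x _ => show Commute _ _ from Algebra.commutes x _)

lemma Lam_single (h : C) (c : kk) :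
    Lam O A C hRO hIO (MonoidAlgebra.single h c) = jRes O hRO hIO c • rhoK O A h := by
  rw [Lam, MonoidAlgebra.liftNCRingHom_single, Algebra.smul_def]
  rfl

lemma Lam_of (h : C) : Lam O A C hRO hIO (MonoidAlgebra.of kk C h) = rhoK O A h := by
  have e : MonoidAlgebra.of kk C h = MonoidAlgebra.single h 1 := rfl
  rw [e, Lam_single, map_one, one_smul]

lemma ThO_single (h : C) (c : localRing M) :
    ThO O A C hRO (MonoidAlgebra.single h c) = locToO O hRO c • A h := by
  rw [ThO, MonoidAlgebra.liftNCRingHom_single, Algebra.smul_def]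
  rfl

lemma ThC_single (R : G →* Matrix (Fin N) (Fin N) ℂ) (h : C) (c : ℂ) :
    ThC C R (MonoidAlgebra.single h c) = c • R h := by
  rw [ThC, MonoidAlgebra.liftNCRingHom_single, Algebra.smul_def]
  rfl

lemma Lam_smul (c : kk) (y : MonoidAlgebra kk C) :
    Lam O A C hRO hIO (c • y) = jRes O hRO hIO c • Lam O A C hRO hIO y := by
  have e : c • y = MonoidAlgebra.single (1 : C) c * y := by
    apply MonoidAlgebra.ext
    apply Finsupp.ext
    intro g
    simp [MonoidAlgebra.coeff_single_one_mul]
  rw [e, map_mul]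
  have h1 : Lam O A C hRO hIO (MonoidAlgebra.single (1 : C) c) = jRes O hRO hIO c • 1 := by
    rw [Lam_single]
    simp
  rw [h1, smul_mul_assoc, one_mul]

lemma ThC_smul (R : G →* Matrix (Fin N) (Fin N) ℂ) (c : ℂ) (y : MonoidAlgebra ℂ C) :
    ThC C R (c • y) = c • ThC C R y := by
  have e : c • y = MonoidAlgebra.single (1 : C) c * y := by
    apply MonoidAlgebra.ext
    apply Finsupp.ext
    intro g
    simp [MonoidAlgebra.coeff_single_one_mul]
  rw [e, map_mul]
  have h1 : ThC C R (MonoidAlgebra.single (1 : C) c) = c • 1 := by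
    rw [ThC_single]
    simp
  rw [h1, smul_mul_assoc, one_mul]

lemma Lam_aeval (w : MonoidAlgebra kk C) (P : Polynomial kk) :
    Lam O A C hRO hIO (Polynomial.aeval w P) =
      Polynomial.aeval (Lam O A C hRO hIO w) (P.map (jRes O hRO hIO)) := by
  induction P using Polynomial.induction_on' with
  | add P Q hP hQ => simp only [map_add, Polynomial.map_add, hP, hQ]
  | monomial n c =>
    rw [Polynomial.aeval_monomial, Polynomial.map_monomial, Polynomial.aeval_monomial,
      Algebra.algebraMap_eq_smul_one, smul_mul_assoc, one_mul, Lam_smul, map_pow, Algebra.algebraMap_eq_smul_one,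
      smul_mul_assoc, one_mul]

lemma Lam_sum (y : MonoidAlgebra kk C) :
    Lam O A C hRO hIO y = ∑ h : C, jRes O hRO hIO (y.coeff h) • rhoK O A h := by
  conv_lhs => rw [eq_sum_single_smul _ y]
  rw [map_sum]
  refine Finset.sum_congr rfl fun h _ => ?_
  rw [Lam_smul, Lam_single, map_one, one_smul]

lemma ThC_sum (R : G →* Matrix (Fin N) (Fin N) ℂ) (y : MonoidAlgebra ℂ C) :
    ThC C R y = ∑ h : C, y.coeff h • R h := by
  conv_lhs => rw [eq_sum_single_smul _ y]
  rw [map_sum]
  refine Finset.sum_congr rfl fun h _ => ?_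
  rw [ThC_smul, ThC_single, one_smul]

/-- Reduction is compatible. -/
lemma redEnd_ThO (y : MonoidAlgebra (localRing M) C) :
    redEnd O (ThO O A C hRO y) = Lam O A C hRO hIO (piR C M y) := by
  have : (redEnd O).comp (ThO O A C hRO) = (Lam O A C hRO hIO).comp (piR C M) := by
    apply MonoidAlgebra.ringHom_ext
    · intro b
      simp only [RingHom.comp_apply]
      have e : piR C M (MonoidAlgebra.single 1 b) = MonoidAlgebra.single 1 (residue M b) := by
        apply MonoidAlgebra.ext
        apply Finsupp.ext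
        intro g
        classical
        rw [coeff_piR]
        simp only [MonoidAlgebra.coeff_single]
        rw [Finsupp.single_apply, Finsupp.single_apply]
        split_ifs <;> simp
      rw [ThO_single, e, Lam_single, redEnd_smul, redEnd_A, jRes_residue]
    · intro a
      simp only [RingHom.comp_apply]
      rw [ThO_single, map_one, one_smul, redEnd_A, piR_single, Lam_single, map_one, one_smul]
  exact RingHom.congr_fun this y

lemma ThO_smul (c : localRing M) (y : MonoidAlgebra (localRing M) C) :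
    ThO O A C hRO (c • y) = locToO O hRO c • ThO O A C hRO y := by
  have e : c • y = MonoidAlgebra.single (1 : C) c * y := by
    apply MonoidAlgebra.ext
    apply Finsupp.ext
    intro g
    simp [MonoidAlgebra.coeff_single_one_mul]
  rw [e, map_mul]
  have h1 : ThO O A C hRO (MonoidAlgebra.single (1 : C) c) = locToO O hRO c • 1 := by
    rw [ThO_single]
    simp
  rw [h1, smul_mul_assoc, one_mul]

/-- The integral form is compatible with the complex representation. -/
lemma map_ThO {R : G →* Matrix (Fin N) (Fin N) ℂ} {B : Matrix (Fin N) (Fin N) ℂ}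
    (hA : ∀ g, (A g).map (Subtype.val : O → ℂ) = B⁻¹ * R g * B) (y : MonoidAlgebra (localRing M) C) :
    (ThO O A C hRO y).map (Subtype.val : O → ℂ) = B⁻¹ * ThC C R (iota C M y) * B := by
  induction y using MonoidAlgebra.induction_on with
  | of h =>
    have e : MonoidAlgebra.of (localRing M) C h = MonoidAlgebra.single h 1 := rfl
    rw [e, ThO_single, iota_single, ThC_single, map_one, one_smul, one_smul, hA]
  | add x y hx hy =>
    rw [map_add, map_add, map_add, Matrix.map_add _ (fun _ _ => rfl), hx, hy, mul_add, add_mul]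
  | smul c x hx =>
    rw [ThO_smul, iota_smul, ThC_smul]
    have h1 : (locToO O hRO c • ThO O A C hRO x).map (Subtype.val : O → ℂ) =
        (c : ℂ) • (ThO O A C hRO x).map (Subtype.val : O → ℂ) := by
      ext a b
      simp [locToO]
    rw [h1, hx, Matrix.mul_smul, Matrix.smul_mul]

/-- An element commuting with the group commutes with the group algebra. -/
lemma comm_Lam {S : End κ (Fin N → κ)} (hS : ∀ h : C, S * rhoK O A h = rhoK O A h * S)
    (y : MonoidAlgebra kk C) : S * Lam O A C hRO hIO y = Lam O A C hRO hIO y * S := by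
  rw [Lam_sum, Finset.mul_sum, Finset.sum_mul]
  refine Finset.sum_congr rfl fun h _ => ?_
  rw [mul_smul_comm, smul_mul_assoc, hS]

/-- Rank can only drop under reduction. -/
lemma rank_Lam_le {R : G →* Matrix (Fin N) (Fin N) ℂ} {B : Matrix (Fin N) (Fin N) ℂ} (hdet : B.det ≠ 0)
    (hA : ∀ g, (A g).map (Subtype.val : O → ℂ) = B⁻¹ * R g * B) (y : MonoidAlgebra (localRing M) C) :
    finrank κ (LinearMap.range (Lam O A C hRO hIO (piR C M y))) ≤ (ThC C R (iota C M y)).rank := by
  rw [← redEnd_ThO, rank_redEnd]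
  refine (rank_red_le O _).trans ?_
  rw [map_ThO O A C hRO hA, rank_conj hdet]

end Maps

section ConjAut

variable {G : Type*} [Group G]

/-- Conjugation by an element normalizing a subgroup. -/
def cAut (C : Subgroup G) (g : G) (hg : g ∈ Subgroup.normalizer (C : Set G)) : MulAut C where
  toFun h := ⟨g * h * g⁻¹, (Subgroup.mem_normalizer_iff.1 hg h).1 h.2⟩
  invFun h := ⟨g⁻¹ * h * g, (Subgroup.mem_normalizer_iff.1 hg (g⁻¹ * h * g)).2 (by
    have : g * (g⁻¹ * (h : G) * g) * g⁻¹ = h := by group
    rw [this]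
    exact h.2)⟩
  left_inv h := by
    apply Subtype.ext
    show g⁻¹ * (g * h * g⁻¹) * g = h
    group
  right_inv h := by
    apply Subtype.ext
    show g * (g⁻¹ * h * g) * g⁻¹ = h
    group
  map_mul' a b := by
    apply Subtype.ext
    show g * (a * b) * g⁻¹ = (g * a * g⁻¹) * (g * b * g⁻¹)
    group

@[simp] lemma cAut_apply (C : Subgroup G) (g : G) (hg : g ∈ Subgroup.normalizer (C : Set G)) (h : C) :
    ((cAut C g hg h : C) : G) = g * h * g⁻¹ := rfl

@[simp] lemma cAut_symm_apply (C : Subgroup G) (g : G) (hg : g ∈ Subgroup.normalizer (C : Set G)) (h : C) :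
    (((cAut C g hg).symm h : C) : G) = g⁻¹ * h * g := rfl

end ConjAut

section Conj

variable {M : Ideal AlgInt} [hM : M.IsPrime] (O : ValuationSubring ℂ)

local notation "kk" => (localRing M ⧸ localIdeal M)
local notation "κ" => (IsLocalRing.ResidueField O)

variable {G : Type*} [Group G] [Fintype G] {N : ℕ} (A : G →* Matrix (Fin N) (Fin N) O) (C : Subgroup G) [Fintype C]
  (hRO : ∀ z, MemLocalRing M z → z ∈ O) (hIO : ∀ z, MemLocalIdeal M z → z ∈ O.nonunits)

lemma Lam_conj {g : G} (hg : g ∈ Subgroup.normalizer (C : Set G)) (y : MonoidAlgebra kk C) :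
    rhoK O A g * Lam O A C hRO hIO y * rhoK O A g⁻¹ = Lam O A C hRO hIO (dAut kk (cAut C g hg) y) := by
  induction y using MonoidAlgebra.induction_on with
  | of h =>
    have e : MonoidAlgebra.of kk C h = MonoidAlgebra.single h 1 := rfl
    rw [e, dAut_single, Lam_single, Lam_single, map_one, one_smul, one_smul, ← map_mul, ← map_mul]
    rfl
  | add x y hx hy =>
    rw [map_add, map_add, map_add, mul_add, add_mul, hx, hy]
  | smul c x hx =>
    rw [Lam_smul, map_smul, Lam_smul, mul_smul_comm, smul_mul_assoc, hx]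

/-- The Fitting property for endomorphisms. -/
lemma hFit_end (hFit : ∀ S : Matrix (Fin N) (Fin N) κ,
      (∀ g, S * redHom O A g = redHom O A g * S) → IsNilpotent S ∨ IsUnit S)
    (S : End κ (Fin N → κ)) (hS : ∀ g, S * rhoK O A g = rhoK O A g * S) :
    IsNilpotent S ∨ Function.Bijective S := by
  let Ψ : Matrix (Fin N) (Fin N) κ ≃ₐ[κ] _ := Matrix.toLinAlgEquiv'
  have h1 : ∀ g, Ψ.symm S * redHom O A g = redHom O A g * Ψ.symm S := by
    intro g
    apply Ψ.injective
    rw [map_mul, map_mul, AlgEquiv.apply_symm_apply]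
    exact hS g
  rcases hFit _ h1 with h2 | h2
  · left
    obtain ⟨m, hm⟩ := h2
    refine ⟨m, ?_⟩
    have := congrArg Ψ hm
    rwa [map_pow, map_zero, AlgEquiv.apply_symm_apply] at this
  · right
    have h3 : IsUnit S := by
      have := h2.map Ψ
      rwa [AlgEquiv.apply_symm_apply] at this
    exact (Module.End.isUnit_iff S).1 h3

end Conj

section Mult

open scoped ComplexConjugate

variable {G : Type*} [Group G] [Fintype G] {N : ℕ} (C : Subgroup G) [Fintype C]

/-- The multiplicity of a character of `C` in the restriction of a function on `G`. -/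
noncomputable def mult (χ : G → ℂ) (ψ : IrrCharacter C) : ℕ :=
  ⌊(classInner (fun c : C => χ c) (ψ : C → ℂ)).re⌋₊

lemma mult_spec {χ : G → ℂ} (hχ : IsCharacter G χ) (ψ : IrrCharacter C) :
    (mult C χ ψ : ℂ) = classInner (fun c : C => χ c) (ψ : C → ℂ) := by
  obtain ⟨m, hm⟩ := Cfsg.Agent.Lib.Char.Ortho.exists_nat_classInner_of_isCharacter
    (Cfsg.Agent.Lib.Char.Basic.isCharacter_restrict hχ C) (Cfsg.Agent.Lib.Char.Basic.isCharacter_of_isIrrCharacter ψ.2)
  unfold mult
  rw [hm]
  simp

open Classical in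
/-- The trace of a block idempotent on the restriction of a representation. -/
lemma rank_ThC_blockElt {R : G →* Matrix (Fin N) (Fin N) ℂ} {χ : G → ℂ} (hχ : IsCharacter G χ)
    (htr : ∀ g, (R g).trace = χ g) (S : Set (IrrCharacter C)) :
    (ThC C R (blockElt S)).rank = ∑ ψ ∈ Finset.univ.filter (· ∈ S), charDegree (ψ : C → ℂ) * mult C χ ψ := by
  have hidem : ThC C R (blockElt S) * ThC C R (blockElt S) = ThC C R (blockElt S) := by
    rw [← map_mul, blockElt_mul_self]
  have h1 := rank_eq_trace hidem
  have h2 : (ThC C R (blockElt S)).trace =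
      ∑ ψ ∈ Finset.univ.filter (· ∈ S), (charDegree (ψ : C → ℂ) : ℂ) * (mult C χ ψ : ℂ) := by
    rw [ThC_sum, Matrix.trace_sum]
    simp only [Matrix.trace_smul, smul_eq_mul, coeff_blockElt, blockCoeff_eq_sum, htr]
    have h3 : ∀ ψ : IrrCharacter C, (charDegree (ψ : C → ℂ) : ℂ) * (mult C χ ψ : ℂ) =
        ∑ c : C, (Nat.card C : ℂ)⁻¹ * ((ψ : C → ℂ) 1 * conj ((ψ : C → ℂ) c)) * χ c := by
      intro ψ
      rw [mult_spec C hχ ψ, Cfsg.Agent.Lib.Blocks.RegInt.charDegree_cast, classInner, Finset.mul_sum, Finset.mul_sum,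
        Nat.card_eq_fintype_card]
      refine Finset.sum_congr rfl fun c _ => ?_
      ring
    simp_rw [h3]
    rw [Finset.sum_comm]
    refine Finset.sum_congr rfl fun c _ => ?_
    rw [Finset.mul_sum, Finset.sum_mul]
  rw [h2] at h1
  exact_mod_cast h1

end Mult

end Cfsg.Agent.Lib.Dade
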