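import Mathlib
import Cfsg.Agent.Lib.Dade.DA

/-!
# Morita correspondence for a ring homomorphism
-/

set_option autoImplicit false
set_option linter.unusedSectionVars false
set_option linter.style.haveILetI false

namespace Cfsg.Agent.Lib.Dade

open Module

section Morita

variable {k A B : Type*} [Field k] [Ring A] [Algebra k A] [Ring B] {e ι w : A} {n : ℕ} {u v : Fin n → A} {q : ℕ}
  (S : BStr (k := k) e ι w u v q) (Λ : A →+* B) {π : B}

include S

/-- The element of the big algebra corresponding to an element of the corner. -/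
def hatπ (Λ : A →+* B) (u v : Fin n → A) (π : B) : B := ∑ i, Λ (u i) * π * Λ (v i)

variable (hπι : π * Λ ι = π) (hιπ : Λ ι * π = π)
  (hπP : ∀ P : Polynomial k, π * Λ (Polynomial.aeval w P) = Λ (Polynomial.aeval w P) * π)

include hπι hιπ hπP

lemma corner_comm (x : A) (hx : ι * x * ι = x) : Λ x * π = π * Λ x := by
  obtain ⟨P, hP⟩ := S.ipoly x hx
  have hc : Polynomial.aeval w P * ι = ι * Polynomial.aeval w P := aeval_central S.cw P ι
  calc Λ x * π = Λ (Polynomial.aeval w P) * (Λ ι * π) := by rw [hP, map_mul, mul_assoc]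
    _ = Λ (Polynomial.aeval w P) * π := by rw [hιπ]
    _ = π * Λ (Polynomial.aeval w P) := (hπP P).symm
    _ = π * Λ ι * Λ (Polynomial.aeval w P) := by rw [hπι]
    _ = π * Λ x := by rw [mul_assoc, ← map_mul, ← hc, ← hP]

omit hπι hιπ hπP in
lemma corner_mem (i j : Fin n) (r : A) : ι * (v i * r * u j) * ι = v i * r * u j := by
  calc ι * (v i * r * u j) * ι = (ι * v i) * r * (u j * ι) := by simp only [mul_assoc]
    _ = _ := by rw [S.ιv, S.uι]

omit hπι hιπ hπP in
lemma v_e (i : Fin n) : v i * e = v i := by rw [← S.ec, S.ev]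

omit hπι hιπ hπP in
lemma u_e (i : Fin n) : u i * e = u i := by rw [← S.ec, S.eu]

/-- The corresponding element commutes with the algebra. -/
lemma hat_comm (r : A) : hatπ Λ u v π * Λ r = Λ r * hatπ Λ u v π := by
  unfold hatπ
  have h1 : ∀ i, r * u i = ∑ j, u j * (v j * r * u i) := by
    intro i
    calc r * u i = e * (r * u i) := by rw [← mul_assoc, S.ec r, mul_assoc, S.eu]
      _ = ∑ j, (u j * v j) * (r * u i) := by rw [← S.sum, Finset.sum_mul]
      _ = _ := Finset.sum_congr rfl fun j _ => by simp only [mul_assoc]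
  have h2 : ∀ j, v j * r = ∑ i, (v j * r * u i) * v i := by
    intro j
    calc v j * r = v j * r * e := by rw [mul_assoc, ← S.ec, ← mul_assoc, v_e S]
      _ = _ := by
        rw [← S.sum, Finset.mul_sum]
        exact Finset.sum_congr rfl fun i _ => by simp only [mul_assoc]
  calc (∑ i, Λ (u i) * π * Λ (v i)) * Λ r = ∑ j, Λ (u j) * π * Λ (v j * r) := by
        rw [Finset.sum_mul]
        refine Finset.sum_congr rfl fun j _ => ?_
        rw [map_mul Λ (v j), mul_assoc]
    _ = ∑ j, ∑ i, Λ (u j) * π * (Λ (v j * r * u i) * Λ (v i)) := by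
        refine Finset.sum_congr rfl fun j _ => ?_
        have h3 : Λ (v j * r) = ∑ i, Λ (v j * r * u i) * Λ (v i) := by
          conv_lhs => rw [h2 j]
          rw [map_sum]
          exact Finset.sum_congr rfl fun i _ => map_mul _ _ _
        rw [h3, Finset.mul_sum]
    _ = ∑ i, ∑ j, Λ (u j) * (Λ (v j * r * u i) * π) * Λ (v i) := by
        rw [Finset.sum_comm]
        refine Finset.sum_congr rfl fun i _ => Finset.sum_congr rfl fun j _ => ?_
        rw [corner_comm S Λ hπι hιπ hπP _ (corner_mem S j i r)]
        simp only [mul_assoc]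
    _ = ∑ i, Λ (r * u i) * π * Λ (v i) := by
        refine Finset.sum_congr rfl fun i _ => ?_
        have h3 : Λ (r * u i) = ∑ j, Λ (u j) * Λ (v j * r * u i) := by
          conv_lhs => rw [h1 i]
          rw [map_sum]
          exact Finset.sum_congr rfl fun j _ => map_mul _ _ _
        rw [h3, Finset.sum_mul, Finset.sum_mul]
        refine Finset.sum_congr rfl fun j _ => ?_
        simp only [mul_assoc]
    _ = Λ r * ∑ i, Λ (u i) * π * Λ (v i) := by
        rw [Finset.mul_sum]
        refine Finset.sum_congr rfl fun i _ => ?_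
        rw [map_mul]
        simp only [mul_assoc]

/-- The corresponding element commutes with an automorphism. -/
lemma hat_comm_y {y yi : B} (hy : y * yi = 1) (hyi : yi * y = 1) (c : A →+* A) (hcι : c ι = ι) (hce : c e = e)
    (hyc : ∀ r, y * Λ r * yi = Λ (c r)) (hπy : π * y = y * π) :
    hatπ Λ u v π * y = y * hatπ Λ u v π := by
  have hπyi : yi * π = π * yi := by
    calc yi * π = yi * π * (y * yi) := by rw [hy, mul_one]
      _ = yi * (π * y) * yi := by simp only [mul_assoc]
      _ = yi * (y * π) * yi := by rw [hπy]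
      _ = π * yi := by rw [← mul_assoc yi, hyi, one_mul]
  have hmain : y * hatπ Λ u v π * yi = hatπ Λ u v π := by
    unfold hatπ
    have h1 : ∀ i, c (u i) = ∑ j, u j * (v j * c (u i)) := by
      intro i
      have h2 : c (u i) = e * c (u i) := by
        conv_lhs => rw [← S.eu i, map_mul, hce]
      calc c (u i) = e * c (u i) := h2
        _ = ∑ j, (u j * v j) * c (u i) := by rw [← S.sum, Finset.sum_mul]
        _ = _ := Finset.sum_congr rfl fun j _ => by simp only [mul_assoc]
    have h3 : ∀ j i, ι * (v j * c (u i)) * ι = v j * c (u i) := by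
      intro j i
      have h4 : c (u i) * ι = c (u i) := by
        conv_lhs => rw [← hcι, ← map_mul, S.uι]
      calc ι * (v j * c (u i)) * ι = (ι * v j) * (c (u i) * ι) := by simp only [mul_assoc]
        _ = _ := by rw [S.ιv, h4]
    have h5 : ∀ j, v j = ∑ i, v j * c (u i) * c (v i) := by
      intro j
      have h6 : ∑ i, c (u i) * c (v i) = e := by
        rw [← hce, ← S.sum, map_sum]
        exact Finset.sum_congr rfl fun i _ => (map_mul _ _ _).symm
      calc v j = v j * e := (v_e S j).symm
        _ = _ := by
          rw [← h6, Finset.mul_sum]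
          exact Finset.sum_congr rfl fun i _ => by simp only [mul_assoc]
    calc y * (∑ i, Λ (u i) * π * Λ (v i)) * yi = ∑ i, (y * Λ (u i) * yi) * π * (y * Λ (v i) * yi) := by
          rw [Finset.mul_sum, Finset.sum_mul]
          refine Finset.sum_congr rfl fun i _ => ?_
          calc y * (Λ (u i) * π * Λ (v i)) * yi = y * Λ (u i) * (π * (y * yi)) * Λ (v i) * yi := by
                rw [hy, mul_one]
                simp only [mul_assoc]
            _ = y * Λ (u i) * (π * y * yi) * Λ (v i) * yi := by simp only [mul_assoc]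
            _ = y * Λ (u i) * (y * π * yi) * Λ (v i) * yi := by rw [hπy]
            _ = y * Λ (u i) * (y * (π * yi)) * Λ (v i) * yi := by simp only [mul_assoc]
            _ = y * Λ (u i) * (y * (yi * π)) * Λ (v i) * yi := by rw [hπyi]
            _ = y * Λ (u i) * ((y * yi) * π) * Λ (v i) * yi := by simp only [mul_assoc]
            _ = y * Λ (u i) * π * Λ (v i) * yi := by rw [hy, one_mul]
            _ = y * Λ (u i) * (yi * y) * π * Λ (v i) * yi := by rw [hyi, mul_one]
            _ = (y * Λ (u i) * yi) * (y * π) * Λ (v i) * yi := by simp only [mul_assoc]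
            _ = (y * Λ (u i) * yi) * (π * y) * Λ (v i) * yi := by rw [hπy]
            _ = _ := by simp only [mul_assoc]
      _ = ∑ i, Λ (c (u i)) * π * Λ (c (v i)) := by
          refine Finset.sum_congr rfl fun i _ => ?_
          rw [hyc, hyc]
      _ = ∑ i, ∑ j, Λ (u j) * (Λ (v j * c (u i)) * π) * Λ (c (v i)) := by
          refine Finset.sum_congr rfl fun i _ => ?_
          have h7 : Λ (c (u i)) = ∑ j, Λ (u j) * Λ (v j * c (u i)) := by
            conv_lhs => rw [h1 i]
            rw [map_sum]
            exact Finset.sum_congr rfl fun j _ => map_mul _ _ _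
          rw [h7, Finset.sum_mul, Finset.sum_mul]
          refine Finset.sum_congr rfl fun j _ => ?_
          simp only [mul_assoc]
      _ = ∑ j, ∑ i, Λ (u j) * π * (Λ (v j * c (u i)) * Λ (c (v i))) := by
          rw [Finset.sum_comm]
          refine Finset.sum_congr rfl fun j _ => Finset.sum_congr rfl fun i _ => ?_
          rw [corner_comm S Λ hπι hιπ hπP _ (h3 j i)]
          simp only [mul_assoc]
      _ = ∑ j, Λ (u j) * π * Λ (v j) := by
          refine Finset.sum_congr rfl fun j _ => ?_
          rw [← Finset.mul_sum]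
          congr 1
          conv_rhs => rw [h5 j]
          rw [map_sum]
          exact Finset.sum_congr rfl fun i _ => (map_mul _ _ _).symm
  calc hatπ Λ u v π * y = y * hatπ Λ u v π * yi * y := by rw [hmain]
    _ = y * hatπ Λ u v π * (yi * y) := by rw [mul_assoc (y * hatπ Λ u v π)]
    _ = _ := by rw [hyi, mul_one]

lemma hat_idem (hππ : π * π = π) : hatπ Λ u v π * hatπ Λ u v π = hatπ Λ u v π := by
  unfold hatπ
  rw [Finset.sum_mul]
  refine Finset.sum_congr rfl fun i _ => ?_
  rw [Finset.mul_sum]
  have h1 : ∀ j ∈ Finset.univ, Λ (u i) * π * Λ (v i) * (Λ (u j) * π * Λ (v j)) =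
      if i = j then Λ (u i) * π * Λ (v i) else 0 := by
    intro j _
    calc Λ (u i) * π * Λ (v i) * (Λ (u j) * π * Λ (v j)) = Λ (u i) * π * Λ (v i * u j) * π * Λ (v j) := by
          rw [map_mul]
          simp only [mul_assoc]
      _ = _ := by
        rw [S.vu]
        split_ifs with h
        · subst h
          calc Λ (u i) * π * Λ ι * π * Λ (v i) = Λ (u i) * (π * Λ ι) * π * Λ (v i) := by simp only [mul_assoc]
            _ = _ := by rw [hπι, mul_assoc (Λ (u i)), hππ]
        · simp
  rw [Finset.sum_congr rfl h1]
  simp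

lemma e_hat : Λ e * hatπ Λ u v π = hatπ Λ u v π := by
  unfold hatπ
  rw [Finset.mul_sum]
  refine Finset.sum_congr rfl fun i _ => ?_
  rw [← mul_assoc, ← mul_assoc, ← map_mul, S.eu]

lemma hat_e : hatπ Λ u v π * Λ e = hatπ Λ u v π := by
  unfold hatπ
  rw [Finset.sum_mul]
  refine Finset.sum_congr rfl fun i _ => ?_
  rw [mul_assoc, ← map_mul, v_e S]

lemma v_hat_u (i : Fin n) : Λ (v i) * hatπ Λ u v π * Λ (u i) = π := by
  unfold hatπ
  rw [Finset.mul_sum, Finset.sum_mul]
  have h1 : ∀ j ∈ Finset.univ, Λ (v i) * (Λ (u j) * π * Λ (v j)) * Λ (u i) = if i = j then π else 0 := by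
    intro j _
    calc Λ (v i) * (Λ (u j) * π * Λ (v j)) * Λ (u i) = Λ (v i * u j) * π * Λ (v j * u i) := by
          rw [map_mul, map_mul]
          simp only [mul_assoc]
      _ = _ := by
        rw [S.vu, S.vu]
        split_ifs with h h' h'
        · rw [hιπ, hπι]
        · exact absurd h.symm h'
        · exact absurd h'.symm h
        · simp
  rw [Finset.sum_congr rfl h1]
  simp

end Morita

section Rank

variable {k K W A : Type*} [Field k] [Field K] [AddCommGroup W] [Module K W] [Ring A] [Algebra k A]
  {e ι w : A} {n : ℕ} {u v : Fin n → A} {q : ℕ}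
  (S : BStr (k := k) e ι w u v q) (Λ : A →+* End K W)

lemma rk_mul_le [FiniteDimensional K W] (a X b : End K W) :
    finrank K (LinearMap.range (a * X * b)) ≤ finrank K (LinearMap.range X) := by
  have h1 : LinearMap.range (a * X * b) ≤ (LinearMap.range X).map a := by
    rintro _ ⟨z, rfl⟩
    exact ⟨X (b z), ⟨b z, rfl⟩, rfl⟩
  exact (Submodule.finrank_mono h1).trans (Submodule.finrank_map_le _ _)

include S

open Classical in
/-- The rank on the big algebra is `n` times the rank on the corner. -/
lemma rank_e_eq [FiniteDimensional K W] [IsAlgClosed K] (d : ℕ) :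
    finrank K (LinearMap.range (Λ w ^ d * Λ e)) = n * finrank K (LinearMap.range (Λ w ^ d * Λ ι)) := by
  set T := Λ w ^ d with hT
  have hTc : ∀ r, T * Λ r = Λ r * T := by
    intro r
    have : Commute (Λ w) (Λ r) := by
      show Λ w * Λ r = Λ r * Λ w
      rw [← map_mul, ← map_mul, S.cw]
    exact (this.pow_left d).eq
  let F : Fin n → End K W := fun i => Λ (u i * v i)
  have hFF : ∀ i j, F i * F j = if i = j then F i else 0 := by
    intro i j
    simp only [F]
    rw [← map_mul]
    calc Λ (u i * v i * (u j * v j)) = Λ (u i * (v i * u j) * v j) := by simp only [mul_assoc]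
      _ = _ := by
        rw [S.vu]
        split_ifs with h
        · subst h
          rw [S.uι]
        · simp
  have hrk : ∀ i, finrank K (LinearMap.range (T * F i)) = finrank K (LinearMap.range (T * Λ ι)) := by
    intro i
    apply le_antisymm
    · have h1 : T * F i = Λ (u i) * (T * Λ ι) * Λ (v i) := by
        simp only [F]
        calc T * Λ (u i * v i) = T * (Λ (u i * ι) * Λ (v i)) := by rw [S.uι, map_mul]
          _ = (T * Λ (u i)) * Λ ι * Λ (v i) := by rw [map_mul]; simp only [mul_assoc]
          _ = (Λ (u i) * T) * Λ ι * Λ (v i) := by rw [hTc]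
          _ = _ := by simp only [mul_assoc]
      rw [h1]
      exact rk_mul_le _ _ _
    · have h1 : T * Λ ι = Λ (v i) * (T * F i) * Λ (u i) := by
        simp only [F]
        calc T * Λ ι = T * Λ (ι * ι) := by rw [S.ιι]
          _ = T * Λ ((v i * u i) * (v i * u i)) := by rw [S.vu, if_pos rfl]
          _ = T * Λ (v i) * Λ (u i * v i) * Λ (u i) := by
            rw [show (v i * u i) * (v i * u i) = v i * (u i * v i) * u i by simp only [mul_assoc], map_mul, map_mul]
            simp only [mul_assoc]
          _ = Λ (v i) * T * Λ (u i * v i) * Λ (u i) := by rw [hTc]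
          _ = _ := by simp only [mul_assoc]
      rw [h1]
      exact rk_mul_le _ _ _
  have hsum : ∀ s : Finset (Fin n), finrank K (LinearMap.range (T * ∑ i ∈ s, F i)) =
      s.card * finrank K (LinearMap.range (T * Λ ι)) := by
    intro s
    induction s using Finset.induction_on with
    | empty =>
      rw [Finset.sum_empty, mul_zero, LinearMap.range_zero, finrank_bot]
      simp
    | insert i s hi ih =>
      have hi1 : F i * F i = F i := by rw [hFF, if_pos rfl]
      have hi2 : F i * ∑ j ∈ s, F j = 0 := by
        rw [Finset.mul_sum]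
        refine Finset.sum_eq_zero fun j hj => ?_
        rw [hFF, if_neg]
        rintro rfl
        exact hi hj
      have hi3 : (∑ j ∈ s, F j) * F i = 0 := by
        rw [Finset.sum_mul]
        refine Finset.sum_eq_zero fun j hj => ?_
        rw [hFF, if_neg]
        rintro rfl
        exact hi hj
      have hi4 : (∑ j ∈ s, F j) * (∑ j ∈ s, F j) = ∑ j ∈ s, F j := by
        rw [Finset.sum_mul]
        refine Finset.sum_congr rfl fun j hj => ?_
        rw [Finset.mul_sum, Finset.sum_eq_single j]
        · rw [hFF, if_pos rfl]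
        · intro b _ hb
          rw [hFF, if_neg (Ne.symm hb)]
        · intro h
          exact absurd hj h
      have hFT : F i * T = T * F i := (hTc _).symm
      rw [Finset.sum_insert hi, finrank_range_add hi1 hi2 hFT hi4 hi3, ih, hrk, Finset.card_insert_of_notMem hi]
      ring
  have h2 : Λ e = ∑ i, F i := by
    rw [← S.sum, map_sum]
  rw [h2, hsum]
  simp

end Rank

end Cfsg.Agent.Lib.Dade
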