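import Mathlib
import Cfsg.Agent.Lib.Dade.DB

/-!
# The local data, and the hypotheses of the Green correspondence
-/

set_option autoImplicit false
set_option linter.unusedSectionVars false
set_option linter.style.haveILetI false

namespace Cfsg.Agent.Lib.Dade

open Module Matrix Cfsg Cfsg.Agent.Lib.Blocks.Local Cfsg.Agent.Lib.Blocks.Central Cfsg.Agent.Lib.Blocks.Osima
open Cfsg.Agent.Lib.Blocks.ModBlock Cfsg.Agent.Lib.DefectOne

universe u

section LocDef

variable {G : Type u} [Group G] [Fintype G] {M : Ideal AlgInt} [hM : M.IsPrime]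

/-- The local data. -/
structure Loc (p : ℕ) (x t : G) (C T₁ : Subgroup G) [Fintype C] (f : Set (IrrCharacter C))
    (B : Set (IrrCharacter G)) (a : MonoidAlgebra (localRing M) C) (e m q : ℕ) : Prop where
  hMp : IsPModular p M
  ox : orderOf x = p
  hC : ∀ g, g ∈ C ↔ g * x = x * g
  ha : iota C M a = blockElt f
  hind : IsInducedBlock M C f B
  hCT : C ≤ T₁
  htT : t ∈ T₁
  hTt : ∀ g ∈ T₁, ∃ i : ℕ, ∃ c ∈ C, g = t ^ i * c
  hte : ∀ i : ℕ, t ^ i ∈ C ↔ e ∣ i
  htm : t ^ m = 1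
  hpm : ¬ p ∣ m
  he : 0 < e
  hep : e < p
  hstab : ∀ g ∈ T₁, ∃ φ : MulAut C, (∀ h : C, (φ h : G) = g * h * g⁻¹) ∧ dAut (localRing M) φ a = a
  h1 : ∀ g, ∀ φ : MulAut C, (∀ h : C, (φ h : G) = g * h * g⁻¹) → g⁻¹ * x * g ∈ Subgroup.zpowers x → g ∉ T₁ →
    a * dAut (localRing M) φ a = 0
  h2 : ∀ g, g⁻¹ * x * g ∈ C → g⁻¹ * x * g ∉ Subgroup.zpowers x → ∀ z : C,
    (z : G) * (g⁻¹ * x * g) = (g⁻¹ * x * g) * z → a.coeff z ∈ localIdeal M
  h2' : ∀ g, g⁻¹ * x * g ∈ T₁ → g⁻¹ * x * g ∈ C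

open Classical in
/-- The structure of the block factor, together with lifts. -/
structure Pk {p : ℕ} {x t : G} {C : Subgroup G} [Fintype C] {f : Set (IrrCharacter C)}
    (a : MonoidAlgebra (localRing M) C) (e q : ℕ) (φ : MulAut C) (hxC : x ∈ C)
    (ι w : MonoidAlgebra (localRing M ⧸ localIdeal M) C) {n : ℕ}
    (u v : Fin n → MonoidAlgebra (localRing M ⧸ localIdeal M) C) (τ : localRing M ⧸ localIdeal M) (s : ℕ)
    (P : Polynomial (localRing M ⧸ localIdeal M)) (w' : MonoidAlgebra (localRing M) C) (τ' : localRing M) : Prop where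
  hφ : ∀ h : C, (φ h : G) = t * h * t⁻¹
  hn : 0 < n
  S : BStr (k := localRing M ⧸ localIdeal M) (piR C M a) ι w u v q
  hcι : dAut _ φ ι = ι
  hcw : dAut _ φ w = τ • w
  hτ : ∀ i : ℕ, τ ^ i = 1 ↔ e ∣ i
  hs : s = 1 ∨ p ≤ s
  hsp : s * p = q
  hrel : (MonoidAlgebra.of (localRing M ⧸ localIdeal M) C ⟨x, hxC⟩ - 1) * piR C M a =
    w ^ s * Polynomial.aeval w P * piR C M a
  hτ'e : τ' ^ e = 1
  hτ'r : residue M τ' = τ
  hw'p : piR C M w' = w
  hw'a : a * w' = w'
  hw'c : IsClassFunction C (iota C M w').coeff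
  hw'φ : dAut (localRing M) φ w' = τ' • w'
  hdeg : ∀ ψ ∈ f, charDegree (ψ : C → ℂ) = n
  hcard : (Finset.univ.filter (· ∈ f)).card = q

end LocDef

section Conj

variable {M : Ideal AlgInt} [hM : M.IsPrime] (O : ValuationSubring ℂ)

local notation "kk" => (localRing M ⧸ localIdeal M)
local notation "κ" => (IsLocalRing.ResidueField O)

variable {G : Type*} [Group G] [Fintype G] {N : ℕ} (A : G →* Matrix (Fin N) (Fin N) O) (C : Subgroup G) [Fintype C]
  (hRO : ∀ z, MemLocalRing M z → z ∈ O) (hIO : ∀ z, MemLocalIdeal M z → z ∈ O.nonunits)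

/-- Conjugation on the group algebra, for an automorphism induced by conjugation. -/
lemma Lam_conj' {g : G} {φ : MulAut C} (hφ : ∀ h : C, (φ h : G) = g * h * g⁻¹) (y : MonoidAlgebra kk C) :
    rhoK O A g * Lam O A C hRO hIO y * rhoK O A g⁻¹ = Lam O A C hRO hIO (dAut kk φ y) := by
  induction y using MonoidAlgebra.induction_on with
  | of h =>
    have e : MonoidAlgebra.of kk C h = MonoidAlgebra.single h 1 := rfl
    rw [e, dAut_single, Lam_single, Lam_single, map_one, one_smul, one_smul, ← map_mul, ← map_mul, hφ]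
  | add x y hx hy =>
    rw [map_add, map_add, map_add, mul_add, add_mul, hx, hy]
  | smul c x hx =>
    rw [Lam_smul, map_smul, Lam_smul, mul_smul_comm, smul_mul_assoc, hx]

lemma rho_mul_inv (g : G) : rhoK O A g * rhoK O A g⁻¹ = 1 := by
  rw [← map_mul, mul_inv_cancel, map_one]

lemma rho_inv_mul (g : G) : rhoK O A g⁻¹ * rhoK O A g = 1 := by
  rw [← map_mul, inv_mul_cancel, map_one]

/-- An element fixed by the automorphism commutes with the image of `g`. -/
lemma comm_of_fixed {g : G} {φ : MulAut C} (hφ : ∀ h : C, (φ h : G) = g * h * g⁻¹) {y : MonoidAlgebra kk C}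
    (hy : dAut kk φ y = y) : Lam O A C hRO hIO y * rhoK O A g = rhoK O A g * Lam O A C hRO hIO y := by
  have h1 := Lam_conj' O A C hRO hIO hφ y
  rw [hy] at h1
  calc Lam O A C hRO hIO y * rhoK O A g
      = rhoK O A g * Lam O A C hRO hIO y * rhoK O A g⁻¹ * rhoK O A g := by rw [h1]
    _ = rhoK O A g * Lam O A C hRO hIO y * (rhoK O A g⁻¹ * rhoK O A g) := by rw [mul_assoc]
    _ = _ := by rw [rho_inv_mul, mul_one]

/-- A polynomial commutes. -/
lemma comm_aeval' {K W : Type*} [Field K] [AddCommGroup W] [Module K W] {π y : End K W} (h : π * y = y * π)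
    (Q : Polynomial K) : π * Polynomial.aeval y Q = Polynomial.aeval y Q * π := by
  induction Q using Polynomial.induction_on' with
  | add P Q hP hQ => rw [map_add, mul_add, add_mul, hP, hQ]
  | monomial n c =>
    rw [Polynomial.aeval_monomial, Algebra.algebraMap_eq_smul_one, smul_mul_assoc, one_mul, mul_smul_comm,
      smul_mul_assoc]
    congr 1
    exact (Commute.pow_right (show Commute π y from h) n).eq

/-- Central elements of the group commute with the image of the group algebra. -/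
lemma rho_central {x : G} (hx : x ∈ C) (hc : ∀ c : C, (c : G) * x = x * c) (y : MonoidAlgebra kk C) :
    rhoK O A x * Lam O A C hRO hIO y = Lam O A C hRO hIO y * rhoK O A x := by
  apply comm_Lam
  intro h
  rw [← map_mul, ← map_mul, hc]

end Conj

section Green

variable {M : Ideal AlgInt} [hM : M.IsPrime] (O : ValuationSubring ℂ)

local notation "kk" => (localRing M ⧸ localIdeal M)
local notation "κ" => (IsLocalRing.ResidueField O)

variable {G : Type*} [Group G] [Fintype G] {N : ℕ} (A : G →* Matrix (Fin N) (Fin N) O) {C : Subgroup G} [Fintype C]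
  (hRO : ∀ z, MemLocalRing M z → z ∈ O) (hIO : ∀ z, MemLocalIdeal M z → z ∈ O.nonunits)
  {f : Set (IrrCharacter C)} {a : MonoidAlgebra (localRing M) C} {p : ℕ} [hp : Fact p.Prime]

/-- An element with vanishing coefficients on the centralizer of `y` is a trace from `⟨y⟩`. -/
theorem lam_is_trace (hcl : IsClassFunction C (iota C M a).coeff) {y : C} (hy : orderOf y = p)
    (h0 : ∀ z : C, z * y = y * z → a.coeff z ∈ localIdeal M) :
    ∃ β, Lam O A C hRO hIO (piR C M a) = trX (rhoK O A y) (rhoK O A (y : G)⁻¹) p β := by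
  classical
  -- the free action
  let Y := {z : C // z * y ≠ y * z}
  have hcomm : ∀ u ∈ Subgroup.zpowers y, u * y = y * u := by
    intro u hu
    obtain ⟨i, rfl⟩ := Subgroup.mem_zpowers_iff.1 hu
    exact ((Commute.refl y).zpow_left i).eq
  have hmem : ∀ (u : Subgroup.zpowers y) (z : Y), ((u : C) * z.1 * (u : C)⁻¹) * y ≠ y * ((u : C) * z.1 * (u : C)⁻¹) := by
    intro u z h
    apply z.2
    have hu := hcomm u u.2
    have hu' : (u : C)⁻¹ * y = y * (u : C)⁻¹ := (Commute.inv_left (show Commute (u : C) y from hu)).eq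
    have : (u : C) * (z.1 * y) * (u : C)⁻¹ = (u : C) * (y * z.1) * (u : C)⁻¹ := by
      calc (u : C) * (z.1 * y) * (u : C)⁻¹ = (u : C) * z.1 * (y * (u : C)⁻¹) := by group
        _ = (u : C) * z.1 * ((u : C)⁻¹ * y) := by rw [hu']
        _ = ((u : C) * z.1 * (u : C)⁻¹) * y := by group
        _ = y * ((u : C) * z.1 * (u : C)⁻¹) := h
        _ = (y * (u : C)) * z.1 * (u : C)⁻¹ := by group
        _ = (u : C) * y * z.1 * (u : C)⁻¹ := by rw [hu]
        _ = _ := by group
    exact mul_left_cancel (mul_right_cancel this)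
  letI : MulAction (Subgroup.zpowers y) Y :=
    { smul := fun u z => ⟨(u : C) * z.1 * (u : C)⁻¹, hmem u z⟩
      one_smul := fun z => by
        apply Subtype.ext
        show ((1 : Subgroup.zpowers y) : C) * z.1 * ((1 : Subgroup.zpowers y) : C)⁻¹ = z.1
        simp
      mul_smul := fun u v z => by
        apply Subtype.ext
        show ((u * v : Subgroup.zpowers y) : C) * z.1 * ((u * v : Subgroup.zpowers y) : C)⁻¹ =
          (u : C) * ((v : C) * z.1 * (v : C)⁻¹) * (u : C)⁻¹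
        simp only [Subgroup.coe_mul]
        group }
  have hsm : ∀ (u : Subgroup.zpowers y) (z : Y), ((u • z : Y) : C) = (u : C) * z.1 * (u : C)⁻¹ := fun _ _ => rfl
  letI : Fintype (Subgroup.zpowers y) := Fintype.ofFinite _
  letI : Fintype Y := Fintype.ofFinite _
  have hfree : ∀ (z : Y) (u : Subgroup.zpowers y), u • z = z → u = 1 := by
    intro z u hu
    by_contra hne
    have h1 : (u : C) * z.1 * (u : C)⁻¹ = z.1 := congrArg Subtype.val hu
    have h2 : (u : C) * z.1 = z.1 * (u : C) := by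
      calc (u : C) * z.1 = (u : C) * z.1 * (u : C)⁻¹ * (u : C) := by group
        _ = _ := by rw [h1]
    have hu1 : (u : C) ≠ 1 := fun h => hne (Subtype.ext h)
    have hoz : orderOf (u : C) = p := by
      apply orderOf_eq_prime _ hu1
      obtain ⟨j, hj⟩ := Subgroup.mem_zpowers_iff.1 u.2
      rw [← hj, ← zpow_natCast, ← _root_.zpow_mul, mul_comm, _root_.zpow_mul, zpow_natCast, ← hy, pow_orderOf_eq_one, _root_.one_zpow]
    have hzx : Subgroup.zpowers (u : C) = Subgroup.zpowers y := by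
      apply Subgroup.eq_of_le_of_card_ge ((Subgroup.zpowers_le).2 u.2)
      rw [Nat.card_zpowers, Nat.card_zpowers, hy, hoz]
    have hyz : y ∈ Subgroup.zpowers (u : C) := by
      rw [hzx]
      exact Subgroup.mem_zpowers y
    obtain ⟨i, hi⟩ := Subgroup.mem_zpowers_iff.1 hyz
    apply z.2
    have h4 := (show Commute (u : C) z.1 from h2).zpow_left i
    rw [hi] at h4
    exact h4.symm.eq
  obtain ⟨R, hR⟩ := Cfsg.Agent.Lib.DefectOne.exists_sum_free_action (U := Subgroup.zpowers y) (Y := Y)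
    (A := End κ (Fin N → κ)) hfree
  set j := jRes O hRO hIO with hj
  set ρ := rhoK O A with hρ
  let c : C → κ := fun z => j ((piR C M a).coeff z)
  have hc0 : ∀ z : C, z * y = y * z → c z = 0 := by
    intro z hz
    simp only [c]
    rw [coeff_piR, Ideal.Quotient.eq_zero_iff_mem.2 (h0 z hz), map_zero]
  have hcl' : ∀ (u z : C), c (u * z * u⁻¹) = c z := by
    intro u z
    simp only [c]
    rw [coeff_piR, coeff_piR]
    congr 2
    apply Subtype.ext
    have := hcl z u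
    rwa [coeff_iota, coeff_iota] at this
  refine ⟨∑ r ∈ R, c r.1 • ρ (r.1 : C), ?_⟩
  -- split the sum
  have h1 : Lam O A C hRO hIO (piR C M a) = ∑ z : Y, c z.1 • ρ (z.1 : C) := by
    rw [Lam_sum]
    rw [← Finset.sum_filter_add_sum_filter_not Finset.univ (fun z : C => z * y ≠ y * z)]
    have h2 : ∑ z ∈ Finset.univ.filter (fun z : C => ¬ z * y ≠ y * z), j ((piR C M a).coeff z) • rhoK O A z = 0 := by
      refine Finset.sum_eq_zero fun z hz => ?_
      have hz' : z * y = y * z := by simpa using (Finset.mem_filter.1 hz).2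
      have := hc0 z hz'
      simp only [c] at this
      rw [this, zero_smul]
    rw [h2, add_zero]
    exact Finset.sum_subtype _ (fun z => by simp) (fun z => j ((piR C M a).coeff z) • rhoK O A z)
  rw [h1, hR]
  have h3 := sum_zpowers_conj (ρ.comp C.subtype) (x := y) hy hp.out.pos (∑ r ∈ R, c r.1 • ρ (r.1 : C))
  have h4 : trX (ρ (y : G)) (ρ (y : G)⁻¹) p (∑ r ∈ R, c r.1 • ρ (r.1 : C)) =
      trX ((ρ.comp C.subtype) y) ((ρ.comp C.subtype) y⁻¹) p (∑ r ∈ R, c r.1 • ρ (r.1 : C)) := rfl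
  rw [h4, ← h3, Finset.sum_comm]
  refine Finset.sum_congr rfl fun u _ => ?_
  rw [Finset.mul_sum, Finset.sum_mul]
  refine Finset.sum_congr rfl fun r _ => ?_
  rw [hsm, hcl', mul_smul_comm, smul_mul_assoc]
  congr 1
  have e1 : ρ ((((u : C) * r.1 * (u : C)⁻¹ : C)) : G) = ρ (u : C) * ρ (r.1 : C) * ρ (((u : C) : G))⁻¹ := by
    rw [← map_mul, ← map_mul]
    rfl
  rw [e1]
  rfl

variable {x t : G} {T₁ : Subgroup G} {B : Set (IrrCharacter G)} {e m q : ℕ} {φ : MulAut C} {hxC : x ∈ C}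
  {ι w : MonoidAlgebra (localRing M ⧸ localIdeal M) C} {n : ℕ}
  {u v : Fin n → MonoidAlgebra (localRing M ⧸ localIdeal M) C} {τ : localRing M ⧸ localIdeal M} {s : ℕ}
  {P : Polynomial (localRing M ⧸ localIdeal M)}
  {w' : MonoidAlgebra (localRing M) C} {τ' : localRing M}

lemma u_e_comm {k A : Type*} [Field k] [Ring A] [Algebra k A] {e ι w : A} {n : ℕ} {u v : Fin n → A} {q : ℕ}
    (S : BStr (k := k) e ι w u v q) (i : Fin n) : e * u i = u i := S.eu i

/-- An automorphism induced by an element normalizing `⟨x⟩`. -/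
lemma exists_phi (hC : ∀ g, g ∈ C ↔ g * x = x * g) {g : G} (hg : g⁻¹ * x * g ∈ Subgroup.zpowers x) :
    ∃ φ : MulAut C, ∀ h : C, (φ h : G) = g * h * g⁻¹ := by
  have hmem : ∀ h : C, g * h * g⁻¹ ∈ C := by
    intro h
    rw [hC]
    obtain ⟨i, hi⟩ := Subgroup.mem_zpowers_iff.1 hg
    have h1 : Commute (h : G) x := (hC _).1 h.2
    have h2 : Commute (h : G) (g⁻¹ * x * g) := by
      rw [← hi]
      exact h1.zpow_right i
    have h3 : (h : G) * (g⁻¹ * x * g) = (g⁻¹ * x * g) * h := h2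
    calc g * h * g⁻¹ * x = g * ((h : G) * (g⁻¹ * x * g)) * g⁻¹ := by group
      _ = g * ((g⁻¹ * x * g) * h) * g⁻¹ := by rw [h3]
      _ = _ := by group
  let F : C →* C :=
    { toFun := fun h => ⟨g * h * g⁻¹, hmem h⟩
      map_one' := by
        apply Subtype.ext
        simp
      map_mul' := fun a b => by
        apply Subtype.ext
        show g * ((a : G) * b) * g⁻¹ = (g * a * g⁻¹) * (g * b * g⁻¹)
        group }
  have hinj : Function.Injective F := by
    intro a b hab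
    have : g * (a : G) * g⁻¹ = g * b * g⁻¹ := congrArg Subtype.val hab
    exact Subtype.ext (mul_left_cancel (mul_right_cancel this))
  refine ⟨MulEquiv.ofBijective F (Finite.injective_iff_bijective.1 hinj), fun h => rfl⟩

variable (L : Loc (M := M) p x t C T₁ f B a e m q)
  (K : Pk (M := M) (p := p) (x := x) (t := t) (f := f) a e q φ hxC ι w u v τ s P w' τ')

include L in
lemma Loc.piR_idem : piR C M a * piR C M a = piR C M a := piR_mul_self L.ha

include L K in
lemma Loc.fixed_of_mem {g : G} (hg : g ∈ T₁) :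
    Lam O A C hRO hIO (piR C M a) * rhoK O A g = rhoK O A g * Lam O A C hRO hIO (piR C M a) := by
  obtain ⟨φ₁, hφ₁, hφ₁a⟩ := L.hstab g hg
  refine comm_of_fixed O A _ hRO hIO hφ₁ ?_
  rw [← piR_dAut, hφ₁a]

include L in
lemma Loc.green_h1 (g : G) (hg : g ∉ T₁) (hgn : ∀ y ∈ Subgroup.zpowers x, g⁻¹ * y * g ∈ Subgroup.zpowers x) :
    Lam O A C hRO hIO (piR C M a) * cj (rhoK O A) g (Lam O A C hRO hIO (piR C M a)) = 0 := by
  have hg' := hgn x (Subgroup.mem_zpowers x)
  obtain ⟨φ₁, hφ₁⟩ := exists_phi L.hC hg'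
  have h0 := L.h1 g φ₁ hφ₁ hg' hg
  unfold cj
  rw [Lam_conj' O A _ hRO hIO hφ₁, ← map_mul, ← piR_dAut, ← map_mul, h0, map_zero, map_zero]

include L in
lemma Loc.green_h2 [CharP κ p] (g : G) (hg : ∀ y ∈ Subgroup.zpowers x, g⁻¹ * y * g ∈ T₁)
    (hgn : ¬ ∀ y ∈ Subgroup.zpowers x, g⁻¹ * y * g ∈ Subgroup.zpowers x) :
    IsTrX (rhoK O A x) (rhoK O A x⁻¹) p (cj (rhoK O A) g (Lam O A C hRO hIO (piR C M a))) := by
  have h1 := hg x (Subgroup.mem_zpowers x)
  have h2 := L.h2' g h1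
  have h3 : g⁻¹ * x * g ∉ Subgroup.zpowers x := by
    intro h4
    apply hgn
    intro y hy
    obtain ⟨i, rfl⟩ := Subgroup.mem_zpowers_iff.1 hy
    have : g⁻¹ * x ^ i * g = (g⁻¹ * x * g) ^ i := by
      have h5 := conj_zpow (i := i) (a := g⁻¹) (b := x)
      simpa using h5.symm
    rw [this]
    exact Subgroup.zpow_mem _ h4 i
  let y : C := ⟨g⁻¹ * x * g, h2⟩
  have hoy : orderOf y = p := by
    rw [← L.ox, ← Subgroup.orderOf_coe]
    show orderOf (g⁻¹ * x * g) = orderOf x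
    have := orderOf_injective (MulAut.conj g⁻¹).toMonoidHom (MulAut.conj g⁻¹).injective x
    simpa [MulAut.conj_apply] using this
  have h0 : ∀ z : C, z * y = y * z → a.coeff z ∈ localIdeal M := by
    intro z hz
    exact L.h2 g h2 h3 z (congrArg Subtype.val hz)
  have hcl : IsClassFunction C (iota C M a).coeff := by
    rw [L.ha]
    exact isClassFunction_blockElt f
  obtain ⟨β, hβ⟩ := lam_is_trace O A hRO hIO hcl hoy h0
  refine ⟨rhoK O A g * β * rhoK O A g⁻¹, ?_⟩
  unfold cj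
  rw [hβ]
  unfold trX
  rw [Finset.mul_sum, Finset.sum_mul]
  refine Finset.sum_congr rfl fun i _ => ?_
  have e1 : SemiconjBy (rhoK O A g) (rhoK O A (y : G)) (rhoK O A x) := by
    show rhoK O A g * rhoK O A (y : G) = rhoK O A x * rhoK O A g
    rw [← map_mul, ← map_mul]
    congr 1
    show g * (g⁻¹ * x * g) = x * g
    group
  have e2 : SemiconjBy (rhoK O A (y : G)⁻¹) (rhoK O A g⁻¹) (rhoK O A x⁻¹) → True := fun _ => trivial
  have e3 : rhoK O A (y : G)⁻¹ ^ i * rhoK O A g⁻¹ = rhoK O A g⁻¹ * rhoK O A x⁻¹ ^ i := by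
    have : SemiconjBy (rhoK O A g⁻¹) (rhoK O A x⁻¹) (rhoK O A (y : G)⁻¹) := by
      show rhoK O A g⁻¹ * rhoK O A x⁻¹ = rhoK O A (y : G)⁻¹ * rhoK O A g⁻¹
      rw [← map_mul, ← map_mul]
      congr 1
      show g⁻¹ * x⁻¹ = (g⁻¹ * x * g)⁻¹ * g⁻¹
      group
    exact (this.pow_right i).eq.symm
  have e4 := (e1.pow_right i).eq
  calc rhoK O A g * (rhoK O A (y : G) ^ i * β * rhoK O A (y : G)⁻¹ ^ i) * rhoK O A g⁻¹
      = (rhoK O A g * rhoK O A (y : G) ^ i) * β * (rhoK O A (y : G)⁻¹ ^ i * rhoK O A g⁻¹) := by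
        simp only [mul_assoc]
    _ = (rhoK O A x ^ i * rhoK O A g) * β * (rhoK O A g⁻¹ * rhoK O A x⁻¹ ^ i) := by rw [e4, e3]
    _ = _ := by simp only [mul_assoc]

include L in
lemma Loc.x_mem : x ∈ C := (L.hC x).2 rfl

include L in
lemma Loc.x_central (c : C) : (c : G) * x = x * c := (L.hC c).1 c.2

include L in
lemma Loc.x_T : x ∈ T₁ := L.hCT L.x_mem

lemma rho_eq_Lam_of (y : C) : rhoK O A (y : G) = Lam O A C hRO hIO (MonoidAlgebra.of _ C y) :=
  (Lam_of O A C hRO hIO y).symm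

include L K in
/-- **The setup for the Jordan form.** -/
theorem Loc.setup [CharP κ p] :
    Setup (Lam O A C hRO hIO w) (rhoK O A x) (rhoK O A x⁻¹) (Lam O A C hRO hIO (Polynomial.aeval w P))
      (rhoK O A t) (Lam O A C hRO hIO ι) (jRes O hRO hIO τ) m p s q := by
  have hS := K.S
  have hCen : ∀ y, rhoK O A x * Lam O A C hRO hIO y = Lam O A C hRO hIO y * rhoK O A x :=
    rho_central O A C L.x_mem L.x_central (hRO := hRO) (hIO := hIO)
  have hCen' : ∀ y, rhoK O A x⁻¹ * Lam O A C hRO hIO y = Lam O A C hRO hIO y * rhoK O A x⁻¹ := by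
    intro y
    calc rhoK O A x⁻¹ * Lam O A C hRO hIO y
        = rhoK O A x⁻¹ * Lam O A C hRO hIO y * (rhoK O A x * rhoK O A x⁻¹) := by rw [rho_mul_inv, mul_one]
      _ = rhoK O A x⁻¹ * (Lam O A C hRO hIO y * rhoK O A x) * rhoK O A x⁻¹ := by simp only [mul_assoc]
      _ = rhoK O A x⁻¹ * (rhoK O A x * Lam O A C hRO hIO y) * rhoK O A x⁻¹ := by rw [hCen]
      _ = _ := by rw [← mul_assoc (rhoK O A x⁻¹), rho_inv_mul, one_mul]
  have hm1 : e ∣ m := (L.hte m).1 (by rw [L.htm]; exact C.one_mem)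
  have hτm : τ ^ m = 1 := (K.hτ m).2 hm1
  have hwc : ∀ y, Lam O A C hRO hIO w * Lam O A C hRO hIO y = Lam O A C hRO hIO y * Lam O A C hRO hIO w := by
    intro y
    rw [← map_mul, ← map_mul, hS.cw]
  have hηc : ∀ y, Lam O A C hRO hIO (Polynomial.aeval w P) * Lam O A C hRO hIO y =
      Lam O A C hRO hIO y * Lam O A C hRO hIO (Polynomial.aeval w P) := by
    intro y
    rw [← map_mul, ← map_mul, aeval_central hS.cw]
  have hofc : (MonoidAlgebra.of (localRing M ⧸ localIdeal M) C ⟨x, hxC⟩ - 1) * ι =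
      w ^ s * Polynomial.aeval w P * ι := by
    calc _ = (MonoidAlgebra.of (localRing M ⧸ localIdeal M) C ⟨x, hxC⟩ - 1) * piR C M a * ι := by
          rw [mul_assoc, hS.eι]
      _ = _ := by rw [K.hrel, mul_assoc, hS.eι]
  refine ⟨rho_mul_inv O A x, rho_inv_mul O A x, ?_, hwc ι |>.symm, (hCen ι).symm, (hηc ι).symm, ?_, (hCen w).symm, ?_,
    hwc _, (hCen _).symm, ?_, K.hsp, ?_, hp.out.one_lt, ?_, ?_, ?_, ?_, ?_⟩
  · rw [← map_mul, hS.ιι]
  · exact comm_of_fixed O A C hRO hIO K.hφ K.hcι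
  · exact ⟨P.map (jRes O hRO hIO), Lam_aeval O A C hRO hIO w P⟩
  · have h1 : rhoK O A x = Lam O A C hRO hIO (MonoidAlgebra.of _ C ⟨x, hxC⟩) := rho_eq_Lam_of O A hRO hIO ⟨x, hxC⟩
    rw [h1]
    have h2 := congrArg (Lam O A C hRO hIO) hofc
    rw [map_mul, map_sub, map_one, map_mul, map_mul, map_pow] at h2
    exact h2
  · have := hS.hq
    rw [← K.hsp] at this ⊢
    omega
  · rw [← map_pow, ← map_mul, hS.wq, zero_mul, map_zero]
  · rw [← map_pow, L.htm, map_one]
  · intro h0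
    exact L.hpm ((CharP.cast_eq_zero_iff κ p m).1 h0)
  · have h1 := Lam_conj' O A C hRO hIO K.hφ w
    rw [K.hcw, Lam_smul] at h1
    calc rhoK O A t * Lam O A C hRO hIO w
        = rhoK O A t * Lam O A C hRO hIO w * (rhoK O A t⁻¹ * rhoK O A t) := by rw [rho_inv_mul, mul_one]
      _ = rhoK O A t * Lam O A C hRO hIO w * rhoK O A t⁻¹ * rhoK O A t := by simp only [mul_assoc]
      _ = _ := by rw [h1, smul_mul_assoc]
  · rw [← map_pow, hτm, map_one]

include L K in
/-- **Green's dichotomy for the corner.** -/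
theorem Loc.dich [CharP κ p]
    (hFit : ∀ S : End κ (Fin N → κ), (∀ g, S * rhoK O A g = rhoK O A g * S) → IsNilpotent S ∨ Function.Bijective S)
    (π : End κ (Fin N → κ))
    (hπ : Below (Lam O A C hRO hIO w) (Lam O A C hRO hIO (Polynomial.aeval w P)) (rhoK O A t)
      (Lam O A C hRO hIO ι) π) :
    IsTrX (rhoK O A x) (rhoK O A x⁻¹) p π ∨ IsTrX (rhoK O A x) (rhoK O A x⁻¹) p (Lam O A C hRO hIO ι - π) := by
  have hS := K.S
  set Λ := Lam O A C hRO hIO with hΛ
  have hπι : π * Λ ι = π := hπ.le'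
  have hιπ : Λ ι * π = π := hπ.le
  have hπP : ∀ P : Polynomial (localRing M ⧸ localIdeal M), π * Λ (Polynomial.aeval w P) = Λ (Polynomial.aeval w P) * π := by
    intro P
    rw [hΛ, Lam_aeval]
    exact comm_aeval' hπ.cw _
  have hΛe : Λ (piR C M a) * Λ (piR C M a) = Λ (piR C M a) := by
    rw [← map_mul, hS.ee]
  set πh := hatπ Λ u v π with hπh
  have hc : ∀ r, πh * Λ r = Λ r * πh := hat_comm hS Λ hπι hιπ hπP
  have hcT : ∀ g ∈ T₁, πh * rhoK O A g = rhoK O A g * πh := by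
    intro g hg
    obtain ⟨i, c, hc', rfl⟩ := L.hTt g hg
    have h1 : πh * rhoK O A t = rhoK O A t * πh := by
      refine hat_comm_y hS Λ hπι hιπ hπP (rho_mul_inv O A t) (rho_inv_mul O A t)
        (dAut _ φ : _ →ₐ[_] _).toRingHom K.hcι ?_ (fun r => Lam_conj' O A C hRO hIO K.hφ r) hπ.ct
      show dAut _ φ (piR C M a) = piR C M a
      obtain ⟨φ₁, hφ₁, hφ₁a⟩ := L.hstab t L.htT
      have hφφ : φ₁ = φ := by
        ext h
        rw [hφ₁, K.hφ]
      rw [← piR_dAut, ← hφφ, hφ₁a]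
    have h2 : πh * rhoK O A c = rhoK O A c * πh := by
      have := hc (MonoidAlgebra.of _ C ⟨c, hc'⟩)
      rwa [hΛ, Lam_of] at this
    have h3 : Commute πh (rhoK O A t ^ i) := (show Commute πh (rhoK O A t) from h1).pow_right i
    rw [map_mul, map_pow, ← mul_assoc, h3.eq, mul_assoc, h2, mul_assoc]
  have hdichot := green_dichotomy (rhoK O A) (E := Λ (piR C M a)) L.ox hp.out L.x_T hFit hΛe
    (fun g hg => Loc.fixed_of_mem O A hRO hIO L K hg)
    (fun S hS' => comm_Lam O A C hRO hIO (fun h => hS' h) _)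
    (fun g hg hgn => Loc.green_h1 O A hRO hIO L g hg hgn)
    (fun g hg hgn => Loc.green_h2 O A hRO hIO L g hg hgn)
    (π := πh) (hat_idem hS Λ hπι hιπ hπP hπ.idem) (e_hat hS Λ hπι hιπ hπP) (hat_e hS Λ hπι hιπ hπP) hcT
  have hCen : ∀ y, rhoK O A x * Λ y = Λ y * rhoK O A x :=
    rho_central O A C L.x_mem L.x_central (hRO := hRO) (hIO := hIO)
  have hCen' : ∀ y, rhoK O A x⁻¹ * Λ y = Λ y * rhoK O A x⁻¹ := by
    intro y
    calc rhoK O A x⁻¹ * Λ y
        = rhoK O A x⁻¹ * Λ y * (rhoK O A x * rhoK O A x⁻¹) := by rw [rho_mul_inv, mul_one]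
      _ = rhoK O A x⁻¹ * (Λ y * rhoK O A x) * rhoK O A x⁻¹ := by simp only [mul_assoc]
      _ = rhoK O A x⁻¹ * (rhoK O A x * Λ y) * rhoK O A x⁻¹ := by rw [hCen]
      _ = _ := by rw [← mul_assoc (rhoK O A x⁻¹), rho_inv_mul, one_mul]
  let i₀ : Fin n := ⟨0, K.hn⟩
  have h1 : ∀ α, IsTrX (rhoK O A x) (rhoK O A x⁻¹) p α →
      IsTrX (rhoK O A x) (rhoK O A x⁻¹) p (Λ (v i₀) * α * Λ (u i₀)) := fun α hα =>
    hα.mul_mul (hCen _).symm (hCen' _).symm (hCen _).symm (hCen' _).symm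
  rcases hdichot with h | h
  · left
    have := h1 _ h
    rwa [hπh, v_hat_u hS Λ hπι hιπ hπP i₀] at this
  · right
    have := h1 _ h
    rw [mul_sub, sub_mul, hπh, v_hat_u hS Λ hπι hιπ hπP i₀, ← map_mul, ← map_mul, mul_assoc (v i₀),
      u_e_comm hS, hS.vu, if_pos rfl] at this
    exact this

end Green

end Cfsg.Agent.Lib.Dade
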