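import Mathlib
import Cfsg.Agent.Lib.Dade.DC

/-!
# Relative traces and central characters on the reduction
-/

set_option autoImplicit false
set_option linter.unusedSectionVars false
set_option linter.style.haveILetI false

namespace Cfsg.Agent.Lib.Dade

open Module Matrix Cfsg Cfsg.Agent.Lib.Blocks.Local Cfsg.Agent.Lib.Blocks.Central Cfsg.Agent.Lib.Blocks.Osima
open Cfsg.Agent.Lib.Blocks.ModBlock Cfsg.Agent.Lib.DefectOne

section Schur

variable {G : Type*} [Group G] {N : ℕ}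

/-- Schur's lemma for matrices. -/
lemma scalar_of_comm (R : G →* Matrix (Fin N) (Fin N) ℂ)
    (hirr : ∀ v : Fin N → ℂ, v ≠ 0 → Submodule.span ℂ (Set.range fun g => R g *ᵥ v) = ⊤) (hN : 0 < N)
    {S : Matrix (Fin N) (Fin N) ℂ} (hS : ∀ g, S * R g = R g * S) : ∃ c : ℂ, S = c • 1 := by
  haveI : Nonempty (Fin N) := ⟨⟨0, hN⟩⟩
  obtain ⟨c, hc⟩ := Module.End.exists_eigenvalue (Matrix.toLin' S)
  obtain ⟨v, hv⟩ := hc.exists_hasEigenvector
  have hv1 : S *ᵥ v = c • v := hv.apply_eq_smul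
  have hv0 : v ≠ 0 := hv.2
  refine ⟨c, ?_⟩
  have hall : ∀ y, S *ᵥ y = c • y := by
    intro y
    have hy : y ∈ Submodule.span ℂ (Set.range fun g => R g *ᵥ v) := by
      rw [hirr v hv0]
      trivial
    induction hy using Submodule.span_induction with
    | mem _ h =>
      obtain ⟨g, rfl⟩ := h
      simp only
      rw [Matrix.mulVec_mulVec, hS, ← Matrix.mulVec_mulVec, hv1, Matrix.mulVec_smul]
    | zero => simp
    | add a b _ _ ha hb => rw [Matrix.mulVec_add, ha, hb, smul_add]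
    | smul r a _ ha => rw [Matrix.mulVec_smul, ha, smul_comm]
  ext i j
  have h := congrFun (hall (Pi.single j 1)) i
  rw [Matrix.mulVec_single_one] at h
  simp only [Matrix.col_apply, Pi.smul_apply, smul_eq_mul, Pi.single_apply] at h
  rw [h]
  simp [Matrix.one_apply, Matrix.smul_apply]

end Schur

section Form

variable (O : ValuationSubring ℂ) {G : Type*} [Group G] [Fintype G] {N : ℕ} (A : G →* Matrix (Fin N) (Fin N) O)

local notation "κ" => (IsLocalRing.ResidueField O)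

lemma A_mul_inv (g : G) : A g * A g⁻¹ = 1 := by rw [← map_mul, mul_inv_cancel, map_one]

lemma A_inv_mul (g : G) : A g⁻¹ * A g = 1 := by rw [← map_mul, inv_mul_cancel, map_one]

variable {R : G →* Matrix (Fin N) (Fin N) ℂ} {B : Matrix (Fin N) (Fin N) ℂ}

lemma map_val_inj {X Y : Matrix (Fin N) (Fin N) O}
    (h : X.map (Subtype.val : O → ℂ) = Y.map (Subtype.val : O → ℂ)) : X = Y := by
  ext i j
  exact congrFun (congrFun h i) j

/-- An element of `M_N(O)` commuting with the group is scalar. -/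
lemma scalar_of_comm_O (hdet : B.det ≠ 0) (hA : ∀ g, (A g).map (Subtype.val : O → ℂ) = B⁻¹ * R g * B)
    (hirr : ∀ v : Fin N → ℂ, v ≠ 0 → Submodule.span ℂ (Set.range fun g => R g *ᵥ v) = ⊤) (hN : 0 < N)
    {S : Matrix (Fin N) (Fin N) O} (hS : ∀ g, S * A g = A g * S) : ∃ c : O, S = c • 1 := by
  have hBu : IsUnit B.det := isUnit_iff_ne_zero.2 hdet
  have hB1 : B * B⁻¹ = 1 := Matrix.mul_nonsing_inv _ hBu
  have hB2 : B⁻¹ * B = 1 := Matrix.nonsing_inv_mul _ hBu
  let φ : O →+* ℂ := O.subtype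
  have hφ : ∀ X : Matrix (Fin N) (Fin N) O, φ.mapMatrix X = X.map (Subtype.val : O → ℂ) := fun _ => rfl
  set S' := B * (S.map (Subtype.val : O → ℂ)) * B⁻¹ with hS'
  have hc : ∀ g, S' * R g = R g * S' := by
    intro g
    have h1 : (S.map (Subtype.val : O → ℂ)) * (B⁻¹ * R g * B) = (B⁻¹ * R g * B) * (S.map (Subtype.val : O → ℂ)) := by
      rw [← hA, ← hφ, ← hφ, ← map_mul, ← map_mul, hS]
    calc S' * R g = B * (S.map (Subtype.val : O → ℂ)) * (B⁻¹ * R g * B) * B⁻¹ := by
          rw [hS']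
          simp only [mul_assoc, hB1, mul_one]
      _ = B * ((S.map (Subtype.val : O → ℂ)) * (B⁻¹ * R g * B)) * B⁻¹ := by simp only [mul_assoc]
      _ = B * ((B⁻¹ * R g * B) * (S.map (Subtype.val : O → ℂ))) * B⁻¹ := by rw [h1]
      _ = (B * B⁻¹) * R g * B * (S.map (Subtype.val : O → ℂ)) * B⁻¹ := by simp only [mul_assoc]
      _ = _ := by rw [hB1, hS']; simp only [one_mul, mul_assoc]
  obtain ⟨c, hc'⟩ := scalar_of_comm R hirr hN hc
  have h2 : S.map (Subtype.val : O → ℂ) = c • 1 := by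
    calc S.map (Subtype.val : O → ℂ) = (B⁻¹ * B) * (S.map (Subtype.val : O → ℂ)) * (B⁻¹ * B) := by
          rw [hB2, one_mul, mul_one]
      _ = B⁻¹ * S' * B := by rw [hS']; simp only [mul_assoc]
      _ = c • 1 := by rw [hc', Matrix.mul_smul, Matrix.smul_mul, mul_one, hB2]
  have hcO : c ∈ O := by
    have h3 := congrFun (congrFun h2 ⟨0, hN⟩) ⟨0, hN⟩
    simp only [Matrix.map_apply, Matrix.smul_apply, Matrix.one_apply_eq, smul_eq_mul, mul_one] at h3
    rw [← h3]
    exact (S _ _).2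
  refine ⟨⟨c, hcO⟩, map_val_inj O ?_⟩
  rw [h2]
  ext i j
  simp [Matrix.one_apply]
  split_ifs <;> simp

/-- The relative trace of an element commuting with a subgroup is scalar. -/
theorem relTr_scalar (T : Subgroup G) (hdet : B.det ≠ 0) (hA : ∀ g, (A g).map (Subtype.val : O → ℂ) = B⁻¹ * R g * B)
    (hirr : ∀ v : Fin N → ℂ, v ≠ 0 → Submodule.span ℂ (Set.range fun g => R g *ᵥ v) = ⊤) (hN : 0 < N)
    {Y : Matrix (Fin N) (Fin N) O} (hY : ∀ t ∈ T, Y * A t = A t * Y) :
    ∃ c : κ, relTr (rhoK O A) T (redEnd O Y) = c • 1 := by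
  classical
  letI : Fintype (G ⧸ T) := Fintype.ofFinite _
  set X : Matrix (Fin N) (Fin N) O := ∑ q : G ⧸ T, A q.out * Y * A (q.out)⁻¹ with hX
  have hcomm : ∀ g, X * A g = A g * X := by
    intro g
    have hinv : A g * A g⁻¹ = 1 := A_mul_inv O A g
    have hinv' : A g⁻¹ * A g = 1 := A_inv_mul O A g
    -- independence of the representative
    have hrep : ∀ (q : G ⧸ T) (h : G), (h : G ⧸ T) = q → A h * Y * A h⁻¹ = A q.out * Y * A q.out⁻¹ := by
      intro q h hq
      have h1 : (q.out)⁻¹ * h ∈ T := by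
        apply QuotientGroup.eq.1
        rw [QuotientGroup.out_eq', hq]
      obtain ⟨s, hsT, rfl⟩ : ∃ s ∈ T, h = q.out * s := ⟨_, h1, by group⟩
      rw [_root_.mul_inv_rev, map_mul, map_mul]
      calc A q.out * A s * Y * (A s⁻¹ * A q.out⁻¹) = A q.out * (A s * Y) * A s⁻¹ * A q.out⁻¹ := by
            simp only [mul_assoc]
        _ = A q.out * (Y * A s) * A s⁻¹ * A q.out⁻¹ := by rw [hY s hsT]
        _ = A q.out * Y * (A s * A s⁻¹) * A q.out⁻¹ := by simp only [mul_assoc]
        _ = _ := by rw [A_mul_inv, mul_one]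
    have h5 : ∀ q : G ⧸ T, A g * (A q.out * Y * A q.out⁻¹) * A g⁻¹ = A (g • q).out * Y * A (g • q).out⁻¹ := by
      intro q
      have h6 : ((g * q.out : G) : G ⧸ T) = g • q := by
        conv_rhs => rw [← QuotientGroup.out_eq' q]
        rfl
      have h7 := hrep (g • q) (g * q.out) h6
      rw [← h7, _root_.mul_inv_rev, map_mul, map_mul]
      simp only [mul_assoc]
    have h3 : A g * X * A g⁻¹ = X := by
      rw [hX, Finset.mul_sum, Finset.sum_mul, Finset.sum_congr rfl fun q _ => h5 q]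
      exact Equiv.sum_comp (MulAction.toPerm g) (fun q : G ⧸ T => A q.out * Y * A q.out⁻¹)
    calc X * A g = (A g * X * A g⁻¹) * A g := by rw [h3]
      _ = A g * X * (A g⁻¹ * A g) := by simp only [mul_assoc]
      _ = _ := by rw [hinv', mul_one]
  obtain ⟨c, hc⟩ := scalar_of_comm_O O A hdet hA hirr hN hcomm
  refine ⟨IsLocalRing.residue O c, ?_⟩
  have h1 : relTr (rhoK O A) T (redEnd O Y) = redEnd O X := by
    unfold relTr
    rw [hX, map_sum]
    refine Finset.sum_congr rfl fun q _ => ?_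
    unfold cj
    rw [map_mul, map_mul, redEnd_A, redEnd_A]
  rw [h1, hc, redEnd_smul, map_one]

end Form

section ClassPow

variable {H : Type*} [Group H] [Fintype H]

lemma isClassFunction_pow' {y : MonoidAlgebra ℂ H} (hy : IsClassFunction H y.coeff) (n : ℕ) :
    IsClassFunction H (y ^ n).coeff := by
  induction n with
  | zero => simpa using isClassFunction_one
  | succ n ih =>
    rw [pow_succ]
    exact isClassFunction_mul ih hy

end ClassPow

section BS

variable {k A : Type*} [Field k] [Ring A] [Algebra k A] {e ι w : A} {n : ℕ} {u v : Fin n → A} {q : ℕ}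

lemma BStr.cw' (S : BStr (k := k) e ι w u v q) (d : ℕ) (y : A) : w ^ d * y = y * w ^ d :=
  (Commute.pow_left (show Commute w y from S.cw y) d).eq

end BS

section SumTrace

variable {Γ K W : Type*} [Group Γ] [Fintype Γ] [Field K] [AddCommGroup W] [Module K W]

/-- A sum over group elements, invariant under conjugation by `y`, with support outside the centralizer of `y`
is a trace from `⟨y⟩`. -/
theorem sum_is_trace (ρ : Γ →* End K W) {p : ℕ} [hp : Fact p.Prime] {y : Γ} (hy : orderOf y = p) (c : Γ → K)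
    (hc0 : ∀ z, z * y = y * z → c z = 0) (hcl : ∀ u ∈ Subgroup.zpowers y, ∀ z, c (u * z * u⁻¹) = c z) :
    ∃ β, ∑ z, c z • ρ z = trX (ρ y) (ρ y⁻¹) p β := by
  classical
  let Y := {z : Γ // z * y ≠ y * z}
  have hcomm : ∀ u ∈ Subgroup.zpowers y, u * y = y * u := by
    intro u hu
    obtain ⟨i, rfl⟩ := Subgroup.mem_zpowers_iff.1 hu
    exact ((Commute.refl y).zpow_left i).eq
  have hmem : ∀ (u : Subgroup.zpowers y) (z : Y), ((u : Γ) * z.1 * (u : Γ)⁻¹) * y ≠ y * ((u : Γ) * z.1 * (u : Γ)⁻¹) := by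
    intro u z h
    apply z.2
    have hu := hcomm u u.2
    have hu' : (u : Γ)⁻¹ * y = y * (u : Γ)⁻¹ := (Commute.inv_left (show Commute (u : Γ) y from hu)).eq
    have : (u : Γ) * (z.1 * y) * (u : Γ)⁻¹ = (u : Γ) * (y * z.1) * (u : Γ)⁻¹ := by
      calc (u : Γ) * (z.1 * y) * (u : Γ)⁻¹ = (u : Γ) * z.1 * (y * (u : Γ)⁻¹) := by group
        _ = (u : Γ) * z.1 * ((u : Γ)⁻¹ * y) := by rw [hu']
        _ = ((u : Γ) * z.1 * (u : Γ)⁻¹) * y := by group
        _ = y * ((u : Γ) * z.1 * (u : Γ)⁻¹) := h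
        _ = (y * (u : Γ)) * z.1 * (u : Γ)⁻¹ := by group
        _ = (u : Γ) * y * z.1 * (u : Γ)⁻¹ := by rw [hu]
        _ = _ := by group
    exact mul_left_cancel (mul_right_cancel this)
  letI : MulAction (Subgroup.zpowers y) Y :=
    { smul := fun u z => ⟨(u : Γ) * z.1 * (u : Γ)⁻¹, hmem u z⟩
      one_smul := fun z => by
        apply Subtype.ext
        show ((1 : Subgroup.zpowers y) : Γ) * z.1 * ((1 : Subgroup.zpowers y) : Γ)⁻¹ = z.1
        simp
      mul_smul := fun u v z => by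
        apply Subtype.ext
        show ((u * v : Subgroup.zpowers y) : Γ) * z.1 * ((u * v : Subgroup.zpowers y) : Γ)⁻¹ =
          (u : Γ) * ((v : Γ) * z.1 * (v : Γ)⁻¹) * (u : Γ)⁻¹
        simp only [Subgroup.coe_mul]
        group }
  have hsm : ∀ (u : Subgroup.zpowers y) (z : Y), ((u • z : Y) : Γ) = (u : Γ) * z.1 * (u : Γ)⁻¹ := fun _ _ => rfl
  letI : Fintype (Subgroup.zpowers y) := Fintype.ofFinite _
  letI : Fintype Y := Fintype.ofFinite _
  have hfree : ∀ (z : Y) (u : Subgroup.zpowers y), u • z = z → u = 1 := by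
    intro z u hu
    by_contra hne
    have h1 : (u : Γ) * z.1 * (u : Γ)⁻¹ = z.1 := congrArg Subtype.val hu
    have h2 : (u : Γ) * z.1 = z.1 * (u : Γ) := by
      calc (u : Γ) * z.1 = (u : Γ) * z.1 * (u : Γ)⁻¹ * (u : Γ) := by group
        _ = _ := by rw [h1]
    have hu1 : (u : Γ) ≠ 1 := fun h => hne (Subtype.ext h)
    have hoz : orderOf (u : Γ) = p := by
      apply orderOf_eq_prime _ hu1
      obtain ⟨j, hj⟩ := Subgroup.mem_zpowers_iff.1 u.2
      rw [← hj, ← zpow_natCast, ← _root_.zpow_mul, mul_comm, _root_.zpow_mul, zpow_natCast, ← hy, pow_orderOf_eq_one,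
        _root_.one_zpow]
    have hzx : Subgroup.zpowers (u : Γ) = Subgroup.zpowers y := by
      apply Subgroup.eq_of_le_of_card_ge ((Subgroup.zpowers_le).2 u.2)
      rw [Nat.card_zpowers, Nat.card_zpowers, hy, hoz]
    have hyz : y ∈ Subgroup.zpowers (u : Γ) := by
      rw [hzx]
      exact Subgroup.mem_zpowers y
    obtain ⟨i, hi⟩ := Subgroup.mem_zpowers_iff.1 hyz
    apply z.2
    have h4 := (show Commute (u : Γ) z.1 from h2).zpow_left i
    rw [hi] at h4
    exact h4.symm.eq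
  obtain ⟨R, hR⟩ := Cfsg.Agent.Lib.DefectOne.exists_sum_free_action (U := Subgroup.zpowers y) (Y := Y)
    (A := End K W) hfree
  refine ⟨∑ r ∈ R, c r.1 • ρ r.1, ?_⟩
  have h1 : ∑ z, c z • ρ z = ∑ z : Y, c z.1 • ρ z.1 := by
    rw [← Finset.sum_filter_add_sum_filter_not Finset.univ (fun z : Γ => z * y ≠ y * z)]
    have h2 : ∑ z ∈ Finset.univ.filter (fun z : Γ => ¬ z * y ≠ y * z), c z • ρ z = 0 := by
      refine Finset.sum_eq_zero fun z hz => ?_
      have hz' : z * y = y * z := by simpa using (Finset.mem_filter.1 hz).2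
      rw [hc0 z hz', zero_smul]
    rw [h2, add_zero]
    exact Finset.sum_subtype _ (fun z => by simp) (fun z => c z • ρ z)
  rw [h1, hR]
  have h3 := sum_zpowers_conj ρ (x := y) hy hp.out.pos (∑ r ∈ R, c r.1 • ρ r.1)
  rw [← h3, Finset.sum_comm]
  refine Finset.sum_congr rfl fun u _ => ?_
  rw [Finset.mul_sum, Finset.sum_mul]
  refine Finset.sum_congr rfl fun r _ => ?_
  rw [hsm, hcl _ u.2, mul_smul_comm, smul_mul_assoc]
  congr 1
  rw [map_mul, map_mul]

/-- Cancellation of a polynomial with nonzero constant term. -/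
lemma isTrX_of_poly {x xi Z E₀ : End K W} {p : ℕ} (hZ : IsNilpotent Z) (hZx : Z * x = x * Z) (hZxi : Z * xi = xi * Z)
    (Q : Polynomial K) (hQ : Q.coeff 0 ≠ 0) (h : IsTrX x xi p (Polynomial.aeval Z Q * E₀)) : IsTrX x xi p E₀ := by
  have hU : IsUnit (Polynomial.aeval Z Q) := isUnit_aeval_of_coeff hZ Q hQ
  obtain ⟨U, hU'⟩ := hU
  have h1 : (Polynomial.aeval Z Q) * x = x * Polynomial.aeval Z Q := (comm_aeval' hZx.symm Q).symm
  have h2 : (Polynomial.aeval Z Q) * xi = xi * Polynomial.aeval Z Q := (comm_aeval' hZxi.symm Q).symm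
  rw [← hU'] at h h1 h2
  have h3 : ((U⁻¹ : (End K W)ˣ) : End K W) * x = x * ((U⁻¹ : (End K W)ˣ) : End K W) := by
    have : Commute (U : End K W) x := h1
    exact (this.units_inv_left).eq
  have h4 : ((U⁻¹ : (End K W)ˣ) : End K W) * xi = xi * ((U⁻¹ : (End K W)ˣ) : End K W) := by
    have : Commute (U : End K W) xi := h2
    exact (this.units_inv_left).eq
  have h5 := h.mul_mul h3 h4 (one_mul x |>.trans (mul_one x).symm) (one_mul xi |>.trans (mul_one xi).symm)
  rwa [mul_one, ← mul_assoc, Units.inv_mul, one_mul] at h5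

end SumTrace

section Tr

variable {M : Ideal AlgInt} [hM : M.IsPrime] (O : ValuationSubring ℂ)

local notation "kk" => (localRing M ⧸ localIdeal M)
local notation "κ" => (IsLocalRing.ResidueField O)

variable {G : Type*} [Group G] [Fintype G] {N : ℕ} (A : G →* Matrix (Fin N) (Fin N) O) {C : Subgroup G} [Fintype C]
  (hRO : ∀ z, MemLocalRing M z → z ∈ O) (hIO : ∀ z, MemLocalIdeal M z → z ∈ O.nonunits)
  {f : Set (IrrCharacter C)} {a : MonoidAlgebra (localRing M) C} {p : ℕ} [hp : Fact p.Prime]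

variable {x t : G} {T₁ : Subgroup G} {B' : Set (IrrCharacter G)} {e m q : ℕ} {φ : MulAut C} {hxC : x ∈ C}
  {ι w : MonoidAlgebra (localRing M ⧸ localIdeal M) C} {n : ℕ}
  {u v : Fin n → MonoidAlgebra (localRing M ⧸ localIdeal M) C} {τ : localRing M ⧸ localIdeal M} {s : ℕ}
  {P : Polynomial (localRing M ⧸ localIdeal M)}
  {w' : MonoidAlgebra (localRing M) C} {τ' : localRing M}

lemma ThO_of (h : C) : ThO O A C hRO (MonoidAlgebra.of _ C h) = A h := by
  have e : MonoidAlgebra.of (localRing M) C h = MonoidAlgebra.single h 1 := rfl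
  rw [e, ThO_single, map_one, one_smul]

lemma ThO_conj {g : G} {φ : MulAut C} (hφ : ∀ h : C, (φ h : G) = g * h * g⁻¹) (y : MonoidAlgebra (localRing M) C) :
    A g * ThO O A C hRO y * A g⁻¹ = ThO O A C hRO (dAut (localRing M) φ y) := by
  induction y using MonoidAlgebra.induction_on with
  | of h =>
    have e : MonoidAlgebra.of (localRing M) C h = MonoidAlgebra.single h 1 := rfl
    rw [e, dAut_single, ThO_single, ThO_single, map_one, one_smul, one_smul, ← map_mul, ← map_mul, hφ]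
  | add x y hx hy =>
    rw [map_add, map_add, map_add, mul_add, add_mul, hx, hy]
  | smul c x hx =>
    rw [ThO_smul, map_smul, ThO_smul, mul_smul_comm, smul_mul_assoc, hx]

variable (L : Loc (M := M) p x t C T₁ f B' a e m q)
  (K : Pk (M := M) (p := p) (x := x) (t := t) (f := f) a e q φ hxC ι w u v τ s P w' τ')

variable {R : G →* Matrix (Fin N) (Fin N) ℂ} {B : Matrix (Fin N) (Fin N) ℂ}

include L K in
/-- **The relative trace of the power of the generator.** -/
theorem Loc.exists_scalar_trace [CharP κ p] (hdet : B.det ≠ 0)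
    (hA : ∀ g, (A g).map (Subtype.val : O → ℂ) = B⁻¹ * R g * B)
    (hirr : ∀ v : Fin N → ℂ, v ≠ 0 → Submodule.span ℂ (Set.range fun g => R g *ᵥ v) = ⊤) (hN : 0 < N) :
    ∃ c : κ, IsTrX (rhoK O A x) (rhoK O A x⁻¹) p
      (c • Lam O A C hRO hIO ι - Lam O A C hRO hIO w ^ e * Lam O A C hRO hIO ι) := by
  have hS := K.S
  have he1 : 1 ≤ e := L.he
  set Λ := Lam O A C hRO hIO with hΛ
  set y := w' ^ e with hy
  have hycl : IsClassFunction C (iota C M y).coeff := by
    rw [hy, map_pow]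
    exact isClassFunction_pow' K.hw'c e
  have hyp : piR C M y = w ^ e := by
    rw [hy, map_pow, K.hw'p]
  have hycen : ∀ r, y * r = r * y := by
    intro r
    apply iota_injective
    rw [map_mul, map_mul]
    exact mul_comm_of_isClassFunction hycl _
  have hyφ : dAut (localRing M) φ y = y := by
    rw [hy, map_pow, K.hw'φ, smul_pow, K.hτ'e, one_smul]
  set Y := ThO O A C hRO y with hY
  have hYC : ∀ c ∈ C, Y * A c = A c * Y := by
    intro c hc
    rw [← ThO_of O A hRO (⟨c, hc⟩ : C), hY, ← map_mul, ← map_mul, hycen]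
  have hYt : Y * A t = A t * Y := by
    have h1 := ThO_conj O A hRO K.hφ y
    rw [hyφ] at h1
    calc Y * A t = A t * Y * A t⁻¹ * A t := by rw [hY, h1]
      _ = A t * Y * (A t⁻¹ * A t) := by simp only [mul_assoc]
      _ = _ := by rw [A_inv_mul, mul_one]
  have hYT : ∀ g ∈ T₁, Y * A g = A g * Y := by
    intro g hg
    obtain ⟨i, c, hc, rfl⟩ := L.hTt g hg
    have h3 : Commute Y (A t ^ i) := (show Commute Y (A t) from hYt).pow_right i
    rw [map_mul, map_pow, ← mul_assoc, h3.eq, mul_assoc, hYC c hc, mul_assoc]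
  obtain ⟨c, hc⟩ := relTr_scalar O A T₁ hdet hA hirr hN hYT
  have hredY : redEnd O Y = Λ (w ^ e) := by
    rw [hY, redEnd_ThO O A C hRO hIO, hyp]
  rw [hredY] at hc
  have hΛe : Λ (piR C M a) * Λ (piR C M a) = Λ (piR C M a) := by
    rw [← map_mul, hS.ee]
  have htr := isTrX_relTr_sub (rhoK O A) (T := T₁) (E := Λ (piR C M a)) (a := Λ (w ^ e)) L.ox hp.out L.x_T hΛe
    (fun g hg => Loc.fixed_of_mem O A hRO hIO L K hg)
    (fun g hg hgn => Loc.green_h1 O A hRO hIO L g hg hgn)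
    (fun g hg hgn => Loc.green_h2 O A hRO hIO L g hg hgn)
    (fun g hg => by
      have h1 := congrArg (redEnd O) (hYT g hg)
      rwa [map_mul, map_mul, redEnd_A, hredY] at h1)
    (by rw [← map_mul, hS.e_pow e he1])
    (by rw [← map_mul, ← hS.ec, hS.e_pow e he1])
  rw [hc, mul_smul_comm, smul_mul_assoc, mul_one, hΛe] at htr
  refine ⟨c, ?_⟩
  have hCen : ∀ y, rhoK O A x * Λ y = Λ y * rhoK O A x :=
    rho_central O A C L.x_mem L.x_central (hRO := hRO) (hIO := hIO)
  have hCen' : ∀ y, rhoK O A x⁻¹ * Λ y = Λ y * rhoK O A x⁻¹ := by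
    intro y
    calc rhoK O A x⁻¹ * Λ y
        = rhoK O A x⁻¹ * Λ y * (rhoK O A x * rhoK O A x⁻¹) := by rw [rho_mul_inv, mul_one]
      _ = rhoK O A x⁻¹ * (Λ y * rhoK O A x) * rhoK O A x⁻¹ := by simp only [mul_assoc]
      _ = rhoK O A x⁻¹ * (rhoK O A x * Λ y) * rhoK O A x⁻¹ := by rw [hCen]
      _ = _ := by rw [← mul_assoc (rhoK O A x⁻¹), rho_inv_mul, one_mul]
  have h5 := htr.mul_mul (a := Λ ι) (b := Λ ι) (hCen _).symm (hCen' _).symm (hCen _).symm (hCen' _).symm
  have e1 : Λ ι * (c • Λ (piR C M a) - Λ (w ^ e)) * Λ ι = c • Λ ι - Λ w ^ e * Λ ι := by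
    rw [mul_sub, sub_mul, mul_smul_comm, smul_mul_assoc, ← map_mul, ← map_mul, ← map_mul, ← map_mul, ← map_pow]
    rw [show ι * piR C M a = ι from by rw [← hS.ec, hS.eι], hS.ιι, ← hS.cw' e ι, mul_assoc, hS.ιι, map_mul]
  rwa [e1] at h5

include L K in
/-- **The bound for the non-free part of the Jordan form**, from the relative trace. -/
theorem Loc.le_of_trace [CharP κ p] [IsAlgClosed κ] (hdet : B.det ≠ 0)
    (hA : ∀ g, (A g).map (Subtype.val : O → ℂ) = B⁻¹ * R g * B)
    (hirr : ∀ v : Fin N → ℂ, v ≠ 0 → Submodule.span ℂ (Set.range fun g => R g *ᵥ v) = ⊤) (hN : 0 < N)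
    {Lc : ℕ} (hLc : Lc < q) (hF : ∀ c, c < p → IsTrX (rhoK O A x) (rhoK O A x⁻¹) p
      (Lam O A C hRO hIO w ^ c * Lam O A C hRO hIO ι) → Lc ≤ c ∨ q ≤ Lc + c) :
    Lc ≤ e ∨ q ≤ Lc + e := by
  obtain ⟨c, hc⟩ := Loc.exists_scalar_trace O A hRO hIO L K hdet hA hirr hN
  by_cases hc0 : c = 0
  · have h1 : IsTrX (rhoK O A x) (rhoK O A x⁻¹) p (Lam O A C hRO hIO w ^ e * Lam O A C hRO hIO ι) := by
      have := hc.neg
      rw [hc0, zero_smul, zero_sub, neg_neg] at this
      exact this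
    exact hF e L.hep h1
  · have hZ : IsNilpotent (Lam O A C hRO hIO w) := ⟨q, by rw [← map_pow, K.S.wq, map_zero]⟩
    have hZx : Lam O A C hRO hIO w * rhoK O A x = rhoK O A x * Lam O A C hRO hIO w :=
      (rho_central O A C L.x_mem L.x_central (hRO := hRO) (hIO := hIO) w).symm
    have hZxi : Lam O A C hRO hIO w * rhoK O A x⁻¹ = rhoK O A x⁻¹ * Lam O A C hRO hIO w := by
      calc Lam O A C hRO hIO w * rhoK O A x⁻¹
          = (rhoK O A x⁻¹ * rhoK O A x) * Lam O A C hRO hIO w * rhoK O A x⁻¹ := by rw [rho_inv_mul, one_mul]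
        _ = rhoK O A x⁻¹ * (rhoK O A x * Lam O A C hRO hIO w) * rhoK O A x⁻¹ := by simp only [mul_assoc]
        _ = rhoK O A x⁻¹ * (Lam O A C hRO hIO w * rhoK O A x) * rhoK O A x⁻¹ := by rw [hZx]
        _ = _ := by rw [mul_assoc, mul_assoc, rho_mul_inv, mul_one]
    have he1 : e ≠ 0 := L.he.ne'
    have h1 : IsTrX (rhoK O A x) (rhoK O A x⁻¹) p (Lam O A C hRO hIO ι) := by
      refine isTrX_of_poly hZ hZx hZxi (Polynomial.C c - Polynomial.X ^ e) ?_ ?_
      · simp [Polynomial.coeff_X_pow, Ne.symm he1, hc0]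
      · have e1 : Polynomial.aeval (Lam O A C hRO hIO w) (Polynomial.C c - Polynomial.X ^ e) * Lam O A C hRO hIO ι =
            c • Lam O A C hRO hIO ι - Lam O A C hRO hIO w ^ e * Lam O A C hRO hIO ι := by
          simp [sub_mul, Algebra.algebraMap_eq_smul_one]
        rw [e1]
        exact hc
    have h2 := hF 0 (hp.out.pos) (by simpa using h1)
    rcases h2 with h2 | h2
    · left
      omega
    · omega

end Tr

end Cfsg.Agent.Lib.Dade
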