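import Mathlib
import Cfsg.Agent.Lib.Dade.DD

/-!
# Characters outside the block have trivial Jordan part
-/

set_option autoImplicit false
set_option linter.unusedSectionVars false
set_option linter.style.haveILetI false

namespace Cfsg.Agent.Lib.Dade

open Module Matrix Cfsg Cfsg.Agent.Lib.Blocks.Local Cfsg.Agent.Lib.Blocks.Central Cfsg.Agent.Lib.Blocks.Osima
open Cfsg.Agent.Lib.Blocks.ModBlock Cfsg.Agent.Lib.DefectOne

section Units

variable {M : Ideal AlgInt} [hM : M.IsPrime] (O : ValuationSubring ℂ)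

/-- A nonunit of the valuation ring in the local ring lies in the local ideal. -/
lemma memLocalIdeal_of_nonunit (hRO : ∀ z, MemLocalRing M z → z ∈ O) {z : ℂ} (hz : MemLocalRing M z)
    (hn : z ∈ O.nonunits) : MemLocalIdeal M z := by
  by_contra hne
  have h1 : (⟨z, hz⟩ : localRing M) ∉ localIdeal M := hne
  obtain ⟨u, hu⟩ := (isUnit_iff_not_mem _).2 h1
  have h2 : ((u⁻¹ : (localRing M)ˣ) : localRing M).1 ∈ O := hRO _ ((u⁻¹ : (localRing M)ˣ) : localRing M).2
  have h3 : z * ((u⁻¹ : (localRing M)ˣ) : localRing M).1 = 1 := by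
    have h4 : ((u : localRing M) * ((u⁻¹ : (localRing M)ˣ) : localRing M)) = 1 := u.mul_inv
    rw [hu] at h4
    exact congrArg Subtype.val h4
  have h5 := (ValuationSubring.mem_nonunits_iff _).1 hn
  have h6 : O.valuation (z * ((u⁻¹ : (localRing M)ˣ) : localRing M).1) < 1 := by
    rw [map_mul]
    exact lt_of_le_of_lt (mul_le_of_le_one_right' ((O.valuation_le_one_iff _).2 h2)) h5
  rw [h3, map_one] at h6
  exact lt_irrefl _ h6

end Units

section ClassSum

variable {M : Ideal AlgInt} [hM : M.IsPrime] (O : ValuationSubring ℂ)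

local notation "kk" => (localRing M ⧸ localIdeal M)
local notation "κ" => (IsLocalRing.ResidueField O)

variable {G : Type*} [Group G] [Fintype G] {N : ℕ} (A : G →* Matrix (Fin N) (Fin N) O)

variable {R : G →* Matrix (Fin N) (Fin N) ℂ} {B : Matrix (Fin N) (Fin N) ℂ}

open Classical in
/-- The class sum acts as a scalar, namely the central character. -/
theorem classSum_scalar (hdet : B.det ≠ 0) (hA : ∀ g, (A g).map (Subtype.val : O → ℂ) = B⁻¹ * R g * B)
    (hirr : ∀ v : Fin N → ℂ, v ≠ 0 → Submodule.span ℂ (Set.range fun g => R g *ᵥ v) = ⊤) (hN : 0 < N)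
    {χ : G → ℂ} (hχ : IsClassFunction G χ) (hχ1 : χ 1 = N) (htr : ∀ g, χ g = (R g).trace) (g₀ : G) :
    ∃ c : O, (c : ℂ) = centralChar χ g₀ ∧
      ∑ g, (if IsConj g₀ g then (1 : O) else 0) • A g = c • (1 : Matrix (Fin N) (Fin N) O) := by
  set S : Matrix (Fin N) (Fin N) O := ∑ g, (if IsConj g₀ g then (1 : O) else 0) • A g with hS
  have hcomm : ∀ h, S * A h = A h * S := by
    intro h
    have h1 : A h * S * A h⁻¹ = S := by
      rw [hS, Finset.mul_sum, Finset.sum_mul]
      have h2 : ∀ g, A h * ((if IsConj g₀ g then (1 : O) else 0) • A g) * A h⁻¹ =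
          (if IsConj g₀ (h * g * h⁻¹) then (1 : O) else 0) • A (h * g * h⁻¹) := by
          intro g
          have h3 : IsConj g₀ (h * g * h⁻¹) ↔ IsConj g₀ g := by
            constructor
            · intro h4
              exact h4.trans (isConj_comm.1 (isConj_iff.2 ⟨h, rfl⟩))
            · intro h4
              exact h4.trans (isConj_iff.2 ⟨h, rfl⟩)
          simp only [h3]
          rw [mul_smul_comm, smul_mul_assoc, map_mul, map_mul]
      rw [Finset.sum_congr rfl fun g _ => h2 g]
      exact Equiv.sum_comp (MulAut.conj h).toEquiv (fun g => (if IsConj g₀ g then (1 : O) else 0) • A g)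
    calc S * A h = (A h * S * A h⁻¹) * A h := by rw [h1]
      _ = A h * S * (A h⁻¹ * A h) := by simp only [mul_assoc]
      _ = _ := by rw [A_inv_mul, mul_one]
  obtain ⟨c, hc⟩ := scalar_of_comm_O O A hdet hA hirr hN hcomm
  refine ⟨c, ?_, hc⟩
  have hBu : IsUnit B.det := isUnit_iff_ne_zero.2 hdet
  have hB2 : B * B⁻¹ = 1 := Matrix.mul_nonsing_inv _ hBu
  let φ : O →+* ℂ := O.subtype
  have hφ : ∀ X : Matrix (Fin N) (Fin N) O, φ.mapMatrix X = X.map (Subtype.val : O → ℂ) := fun _ => rfl
  have hmap : S.map (Subtype.val : O → ℂ) = ∑ g, (if IsConj g₀ g then (1 : ℂ) else 0) • (B⁻¹ * R g * B) := by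
    rw [← hφ, hS, map_sum]
    refine Finset.sum_congr rfl fun g _ => ?_
    rw [← hA, ← hφ]
    by_cases hg : IsConj g₀ g
    · rw [if_pos hg, if_pos hg, one_smul, one_smul]
    · rw [if_neg hg, if_neg hg, zero_smul, zero_smul, map_zero]
  have htrS : (S.map (Subtype.val : O → ℂ)).trace = (c : ℂ) * N := by
    rw [hc]
    have : (c • (1 : Matrix (Fin N) (Fin N) O)).map (Subtype.val : O → ℂ) = (c : ℂ) • (1 : Matrix (Fin N) (Fin N) ℂ) := by
      ext i j
      simp [Matrix.one_apply]
      split_ifs <;> simp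
    rw [this]
    simp [Matrix.trace_smul, Matrix.trace_one]
  have htrS' : (S.map (Subtype.val : O → ℂ)).trace = ∑ g, (if IsConj g₀ g then (1 : ℂ) else 0) * χ g := by
    rw [hmap, Matrix.trace_sum]
    refine Finset.sum_congr rfl fun g _ => ?_
    rw [Matrix.trace_smul, smul_eq_mul, htr g, mul_assoc, Matrix.trace_mul_comm, mul_assoc, hB2, mul_one]
  have hN' : (N : ℂ) ≠ 0 := by exact_mod_cast hN.ne'
  have h1 := omega_classSum hχ g₀
  rw [classSum, omega_ofFun, hχ1, ← htrS', htrS, mul_div_assoc, div_self hN', mul_one] at h1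
  exact h1

end ClassSum

section Tr

variable {M : Ideal AlgInt} [hM : M.IsPrime] (O : ValuationSubring ℂ)

local notation "kk" => (localRing M ⧸ localIdeal M)
local notation "κ" => (IsLocalRing.ResidueField O)

variable {G : Type*} [Group G] [Fintype G] {N : ℕ} (A : G →* Matrix (Fin N) (Fin N) O) {C : Subgroup G} [Fintype C]
  (hRO : ∀ z, MemLocalRing M z → z ∈ O) (hIO : ∀ z, MemLocalIdeal M z → z ∈ O.nonunits)
  {f : Set (IrrCharacter C)} {a : MonoidAlgebra (localRing M) C} {p : ℕ} [hp : Fact p.Prime]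

variable {x t : G} {T₁ : Subgroup G} {B' : Set (IrrCharacter G)} {e m q : ℕ} {φ : MulAut C} {hxC : x ∈ C}
  {ι w : MonoidAlgebra (localRing M ⧸ localIdeal M) C} {n : ℕ}
  {u v : Fin n → MonoidAlgebra (localRing M ⧸ localIdeal M) C} {τ : localRing M ⧸ localIdeal M} {s : ℕ}
  {P : Polynomial (localRing M ⧸ localIdeal M)}
  {w' : MonoidAlgebra (localRing M) C} {τ' : localRing M}

open Classical in
/-- The part of a class sum in a subgroup. -/
noncomputable def classPart (C : Subgroup G) [Fintype C] (M : Ideal AlgInt) [hM : M.IsPrime] (g₀ : G) :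
    MonoidAlgebra (localRing M) C :=
  ∑ h : C, if IsConj g₀ (h : G) then MonoidAlgebra.single h 1 else 0

open Classical in
lemma coeff_classPart (g₀ : G) (h : C) :
    (classPart C M g₀).coeff h = if IsConj g₀ (h : G) then 1 else 0 := by
  unfold classPart
  rw [MonoidAlgebra.coeff_sum, Finset.sum_apply', Finset.sum_eq_single h]
  · by_cases hh : IsConj g₀ (h : G)
    · rw [if_pos hh, if_pos hh]
      simp
    · rw [if_neg hh, if_neg hh]
      simp
  · intro b _ hb
    by_cases hh : IsConj g₀ (b : G)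
    · rw [if_pos hh]
      simp [Finsupp.single_apply, hb]
    · rw [if_neg hh]
      simp
  · simp

open Classical in
lemma coeff_iota_classPart (g₀ : G) (h : C) :
    (iota C M (classPart C M g₀)).coeff h = if IsConj g₀ (h : G) then 1 else 0 := by
  rw [coeff_iota, coeff_classPart]
  split_ifs <;> rfl

lemma isClass_classPart (g₀ : G) : IsClassFunction C (iota C M (classPart C M g₀)).coeff := by
  classical
  intro g h
  rw [coeff_iota_classPart, coeff_iota_classPart]
  have h3 : IsConj g₀ ((h * g * h⁻¹ : C) : G) ↔ IsConj g₀ (g : G) := by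
    constructor
    · intro h4
      refine h4.trans (isConj_comm.1 (isConj_iff.2 ⟨h, ?_⟩))
      simp
    · intro h4
      refine h4.trans (isConj_iff.2 ⟨h, ?_⟩)
      simp
  simp only [h3]

lemma omega_classPart (g₀ : G) (ψ : IrrCharacter C) :
    omega (ψ : C → ℂ) (iota C M (classPart C M g₀)) = inducedCentralChar C (ψ : C → ℂ) g₀ := by
  classical
  rw [omega, inducedCentralChar, finsum_mem_eq_finite_toFinset_sum _ (Set.toFinite _), Finset.sum_div]
  rw [← Finset.sum_filter_add_sum_filter_not Finset.univ (fun h : C => IsConj g₀ (h : G))]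
  have h2 : ∑ h ∈ Finset.univ.filter (fun h : C => ¬ IsConj g₀ (h : G)),
      (iota C M (classPart C M g₀)).coeff h * (ψ : C → ℂ) h / (ψ : C → ℂ) 1 = 0 := by
    refine Finset.sum_eq_zero fun h hh => ?_
    rw [coeff_iota_classPart, if_neg (Finset.mem_filter.1 hh).2, zero_mul, zero_div]
  rw [h2, add_zero]
  have hF : (Set.toFinite {h : C | IsConj g₀ (h : G)}).toFinset = Finset.univ.filter (fun h : C => IsConj g₀ (h : G)) := by
    ext
    simp
  rw [hF]
  refine Finset.sum_congr rfl fun h hh => ?_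
  rw [coeff_iota_classPart, if_pos (Finset.mem_filter.1 hh).2, one_mul]

variable (L : Loc (M := M) p x t C T₁ f B' a e m q)
  (K : Pk (M := M) (p := p) (x := x) (t := t) (f := f) a e q φ hxC ι w u v τ s P w' τ')

variable {R : G →* Matrix (Fin N) (Fin N) ℂ} {B : Matrix (Fin N) (Fin N) ℂ}

open Classical in
include L in
/-- The difference between a class sum and its part in the centralizer is a trace. -/
theorem Loc.classSum_trace [CharP κ p] (g₀ : G) :
    ∃ β, (∑ g, (if IsConj g₀ g then (1 : κ) else 0) • rhoK O A g) - Lam O A C hRO hIO (piR C M (classPart C M g₀))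
      = trX (rhoK O A x) (rhoK O A x⁻¹) p β := by
  set c : G → κ := fun g => if IsConj g₀ g ∧ g ∉ C then 1 else 0 with hc
  obtain ⟨β, hβ⟩ := sum_is_trace (rhoK O A) L.ox c
    (fun z hz => by
      have hzC : z ∈ C := (L.hC z).2 hz
      simp only [hc, hzC, not_true_eq_false, and_false, if_false])
    (fun u hu z => by
      have hu' : u ∈ C := by
        obtain ⟨i, rfl⟩ := Subgroup.mem_zpowers_iff.1 hu
        exact C.zpow_mem L.x_mem i
      have h3 : IsConj g₀ (u * z * u⁻¹) ↔ IsConj g₀ z := by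
        constructor
        · intro h4
          exact h4.trans (isConj_comm.1 (isConj_iff.2 ⟨u, rfl⟩))
        · intro h4
          exact h4.trans (isConj_iff.2 ⟨u, rfl⟩)
      have h4 : u * z * u⁻¹ ∈ C ↔ z ∈ C := by
        constructor
        · intro h5
          have h6 := C.mul_mem (C.mul_mem (C.inv_mem hu') h5) hu'
          simpa [mul_assoc] using h6
        · intro h5
          exact C.mul_mem (C.mul_mem hu' h5) (C.inv_mem hu')
      simp only [hc, h3, h4])
  refine ⟨β, ?_⟩
  rw [← hβ]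
  have h1 : Lam O A C hRO hIO (piR C M (classPart C M g₀)) =
      ∑ h : C, (if IsConj g₀ (h : G) then (1 : κ) else 0) • rhoK O A (h : G) := by
    unfold classPart
    rw [map_sum, map_sum]
    refine Finset.sum_congr rfl fun h _ => ?_
    by_cases hh : IsConj g₀ (h : G)
    · rw [if_pos hh, if_pos hh, one_smul, piR_single, Lam_single, map_one, one_smul]
    · rw [if_neg hh, if_neg hh, zero_smul, map_zero, map_zero]
  rw [h1, sub_eq_iff_eq_add]
  have h2 : ∑ h : C, (if IsConj g₀ (h : G) then (1 : κ) else 0) • rhoK O A (h : G) =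
      ∑ g, (if g ∈ C then (if IsConj g₀ g then (1 : κ) else 0) • rhoK O A g else 0) := by
    rw [← Finset.sum_filter]
    exact (Finset.sum_subtype _ (fun g => by simp) (fun g => (if IsConj g₀ g then (1 : κ) else 0) • rhoK O A g)).symm
  rw [h2, ← Finset.sum_add_distrib]
  refine Finset.sum_congr rfl fun g _ => ?_
  by_cases hg : g ∈ C
  · simp only [hc, hg, if_true, not_true_eq_false, and_false, if_false, zero_smul, zero_add]
  · simp only [hc, hg, if_false, not_false_eq_true, and_true, add_zero]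

open Classical in
include L K in
/-- **Outside the block, the idempotent is a trace.** -/
theorem Loc.trace_of_not_block [CharP κ p] (hdet : B.det ≠ 0)
    (hA : ∀ g, (A g).map (Subtype.val : O → ℂ) = B⁻¹ * R g * B)
    (hirr : ∀ v : Fin N → ℂ, v ≠ 0 → Submodule.span ℂ (Set.range fun g => R g *ᵥ v) = ⊤) (hN : 0 < N)
    {χ : IrrCharacter G} (hχ1 : (χ : G → ℂ) 1 = N) (htr : ∀ g, (χ : G → ℂ) g = (R g).trace) (hχB : χ ∉ B') :
    IsTrX (rhoK O A x) (rhoK O A x⁻¹) p (Lam O A C hRO hIO ι) := by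
  have hS := K.S
  obtain ⟨χ₂, hχ₂⟩ := L.hind.2.1
  obtain ⟨ψ₀', hψ₀'⟩ := L.hind.1
  have hψf : ψ₀' ∈ f := by
    rw [hψ₀']
    exact sameBlock_refl (M := M) _
  have hχ₂B : χ₂ ∈ B' := by
    rw [hχ₂]
    exact sameBlock_refl (M := M) _
  obtain ⟨g₀, hg₀⟩ : ∃ g₀, ¬ MemLocalIdeal M (inducedCentralChar C (ψ₀' : C → ℂ) g₀ - centralChar (χ : G → ℂ) g₀) := by
    by_contra hall
    push Not at hall
    apply hχB
    rw [hχ₂]
    intro g
    have h1 := L.hind.2.2 ψ₀' hψf χ₂ hχ₂B g
    have h2 := memLocalIdeal_sub (hall g) h1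
    have e : inducedCentralChar C (ψ₀' : C → ℂ) g - centralChar (χ : G → ℂ) g -
        (inducedCentralChar C (ψ₀' : C → ℂ) g - centralChar (χ₂ : G → ℂ) g) =
        centralChar (χ₂ : G → ℂ) g - centralChar (χ : G → ℂ) g := by ring
    rwa [e] at h2
  obtain ⟨cO, hcO, hS₀⟩ := classSum_scalar O A hdet hA hirr hN (isClassFunction_of_irr χ.2) hχ1 htr g₀
  set c := IsLocalRing.residue O cO with hc
  set y₀ := classPart C M g₀ with hy₀
  set Λ := Lam O A C hRO hIO with hΛ
  have hred : c • (1 : End κ (Fin N → κ)) = ∑ g, (if IsConj g₀ g then (1 : κ) else 0) • rhoK O A g := by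
    have h1 := congrArg (redEnd O) hS₀
    rw [redEnd_smul, map_one, map_sum] at h1
    rw [← h1]
    refine Finset.sum_congr rfl fun g _ => ?_
    rw [redEnd_smul, redEnd_A]
    by_cases hh : IsConj g₀ g
    · rw [if_pos hh, if_pos hh, map_one]
    · rw [if_neg hh, if_neg hh, map_zero]
  obtain ⟨β, hβ⟩ := Loc.classSum_trace O A hRO hIO L g₀
  rw [← hred] at hβ
  have hTr : IsTrX (rhoK O A x) (rhoK O A x⁻¹) p (c • (1 : End κ (Fin N → κ)) - Λ (piR C M y₀)) := ⟨β, hβ⟩
  have hCen : ∀ y, rhoK O A x * Λ y = Λ y * rhoK O A x :=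
    rho_central O A C L.x_mem L.x_central (hRO := hRO) (hIO := hIO)
  have hCen' : ∀ y, rhoK O A x⁻¹ * Λ y = Λ y * rhoK O A x⁻¹ := by
    intro y
    calc rhoK O A x⁻¹ * Λ y
        = rhoK O A x⁻¹ * Λ y * (rhoK O A x * rhoK O A x⁻¹) := by rw [rho_mul_inv, mul_one]
      _ = rhoK O A x⁻¹ * (Λ y * rhoK O A x) * rhoK O A x⁻¹ := by simp only [mul_assoc]
      _ = rhoK O A x⁻¹ * (rhoK O A x * Λ y) * rhoK O A x⁻¹ := by rw [hCen]
      _ = _ := by rw [← mul_assoc (rhoK O A x⁻¹), rho_inv_mul, one_mul]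
  have h5 := hTr.mul_mul (a := Λ ι) (b := Λ ι) (hCen _).symm (hCen' _).symm (hCen _).symm (hCen' _).symm
  have hycl : IsClassFunction C (iota C M y₀).coeff := isClass_classPart g₀
  have hcen := piR_central hycl
  have haa : a * a = a := lift_mul_self L.ha
  -- the polynomial
  obtain ⟨Q, hQ⟩ := hS.cpoly (piR C M a * piR C M y₀) (by rw [← mul_assoc, hS.ee]) (fun r => by
    rw [mul_assoc, hcen r, ← mul_assoc, hS.ec r, mul_assoc])
  have hz : ∀ r, (piR C M a * piR C M y₀) * r = r * (piR C M a * piR C M y₀) := fun r => by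
    rw [mul_assoc, hcen r, ← mul_assoc, hS.ec r, mul_assoc]
  have h6 : ι * piR C M y₀ * ι = Polynomial.aeval w Q * ι := by
    have h7 : piR C M y₀ * ι = (piR C M a * piR C M y₀) * ι := by
      rw [hS.ec, mul_assoc, hS.eι]
    rw [mul_assoc, h7, ← mul_assoc, ← hz ι, mul_assoc, hS.ιι, hQ, mul_assoc, hS.eι]
  have e1 : Λ ι * (c • (1 : End κ (Fin N → κ)) - Λ (piR C M y₀)) * Λ ι =
      Polynomial.aeval (Λ w) (Polynomial.C c - Q.map (jRes O hRO hIO)) * Λ ι := by
    rw [mul_sub, sub_mul, mul_smul_comm, smul_mul_assoc, mul_one, ← map_mul, hS.ιι, ← map_mul, ← map_mul, h6, map_mul]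
    rw [map_sub, sub_mul, Polynomial.aeval_C, Algebra.algebraMap_eq_smul_one, smul_mul_assoc, one_mul, Lam_aeval]
  rw [e1] at h5
  have hZ : IsNilpotent (Λ w) := ⟨q, by rw [← map_pow, hS.wq, map_zero]⟩
  have hZx : Λ w * rhoK O A x = rhoK O A x * Λ w := (hCen w).symm
  have hZxi : Λ w * rhoK O A x⁻¹ = rhoK O A x⁻¹ * Λ w := (hCen' w).symm
  refine isTrX_of_poly hZ hZx hZxi _ ?_ h5
  rw [Polynomial.coeff_sub, Polynomial.coeff_C_zero, Polynomial.coeff_map]
  intro hne
  obtain ⟨qt, hqt⟩ := residue_surjective (M := M) (Q.coeff 0)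
  -- the local statement for `c`
  have hcq : MemLocalIdeal M (centralChar (χ : G → ℂ) g₀ - (qt : ℂ)) := by
    apply memLocalIdeal_of_nonunit O hRO
    · rw [sub_eq_add_neg]
      exact (localRing M).add_mem (memLocalRing_centralChar χ.2 g₀) ((localRing M).neg_mem qt.2)
    · rw [← hqt, jRes_residue, sub_eq_zero, hc] at hne
      have h8 : IsLocalRing.residue O (cO - locToO O hRO qt) = 0 := by
        rw [map_sub, hne, sub_self]
      rw [IsLocalRing.residue_eq_zero_iff, ValuationSubring.valuation_lt_one_iff] at h8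
      rw [ValuationSubring.mem_nonunits_iff, ← hcO]
      exact h8
  -- the local statement for the induced block
  set y₁ := a * y₀ - qt • a with hy₁
  have hi : iota C M y₁ = blockElt f * iota C M y₀ - (qt : ℂ) • blockElt f := by
    rw [hy₁, map_sub, iota_smul, map_mul, L.ha]
  have hicl : IsClassFunction C (iota C M y₁).coeff := by
    rw [hi]
    intro g r
    simp only [MonoidAlgebra.coeff_sub, Finsupp.sub_apply]
    rw [isClassFunction_mul (isClassFunction_blockElt f) hycl g r, isClassFunction_smul _ (isClassFunction_blockElt f) g r]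
  have hp1 : piR C M y₁ = w * (Polynomial.aeval w Q.divX * piR C M a) := by
    have hQQ : Polynomial.aeval w Q = Polynomial.aeval w Q.divX * w + (Q.coeff 0) • (1 : MonoidAlgebra kk C) := by
      conv_lhs => rw [← Polynomial.divX_mul_X_add Q]
      rw [map_add, map_mul, Polynomial.aeval_X, Polynomial.aeval_C, Algebra.algebraMap_eq_smul_one]
    rw [hy₁, map_sub, map_mul, hQ, piR_smul, hqt, hQQ, add_mul, smul_mul_assoc, one_mul, add_sub_cancel_right, mul_assoc,
      ← hS.ec w, ← mul_assoc, hS.cw (Polynomial.aeval w Q.divX * piR C M a)]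
  have hnil : piR C M y₁ ^ q = 0 := by
    rw [hp1, (show Commute w (Polynomial.aeval w Q.divX * piR C M a) from hS.cw _).mul_pow, hS.wq, zero_mul]
  have hom := memLocalIdeal_omega_lift hicl hnil ψ₀'
  rw [hi, omega_sub, omega_smul, omega_mul ψ₀'.2 (isClassFunction_blockElt f), omega_blockElt_of_mem hψf, one_mul, mul_one, omega_classPart] at hom
  apply hg₀
  have h9 := memLocalIdeal_sub hom hcq
  have e9 : inducedCentralChar C (ψ₀' : C → ℂ) g₀ - (qt : ℂ) - (centralChar (χ : G → ℂ) g₀ - (qt : ℂ)) =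
      inducedCentralChar C (ψ₀' : C → ℂ) g₀ - centralChar (χ : G → ℂ) g₀ := by ring
  rwa [e9] at h9

end Tr

end Cfsg.Agent.Lib.Dade
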