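import Mathlib
import Cfsg.Agent.Lib.Dade.DE
import Cfsg.Agent.Lib.DefectOne.SimpleDim

/-!
# The multiplicities of the characters of the block in the restriction of a character
-/

set_option autoImplicit false
set_option linter.unusedSectionVars false
set_option linter.style.haveILetI false

namespace Cfsg.Agent.Lib.Dade

open Module Matrix Cfsg Cfsg.Agent.Lib.Blocks.Local Cfsg.Agent.Lib.Blocks.Central Cfsg.Agent.Lib.Blocks.Osima
open Cfsg.Agent.Lib.Blocks.ModBlock Cfsg.Agent.Lib.DefectOne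

section Rank

variable {M : Ideal AlgInt} [hM : M.IsPrime] (O : ValuationSubring ℂ)

local notation "kk" => (localRing M ⧸ localIdeal M)
local notation "κ" => (IsLocalRing.ResidueField O)

variable {G : Type*} [Group G] [Fintype G] {N : ℕ} (A : G →* Matrix (Fin N) (Fin N) O) {C : Subgroup G} [Fintype C]
  (hRO : ∀ z, MemLocalRing M z → z ∈ O) (hIO : ∀ z, MemLocalIdeal M z → z ∈ O.nonunits)
  {f : Set (IrrCharacter C)} {a : MonoidAlgebra (localRing M) C}
  {R : G →* Matrix (Fin N) (Fin N) ℂ} {B : Matrix (Fin N) (Fin N) ℂ}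
  {χ : G → ℂ}

/-- Reduction preserves the rank of a block idempotent. -/
theorem rank_block_eq (hdet : B.det ≠ 0) (hA : ∀ g, (A g).map (Subtype.val : O → ℂ) = B⁻¹ * R g * B)
    (ha : iota C M a = blockElt f) :
    finrank κ (LinearMap.range (Lam O A C hRO hIO (piR C M a))) = (ThC C R (blockElt f)).rank := by
  apply le_antisymm
  · have h1 := rank_Lam_le O A C hRO hIO hdet hA a
    rwa [ha] at h1
  · set E := Lam O A C hRO hIO (piR C M a) with hE
    set X := ThC C R (blockElt f) with hX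
    have hXX : X * X = X := by
      rw [hX, ← map_mul, blockElt_mul_self]
    have h3 := rank_one_sub_add hXX
    have h4 : (⊤ : Submodule κ (Fin N → κ)) ≤ LinearMap.range E ⊔ LinearMap.range (1 - E) := by
      intro v _
      have h5 : v = E v + (1 - E) v := by simp
      rw [h5]
      exact Submodule.add_mem_sup (LinearMap.mem_range_self _ _) (LinearMap.mem_range_self _ _)
    have h6 := Submodule.finrank_mono h4
    have h7 := Submodule.finrank_add_le_finrank_add_finrank (LinearMap.range E) (LinearMap.range (1 - E))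
    rw [finrank_top, finrank_pi, Fintype.card_fin] at h6
    have h8 := rank_Lam_le O A C hRO hIO hdet hA (1 - a)
    rw [map_sub (piR C M), map_sub (Lam O A C hRO hIO), map_one, map_one, map_sub (iota C M), map_one, ha, map_sub (ThC C R),
      map_one, ← hE, ← hX] at h8
    omega

open Classical in
/-- The rank of a multiple of the block idempotent. -/
theorem rank_z_le {ι w : MonoidAlgebra kk C} {n q : ℕ} {u v : Fin n → MonoidAlgebra kk C}
    (hdet : B.det ≠ 0) (hA : ∀ g, (A g).map (Subtype.val : O → ℂ) = B⁻¹ * R g * B)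
    (hχ : IsCharacter G χ) (htr : ∀ g, (R g).trace = χ g)
    (ha : iota C M a = blockElt f) (S : BStr (k := kk) (piR C M a) ι w u v q)
    {w' : MonoidAlgebra (localRing M) C} (hw : piR C M w' = w) (hcl : IsClassFunction C (iota C M w').coeff)
    (T : Finset (IrrCharacter C)) :
    finrank κ (LinearMap.range (Lam O A C hRO hIO w ^ T.card * Lam O A C hRO hIO (piR C M a))) ≤
      ∑ ψ ∈ Finset.univ.filter (· ∈ f \ (T : Set (IrrCharacter C))), charDegree (ψ : C → ℂ) * mult C χ ψ := by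
  obtain ⟨z, hz1, hz2, hz3, hz4⟩ := exists_zS ha S hw hcl T
  have h1 : iota C M z = blockElt (f \ (T : Set (IrrCharacter C))) * iota C M z := by
    refine eq_of_omega_eq' hz2 (isClassFunction_mul (isClassFunction_blockElt _) hz2) fun ψ => ?_
    rw [omega_mul ψ.2 (isClassFunction_blockElt _)]
    by_cases h : ψ ∈ f \ (T : Set (IrrCharacter C))
    · rw [omega_blockElt_of_mem h, one_mul]
    · rw [omega_blockElt_of_notMem h, zero_mul]
      by_cases hf : ψ ∈ f
      · have hT : ψ ∈ T := by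
          by_contra hn
          exact h ⟨hf, hn⟩
        rw [hz4 ψ hf]
        exact Finset.prod_eq_zero hT (sub_self _)
      · exact omega_lift_of_notMem ha hz1 hf
  have h2 := rank_Lam_le O A C hRO hIO hdet hA z
  rw [hz3, map_mul, map_pow] at h2
  refine h2.trans ?_
  have h3 : (ThC C R (blockElt (f \ (T : Set (IrrCharacter C))))).rank =
      ∑ ψ ∈ Finset.univ.filter (· ∈ f \ (T : Set (IrrCharacter C))), charDegree (ψ : C → ℂ) * mult C χ ψ := by
    convert rank_ThC_blockElt C hχ htr (f \ (T : Set (IrrCharacter C)))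
  refine le_trans ?_ (le_of_eq h3)
  conv_lhs => rw [h1, map_mul]
  exact Matrix.rank_mul_le_left _ _

end Rank

section Main

variable {M : Ideal AlgInt} [hM : M.IsPrime] {G : Type*} [Group G] [Fintype G] {C : Subgroup G} [Fintype C]
  {f : Set (IrrCharacter C)} {a : MonoidAlgebra (localRing M) C} {p : ℕ} [hp : Fact p.Prime]

local notation "kk" => (localRing M ⧸ localIdeal M)

variable {x t : G} {T₁ : Subgroup G} {B' : Set (IrrCharacter G)} {e m q : ℕ} {φ : MulAut C} {hxC : x ∈ C}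
  {ι w : MonoidAlgebra (localRing M ⧸ localIdeal M) C} {n : ℕ}
  {u v : Fin n → MonoidAlgebra (localRing M ⧸ localIdeal M) C} {τ : localRing M ⧸ localIdeal M} {s : ℕ}
  {P : Polynomial (localRing M ⧸ localIdeal M)}
  {w' : MonoidAlgebra (localRing M) C} {τ' : localRing M}

/-- The arithmetic of the multiplicities. -/
lemma mult_arith {α : Type*} [DecidableEq α] (F : Finset α) (mm : α → ℕ) {q A Lc : ℕ} (hcard : F.card = q) (hLc : Lc < q) (hq : 2 ≤ q)
    (hsum : ∑ ψ ∈ F, mm ψ = q * A + Lc)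
    (hle : ∀ T ⊆ F, (q - T.card) * A + (Lc - T.card) ≤ ∑ ψ ∈ F \ T, mm ψ) :
    (∀ ψ ∈ F, mm ψ = A ∨ mm ψ = A + 1) ∧ (F.filter (fun ψ => mm ψ = A + 1)).card = Lc ∧ (Lc = 0 → ∀ ψ ∈ F, mm ψ = A) := by
  have hlow : ∀ ψ ∈ F, A ≤ mm ψ := by
    intro ψ hψ
    have h1 := hle (F.erase ψ) (Finset.erase_subset _ _)
    rw [Finset.card_erase_of_mem hψ, hcard] at h1
    have h2 : F \ F.erase ψ = {ψ} := by
      ext y
      simp only [Finset.mem_sdiff, Finset.mem_erase, Finset.mem_singleton]
      constructor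
      · rintro ⟨h3, h4⟩
        by_contra h5
        exact h4 ⟨h5, h3⟩
      · rintro rfl
        exact ⟨hψ, fun h => h.1 rfl⟩
    rw [h2, Finset.sum_singleton] at h1
    have h3 : q - (q - 1) = 1 := by omega
    rw [h3, one_mul] at h1
    omega
  have hup : ∀ ψ ∈ F, mm ψ + (Lc - 1) ≤ A + Lc := by
    intro ψ hψ
    have h1 := hle {ψ} (by simpa using hψ)
    rw [Finset.card_singleton] at h1
    have h2 : ∑ y ∈ F \ {ψ}, mm y + mm ψ = ∑ y ∈ F, mm y := by
      rw [← Finset.sum_sdiff (s₁ := {ψ}) (s₂ := F) (by simpa using hψ), Finset.sum_singleton]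
    rw [hsum] at h2
    have h3 : q * A = (q - 1) * A + A := by
      conv_lhs => rw [show q = q - 1 + 1 by omega, add_mul, one_mul]
    omega
  have hval : ∀ ψ ∈ F, mm ψ = A ∨ mm ψ = A + 1 := by
    intro ψ hψ
    have h1 := hlow ψ hψ
    have h2 := hup ψ hψ
    omega
  refine ⟨hval, ?_, ?_⟩
  · have h1 : ∑ ψ ∈ F, mm ψ = ∑ ψ ∈ F, (A + if mm ψ = A + 1 then 1 else 0) := by
      refine Finset.sum_congr rfl fun ψ hψ => ?_
      rcases hval ψ hψ with h | h
      · rw [if_neg (by omega), h, add_zero]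
      · rw [if_pos h, h]
    rw [Finset.sum_add_distrib, Finset.sum_const, hcard, smul_eq_mul, hsum] at h1
    have h2 : ∑ ψ ∈ F, (if mm ψ = A + 1 then 1 else 0) = (F.filter (fun ψ => mm ψ = A + 1)).card := by
      rw [Finset.card_filter]
    omega
  · intro h0 ψ hψ
    have h1 := hlow ψ hψ
    have h2 := hup ψ hψ
    omega

variable (L : Loc (M := M) p x t C T₁ f B' a e m q)
  (K : Pk (M := M) (p := p) (x := x) (t := t) (f := f) a e q φ hxC ι w u v τ s P w' τ')

open Classical in
include L K in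
/-- **The structure of the multiplicities.** -/
theorem mult_structure (χ : IrrCharacter G) :
    ∃ A Lc : ℕ, Lc < q ∧ (∀ ψ ∈ f, mult C (χ : G → ℂ) ψ = A ∨ mult C (χ : G → ℂ) ψ = A + 1) ∧
      (Finset.univ.filter (fun ψ => ψ ∈ f ∧ mult C (χ : G → ℂ) ψ = A + 1)).card = Lc ∧
      (Lc ≤ e ∨ q ≤ Lc + e) ∧ (χ ∉ B' → Lc = 0) := by
  have hMp := L.hMp
  have hmax : M.IsMaximal := hMp.2.1
  obtain ⟨N, R, hN, hχ1, htr, hirr⟩ := exists_irr_matrix χ.2
  obtain ⟨O, hOint, hRO, hIO⟩ := exists_val_M (M := M) hmax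
  have hOp : (p : ℂ) ∈ O.nonunits := hIO _ (memLocalIdeal_natCast_self hMp)
  haveI : IsAlgClosed (IsLocalRing.ResidueField O) := isAlgClosed_residue_val O
  haveI : CharP (IsLocalRing.ResidueField O) p := Cfsg.Agent.Lib.DefectOne.charP_residue O p hOp
  obtain ⟨B, A, hdet, hA, hFit⟩ := exists_fit_form O R hirr hN
  have hFit' := hFit_end O A hFit
  have hsetup := Loc.setup O A hRO hIO L K
  obtain ⟨A', Lc, hLc, hrk, hF⟩ := jordan_final hsetup (fun π hπ => Loc.dich O A hRO hIO L K hFit' π hπ) K.hs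
  have hS := K.S
  have hn := K.hn
  have hcharχ := Cfsg.Agent.Lib.Char.Basic.isCharacter_of_isIrrCharacter χ.2
  set F := Finset.univ.filter (· ∈ f) with hFdef
  have hcard : F.card = q := K.hcard
  have hdeg : ∀ ψ ∈ F, charDegree (ψ : C → ℂ) = n := fun ψ hψ => K.hdeg ψ (Finset.mem_filter.1 hψ).2
  have hrke : ∀ d, d ≤ q → finrank (IsLocalRing.ResidueField O)
      (LinearMap.range (Lam O A C hRO hIO w ^ d * Lam O A C hRO hIO (piR C M a))) = n * ((q - d) * A' + (Lc - d)) :=
    fun d hd => (rank_e_eq hS (Lam O A C hRO hIO) d).trans (by rw [hrk d hd])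
  have hsum : ∑ ψ ∈ F, mult C (χ : G → ℂ) ψ = q * A' + Lc := by
    have h1 := rank_block_eq O A hRO hIO hdet hA L.ha
    rw [rank_ThC_blockElt C hcharχ htr] at h1
    have h2 := hrke 0 (Nat.zero_le _)
    rw [pow_zero, one_mul, h1, Finset.sum_congr rfl (fun ψ hψ => by rw [hdeg ψ hψ]), ← Finset.mul_sum] at h2
    simpa using Nat.eq_of_mul_eq_mul_left hn h2
  have hle : ∀ T ⊆ F, (q - T.card) * A' + (Lc - T.card) ≤ ∑ ψ ∈ F \ T, mult C (χ : G → ℂ) ψ := by
    intro T hT
    have h1 := rank_z_le O A hRO hIO hdet hA hcharχ htr L.ha hS K.hw'p K.hw'c T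
    have hTq : T.card ≤ q := by
      rw [← hcard]
      exact Finset.card_le_card hT
    rw [hrke _ hTq] at h1
    have h2 : Finset.univ.filter (· ∈ f \ (T : Set (IrrCharacter C))) = F \ T := by
      ext ψ
      simp [hFdef]
    rw [h2, Finset.sum_congr rfl (fun ψ hψ => by rw [hdeg ψ (Finset.mem_sdiff.1 hψ).1]), ← Finset.mul_sum] at h1
    exact Nat.le_of_mul_le_mul_left h1 hn
  obtain ⟨h1, h2, h3⟩ := mult_arith F (fun ψ => mult C (χ : G → ℂ) ψ) hcard hLc hS.hq hsum hle
  refine ⟨A', Lc, hLc, fun ψ hψ => h1 ψ (Finset.mem_filter.2 ⟨Finset.mem_univ _, hψ⟩), ?_, ?_, ?_⟩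
  · rw [← h2, hFdef, Finset.filter_filter]
  · exact Loc.le_of_trace O A hRO hIO L K hdet hA hirr hN hLc hF
  · intro hχB
    have h4 := Loc.trace_of_not_block O A hRO hIO L K hdet hA hirr hN hχ1 (fun g => (htr g).symm) hχB
    have h5 := hF 0 hp.out.pos (by simpa using h4)
    omega

end Main

end Cfsg.Agent.Lib.Dade
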