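import Mathlib
import Cfsg.Agent.Lib.Dade.DF

/-!
# The action of the inertial group on the characters of the block
-/

set_option autoImplicit false
set_option linter.unusedSectionVars false
set_option linter.style.haveILetI false

namespace Cfsg.Agent.Lib.Dade

open Module Matrix Cfsg Cfsg.Agent.Lib.Blocks.Local Cfsg.Agent.Lib.Blocks.Central Cfsg.Agent.Lib.Blocks.Osima
open Cfsg.Agent.Lib.Blocks.ModBlock Cfsg.Agent.Lib.DefectOne Cfsg.Agent.Lib.Blocks.Transport

section PermDef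

variable {H : Type*} [Group H]

/-- The permutation of the irreducible characters given by an automorphism. -/
noncomputable def irrPerm (φ : H ≃* H) : Equiv.Perm (IrrCharacter H) where
  toFun := irrComap φ
  invFun := irrComap φ.symm
  left_inv := irrComap_symm_irrComap φ
  right_inv := irrComap_irrComap_symm φ

@[simp] lemma irrPerm_apply (φ : H ≃* H) (ψ : IrrCharacter H) : irrPerm φ ψ = irrComap φ ψ := rfl

lemma irrPerm_pow_apply (φ : H ≃* H) (j : ℕ) (ψ : IrrCharacter H) (h : H) :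
    (((irrPerm φ) ^ j) ψ : H → ℂ) h = (ψ : H → ℂ) ((φ ^ j) h) := by
  induction j generalizing h with
  | zero => simp
  | succ j ih =>
    rw [pow_succ', Equiv.Perm.mul_apply, irrPerm_apply, coe_irrComap, ih, pow_succ]
    rfl

end PermDef

section Orbit

variable {M : Ideal AlgInt} [hM : M.IsPrime] {G : Type*} [Group G] [Fintype G] {C : Subgroup G} [Fintype C]
  {f : Set (IrrCharacter C)} {a : MonoidAlgebra (localRing M) C} {p : ℕ} [hp : Fact p.Prime]

local notation "kk" => (localRing M ⧸ localIdeal M)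
local notation "RR" => (localRing M)

variable {x t : G} {T₁ : Subgroup G} {B' : Set (IrrCharacter G)} {e m q : ℕ} {φ : MulAut C} {hxC : x ∈ C}
  {ι w : MonoidAlgebra (localRing M ⧸ localIdeal M) C} {n : ℕ}
  {u v : Fin n → MonoidAlgebra (localRing M ⧸ localIdeal M) C} {τ : localRing M ⧸ localIdeal M} {s : ℕ}
  {P : Polynomial (localRing M ⧸ localIdeal M)}
  {w' : MonoidAlgebra (localRing M) C} {τ' : localRing M}

variable (L : Loc (M := M) p x t C T₁ f B' a e m q)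
  (K : Pk (M := M) (p := p) (x := x) (t := t) (f := f) a e q φ hxC ι w u v τ s P w' τ')

include L K

/-- The automorphism fixes the block idempotent. -/
lemma Pk.dAut_a : dAut (localRing M) φ a = a := by
  obtain ⟨φ', h1, h2⟩ := L.hstab t L.htT
  have : φ' = φ := by
    ext h
    rw [h1, K.hφ]
  rwa [this] at h2

/-- The permutation stabilizes the block. -/
lemma Pk.stable {ψ : IrrCharacter C} (hψ : ψ ∈ f) : irrPerm φ ψ ∈ f := by
  by_contra hn
  have h1 := omega_irrComap φ ψ (blockElt f)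
  have h2 : dAut ℂ φ (blockElt f) = blockElt f := by
    rw [← L.ha, ← iota_dAut, Pk.dAut_a L K]
  rw [h2, omega_blockElt_of_mem hψ] at h1
  rw [irrPerm_apply] at hn
  rw [omega_blockElt_of_notMem hn] at h1
  exact zero_ne_one h1

/-- The eigenvalue. -/
lemma Pk.alpha_pow (ψ : IrrCharacter C) (j : ℕ) :
    omega (((irrPerm φ) ^ j) ψ : C → ℂ) (iota C M w') = (τ' : ℂ) ^ j * omega (ψ : C → ℂ) (iota C M w') := by
  induction j with
  | zero => simp
  | succ j ih =>
    rw [pow_succ', Equiv.Perm.mul_apply, irrPerm_apply, alpha_comap φ K.hw'φ, ih, pow_succ']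
    ring

lemma Pk.stable_pow {ψ : IrrCharacter C} (hψ : ψ ∈ f) (j : ℕ) : ((irrPerm φ) ^ j) ψ ∈ f := by
  induction j with
  | zero => simpa using hψ
  | succ j ih =>
    rw [pow_succ', Equiv.Perm.mul_apply]
    exact Pk.stable L K ih

/-- The injectivity of the eigenvalues. -/
lemma Pk.alpha_inj : Set.InjOn (fun ψ : IrrCharacter C => omega (ψ : C → ℂ) (iota C M w')) f :=
  alpha_injOn L.ha K.S K.hcard K.hw'p K.hw'c

/-- The `e`-th power acts trivially. -/
lemma Pk.pow_e {ψ : IrrCharacter C} (hψ : ψ ∈ f) : ((irrPerm φ) ^ e) ψ = ψ := by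
  apply Pk.alpha_inj L K (Pk.stable_pow L K hψ e) hψ
  show omega (((irrPerm φ) ^ e) ψ : C → ℂ) (iota C M w') = _
  rw [Pk.alpha_pow L K]
  have : (τ' : ℂ) ^ e = 1 := by
    have := congrArg Subtype.val K.hτ'e
    simpa using this
  rw [this, one_mul]

/-- The fixed points of powers. -/
lemma Pk.dvd_of_fixed {ψ : IrrCharacter C} (hα : omega (ψ : C → ℂ) (iota C M w') ≠ 0) {j : ℕ}
    (h : ((irrPerm φ) ^ j) ψ = ψ) : e ∣ j := by
  have h1 := Pk.alpha_pow L K ψ j
  rw [h] at h1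
  have h2 : (τ' : ℂ) ^ j = 1 := by
    have h3 : ((τ' : ℂ) ^ j - 1) * omega (ψ : C → ℂ) (iota C M w') = 0 := by
      rw [sub_mul, one_mul, ← h1, sub_self]
    rcases mul_eq_zero.1 h3 with h4 | h4
    · exact sub_eq_zero.1 h4
    · exact absurd h4 hα
  have h5 : τ' ^ j = 1 := by
    apply Subtype.ext
    simpa using h2
  have h6 : τ ^ j = 1 := by
    rw [← K.hτ'r, ← map_pow, h5, map_one]
  exact (K.hτ j).1 h6

open Classical in
/-- **The structure of the action on the block.** -/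
theorem Pk.orbit_structure (heq : e ∣ q - 1) :
    ∃ (ψ₀ : IrrCharacter C) (R : Finset (IrrCharacter C)), ψ₀ ∈ f ∧ irrPerm φ ψ₀ = ψ₀ ∧ (∀ r ∈ R, r ∈ f) ∧ ψ₀ ∉ R ∧
      R.card * e = q - 1 ∧ (∀ ψ ∈ f, ψ ≠ ψ₀ → ∃ r ∈ R, ∃ j < e, ((irrPerm φ) ^ j) r = ψ) ∧
      (∀ r ∈ R, ∀ r' ∈ R, ∀ j : ℕ, ((irrPerm φ) ^ j) r = r' → r = r') ∧
      (∀ ψ ∈ f, ψ ≠ ψ₀ → ∀ j : ℕ, ((irrPerm φ) ^ j) ψ = ψ → e ∣ j) := by
  set σ := irrPerm φ with hσ
  set F := Finset.univ.filter (· ∈ f) with hF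
  have hcard : F.card = q := K.hcard
  have hq2 := K.S.hq
  have he := L.he
  -- the distinguished character
  obtain ⟨ψ₀, hψ₀, hfix, hrest⟩ : ∃ ψ₀ ∈ f, σ ψ₀ = ψ₀ ∧ ∀ ψ ∈ f, ψ ≠ ψ₀ → ∀ j : ℕ, (σ ^ j) ψ = ψ → e ∣ j := by
    by_cases h0 : ∃ ψ₀ ∈ f, omega (ψ₀ : C → ℂ) (iota C M w') = 0
    · obtain ⟨ψ₀, hψ₀, hα⟩ := h0
      refine ⟨ψ₀, hψ₀, ?_, ?_⟩
      · apply Pk.alpha_inj L K (Pk.stable L K hψ₀) hψ₀
        show omega (irrPerm φ ψ₀ : C → ℂ) (iota C M w') = _
        rw [irrPerm_apply, alpha_comap φ K.hw'φ, hα, mul_zero]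
        exact hα.symm
      · intro ψ hψ hne j hj
        refine Pk.dvd_of_fixed L K (fun hα' => hne ?_) hj
        exact Pk.alpha_inj L K hψ hψ₀ (hα'.trans hα.symm)
    · push Not at h0
      -- then `e` divides the number of characters, so `e = 1`
      obtain ⟨R, -, hRc, -, -⟩ := exists_orbit_reps_iter σ he F
        (fun y hy => by
          have := Pk.stable L K (Finset.mem_filter.1 hy).2
          exact Finset.mem_filter.2 ⟨Finset.mem_univ _, this⟩)
        (fun y hy => Pk.pow_e L K (Finset.mem_filter.1 hy).2)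
        (fun y hy j hj => Pk.dvd_of_fixed L K (h0 y (Finset.mem_filter.1 hy).2) hj)
      have h1 : e ∣ q := ⟨R.card, by rw [← hcard, ← hRc, mul_comm]⟩
      have h2 : e ∣ 1 := by
        have h3 := (Nat.dvd_sub h1 heq)
        have h4 : q - (q - 1) = 1 := by omega
        rwa [h4] at h3
      have he1 : e = 1 := Nat.dvd_one.1 h2
      have h3 : F.Nonempty := by
        rw [← Finset.card_pos]
        omega
      obtain ⟨ψ₀, hψ₀⟩ := h3
      have hψ₀' := (Finset.mem_filter.1 hψ₀).2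
      refine ⟨ψ₀, hψ₀', ?_, ?_⟩
      · have := Pk.pow_e L K hψ₀'
        rwa [he1, pow_one] at this
      · intro ψ _ _ j _
        rw [he1]
        exact one_dvd _
  -- representatives
  set Y := F.erase ψ₀ with hY
  have hψ₀F : ψ₀ ∈ F := Finset.mem_filter.2 ⟨Finset.mem_univ _, hψ₀⟩
  have hYc : Y.card = q - 1 := by rw [hY, Finset.card_erase_of_mem hψ₀F, hcard]
  have hYm : ∀ y ∈ Y, y ∈ f ∧ y ≠ ψ₀ := fun y hy =>
    ⟨(Finset.mem_filter.1 (Finset.mem_of_mem_erase hy)).2, Finset.ne_of_mem_erase hy⟩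
  obtain ⟨R, hRY, hRc, hRcover, hRuniq⟩ := exists_orbit_reps_iter σ he Y
    (fun y hy => by
      obtain ⟨h1, h2⟩ := hYm y hy
      refine Finset.mem_erase.2 ⟨fun h3 => h2 ?_, Finset.mem_filter.2 ⟨Finset.mem_univ _, Pk.stable L K h1⟩⟩
      rw [← hfix] at h3
      exact σ.injective h3)
    (fun y hy => Pk.pow_e L K (hYm y hy).1)
    (fun y hy j hj => hrest y (hYm y hy).1 (hYm y hy).2 j hj)
  refine ⟨ψ₀, R, hψ₀, hfix, fun r hr => (hYm r (hRY hr)).1, fun h => (hYm _ (hRY h)).2 rfl, ?_, ?_, hRuniq, hrest⟩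
  · rw [hRc, hYc]
  · intro ψ hψ hne
    exact hRcover ψ (Finset.mem_erase.2 ⟨hne, Finset.mem_filter.2 ⟨Finset.mem_univ _, hψ⟩⟩)

end Orbit

end Cfsg.Agent.Lib.Dade
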