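import Mathlib

/-!
# A combinatorial lemma on integer matrices with prescribed rows
-/

set_option autoImplicit false
set_option linter.unusedSectionVars false
set_option linter.style.haveILetI false

namespace Cfsg.Agent.Lib.Dade

section Comb

variable {X α : Type*} [Fintype X] [DecidableEq X] [DecidableEq α]

/-- The possible shapes of a row. -/
def IsRow (R : Finset α) (v : α → ℤ) : Prop :=
  (∀ r ∈ R, v r = 0) ∨ (∃ ε : ℤ, (ε = 1 ∨ ε = -1) ∧ ∀ r ∈ R, v r = ε) ∨
    ∃ ε : ℤ, (ε = 1 ∨ ε = -1) ∧ ∃ j ∈ R, ∀ r ∈ R, v r = if r = j then ε else 0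

/-- The structure of a matrix with prescribed rows and Gram matrix. -/
theorem rows_comb (R : Finset α) (hR : R.Nonempty) (v : X → α → ℤ) (hrow : ∀ χ, IsRow R (v χ)) {e : ℕ} (he : 0 < e)
    (hgram : ∀ r ∈ R, ∀ r' ∈ R, ∑ χ, v χ r * v χ r' = (e : ℤ) + if r = r' then 1 else 0) :
    ∃ (XX : Finset X) (y : α → X) (s : X → ℤ), XX.card = e ∧ (∀ χ ∈ XX, (s χ = 1 ∨ s χ = -1) ∧ ∀ r ∈ R, v χ r = s χ) ∧
      (∀ r ∈ R, y r ∉ XX ∧ (s (y r) = 1 ∨ s (y r) = -1) ∧ ∀ r' ∈ R, v (y r) r' = if r' = r then s (y r) else 0) ∧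
      Set.InjOn y R ∧ (∀ χ, χ ∉ XX → (∀ r ∈ R, y r ≠ χ) → ∀ r ∈ R, v χ r = 0) := by
  classical
  have hs : ∀ χ, ∃ ε : ℤ, (ε = 1 ∨ ε = -1) ∧ ((∀ r ∈ R, v χ r = 0) ∨ (∀ r ∈ R, v χ r = ε) ∨
      ∃ j ∈ R, ∀ r ∈ R, v χ r = if r = j then ε else 0) := by
    intro χ
    rcases hrow χ with h | ⟨ε, h1, h⟩ | ⟨ε, h1, h⟩
    · exact ⟨1, Or.inl rfl, Or.inl h⟩
    · exact ⟨ε, h1, Or.inr (Or.inl h)⟩
    · exact ⟨ε, h1, Or.inr (Or.inr h)⟩
  choose s hs1 hs2 using hs
  have hs0 : ∀ χ, s χ ≠ 0 := fun χ h => by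
    rcases hs1 χ with h1 | h1 <;> omega
  have hss : ∀ χ, s χ * s χ = 1 := fun χ => by
    rcases hs1 χ with h1 | h1 <;> rw [h1] <;> norm_num
  by_cases hcard : R.card = 1
  · obtain ⟨r₀, rfl⟩ := Finset.card_eq_one.1 hcard
    have hval : ∀ χ, v χ r₀ = 0 ∨ v χ r₀ = s χ := by
      intro χ
      rcases hs2 χ with h | h | ⟨j, hj, h⟩
      · exact Or.inl (h r₀ (Finset.mem_singleton_self _))
      · exact Or.inr (h r₀ (Finset.mem_singleton_self _))
      · have hj' : j = r₀ := Finset.mem_singleton.1 hj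
        rw [hj'] at h
        right
        rw [h r₀ (Finset.mem_singleton_self _), if_pos rfl]
    set NZ := Finset.univ.filter (fun χ => v χ r₀ ≠ 0) with hNZ
    have hsum := hgram r₀ (Finset.mem_singleton_self _) r₀ (Finset.mem_singleton_self _)
    rw [if_pos rfl] at hsum
    have h1 : ∑ χ, v χ r₀ * v χ r₀ = (NZ.card : ℤ) := by
      rw [hNZ, Finset.card_filter]
      push_cast
      refine Finset.sum_congr rfl fun χ _ => ?_
      rcases hval χ with h | h
      · rw [h]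
        simp
      · rw [h, hss, if_pos (hs0 χ)]
    rw [h1] at hsum
    have hNZc : NZ.card = e + 1 := by exact_mod_cast hsum
    obtain ⟨χ₁, hχ₁⟩ : NZ.Nonempty := by
      rw [← Finset.card_pos]
      omega
    have hχ₁' : v χ₁ r₀ ≠ 0 := (Finset.mem_filter.1 hχ₁).2
    have hvs : ∀ χ ∈ NZ, v χ r₀ = s χ := fun χ hχ => (hval χ).resolve_left (Finset.mem_filter.1 hχ).2
    refine ⟨NZ.erase χ₁, fun _ => χ₁, s, ?_, ?_, ?_, ?_, ?_⟩
    · rw [Finset.card_erase_of_mem hχ₁, hNZc]
      rfl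
    · intro χ hχ
      refine ⟨hs1 χ, fun r hr => ?_⟩
      rw [Finset.mem_singleton.1 hr]
      exact hvs χ (Finset.mem_of_mem_erase hχ)
    · intro r hr
      refine ⟨Finset.notMem_erase _ _, hs1 χ₁, fun r' hr' => ?_⟩
      rw [Finset.mem_singleton.1 hr', Finset.mem_singleton.1 hr, if_pos rfl]
      exact hvs χ₁ hχ₁
    · intro a ha b hb _
      have ha' : a ∈ ({r₀} : Finset α) := ha
      have hb' : b ∈ ({r₀} : Finset α) := hb
      rw [Finset.mem_singleton.1 ha', Finset.mem_singleton.1 hb']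
    · intro χ hχ hy r hr
      rw [Finset.mem_singleton.1 hr]
      by_contra hne
      have h2 : χ ∈ NZ := Finset.mem_filter.2 ⟨Finset.mem_univ _, hne⟩
      have h3 : χ ≠ χ₁ := fun h => hy r₀ (Finset.mem_singleton_self _) h.symm
      exact hχ (Finset.mem_erase.2 ⟨h3, h2⟩)
  · -- at least two elements
    have hcard2 : 1 < R.card := by
      have := Finset.card_pos.2 hR
      omega
    obtain ⟨r₁, hr₁, r₂, hr₂, hne⟩ := Finset.one_lt_card.1 hcard2
    set XX := Finset.univ.filter (fun χ => ∀ r ∈ R, v χ r = s χ) with hXX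
    have hXXm : ∀ χ, χ ∈ XX ↔ ∀ r ∈ R, v χ r = s χ := fun χ => by simp [hXX]
    -- the shape of rows outside `XX`
    have hshape : ∀ χ, χ ∉ XX → (∀ r ∈ R, v χ r = 0) ∨ ∃ j ∈ R, ∀ r ∈ R, v χ r = if r = j then s χ else 0 := by
      intro χ hχ
      rcases hs2 χ with h | h | h
      · exact Or.inl h
      · exact absurd ((hXXm χ).2 h) hχ
      · exact Or.inr h
    have hoff : ∀ χ, v χ r₁ * v χ r₂ = if χ ∈ XX then 1 else 0 := by
      intro χ
      by_cases hχ : χ ∈ XX
      · rw [if_pos hχ, (hXXm χ).1 hχ r₁ hr₁, (hXXm χ).1 hχ r₂ hr₂, hss]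
      · rw [if_neg hχ]
        rcases hshape χ hχ with h | ⟨j, -, h⟩
        · rw [h r₁ hr₁, zero_mul]
        · rw [h r₁ hr₁, h r₂ hr₂]
          by_cases h1 : r₁ = j
          · have h2 : r₂ ≠ j := fun h3 => hne (h1.trans h3.symm)
            rw [if_neg h2, mul_zero]
          · rw [if_neg h1, zero_mul]
    have hXXc : XX.card = e := by
      have h1 := hgram r₁ hr₁ r₂ hr₂
      rw [if_neg hne, add_zero, Finset.sum_congr rfl (fun χ _ => hoff χ), Finset.sum_boole] at h1
      have h2 : (Finset.univ.filter (fun χ => χ ∈ XX)) = XX := by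
        ext
        simp
      rw [h2] at h1
      exact_mod_cast h1
    -- the row for each element
    have hex : ∀ r ∈ R, ∃ χ, χ ∉ XX ∧ v χ r ≠ 0 ∧ ∀ χ', χ' ∉ XX → v χ' r ≠ 0 → χ' = χ := by
      intro r hr
      set Yr := Finset.univ.filter (fun χ => χ ∉ XX ∧ v χ r ≠ 0) with hYr
      have hdiag : ∀ χ, v χ r * v χ r = (if χ ∈ XX then 1 else 0) + (if χ ∈ Yr then 1 else 0) := by
        intro χ
        by_cases hχ : χ ∈ XX
        · have h2 : χ ∉ Yr := fun h => (Finset.mem_filter.1 h).2.1 hχ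
          rw [if_pos hχ, if_neg h2, (hXXm χ).1 hχ r hr, hss, add_zero]
        · rw [if_neg hχ, zero_add]
          by_cases h2 : v χ r = 0
          · have h3 : χ ∉ Yr := fun h => (Finset.mem_filter.1 h).2.2 h2
            rw [if_neg h3, h2, zero_mul]
          · have h3 : χ ∈ Yr := Finset.mem_filter.2 ⟨Finset.mem_univ _, hχ, h2⟩
            rw [if_pos h3]
            rcases hshape χ hχ with h | ⟨j, -, h⟩
            · exact absurd (h r hr) h2
            · have h4 := h r hr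
              by_cases h5 : r = j
              · rw [h4, if_pos h5, hss]
              · rw [if_neg h5] at h4
                exact absurd h4 h2
      have h1 := hgram r hr r hr
      rw [if_pos rfl, Finset.sum_congr rfl (fun χ _ => hdiag χ), Finset.sum_add_distrib, Finset.sum_boole,
        Finset.sum_boole] at h1
      have h2 : (Finset.univ.filter (fun χ => χ ∈ XX)) = XX := by
        ext
        simp
      have h3 : (Finset.univ.filter (fun χ => χ ∈ Yr)) = Yr := by
        ext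
        simp
      rw [h2, h3, hXXc] at h1
      have h4 : Yr.card = 1 := by
        have : ((Yr.card : ℕ) : ℤ) = 1 := by
          push_cast at h1
          linarith
        exact_mod_cast this
      obtain ⟨χ, hχ⟩ := Finset.card_eq_one.1 h4
      have hm : χ ∈ Yr := by
        rw [hχ]
        exact Finset.mem_singleton_self _
      obtain ⟨-, hm1, hm2⟩ := Finset.mem_filter.1 hm
      refine ⟨χ, hm1, hm2, fun χ' h5 h6 => ?_⟩
      have h7 : χ' ∈ Yr := Finset.mem_filter.2 ⟨Finset.mem_univ _, h5, h6⟩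
      rw [hχ] at h7
      exact Finset.mem_singleton.1 h7
    have hex' : ∀ r, ∃ χ, r ∈ R → χ ∉ XX ∧ v χ r ≠ 0 ∧ ∀ χ', χ' ∉ XX → v χ' r ≠ 0 → χ' = χ := by
      intro r
      by_cases hr : r ∈ R
      · obtain ⟨χ, h⟩ := hex r hr
        exact ⟨χ, fun _ => h⟩
      · obtain ⟨χ, _⟩ := hex r₁ hr₁
        exact ⟨χ, fun h => absurd h hr⟩
    choose y hy using hex'
    have hyv : ∀ r ∈ R, ∀ r' ∈ R, v (y r) r' = if r' = r then s (y r) else 0 := by
      intro r hr r' hr'
      obtain ⟨h1, h2, -⟩ := hy r hr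
      rcases hshape _ h1 with h | ⟨j, -, h⟩
      · exact absurd (h r hr) h2
      · have h3 : r = j := by
          by_contra h4
          rw [h r hr, if_neg h4] at h2
          exact h2 rfl
        rw [h r' hr', h3]
    refine ⟨XX, y, s, hXXc, fun χ hχ => ⟨hs1 χ, (hXXm χ).1 hχ⟩, fun r hr => ⟨(hy r hr).1, hs1 _, hyv r hr⟩, ?_, ?_⟩
    · intro a ha b hb hab
      have ha' : a ∈ R := ha
      have hb' : b ∈ R := hb
      have h1 := hyv a ha' b hb'
      rw [hab] at h1
      have h2 := (hy b hb').2.1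
      by_contra hne'
      rw [if_neg (fun h => hne' h.symm)] at h1
      exact h2 h1
    · intro χ hχ hyχ r hr
      by_contra hne'
      exact hyχ r hr ((hy r hr).2.2 χ hχ hne').symm

end Comb

end Cfsg.Agent.Lib.Dade
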