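import Mathlib
import Cfsg.Agent.Lib.Dade.DJ
import Cfsg.Agent.Lib.Blocks.Cartan
import Cfsg.Agent.Lib.Blocks.Pairs12
import Cfsg.Agent.Lib.Blocks.HeightZero
import Cfsg.Prelude.Def_BlockRank

/-!
# The kernel of the restriction to `p`-regular elements
-/

set_option autoImplicit false
set_option linter.unusedSectionVars false
set_option linter.style.haveILetI false

namespace Cfsg.Agent.Lib.Dade

open Module Cfsg Cfsg.Agent.Lib.Blocks.Regular Cfsg.Agent.Lib.Blocks.Cartan Cfsg.Agent.Lib.Char.Ortho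
open scoped ComplexConjugate

section Kernel

variable {G : Type*} [Group G] [Fintype G] {M : Ideal AlgInt} [hMp : M.IsPrime] {p : ℕ} [hp : Fact p.Prime]

open Classical in
/-- A combination of the characters of a block, orthogonal to the kernel of the restriction to the `p`-regular
elements, vanishes off the `p`-regular elements. -/
theorem vanish_of_orth (hM : IsPModular p M) {B : Set (IrrCharacter G)} (hB : IsPBlock M B)
    {ι' : Type*} (R : Finset ι') (c : ι' → IrrCharacter G → ℂ) (y : ι' → IrrCharacter G)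
    (hyB : ∀ j ∈ R, y j ∈ B) (hy : ∀ j ∈ R, c j (y j) ≠ 0 ∧ ∀ k ∈ R, k ≠ j → c k (y j) = 0)
    (hW : ∀ j ∈ R, ∀ g, ¬ p ∣ orderOf g → ∑ χ ∈ Finset.univ.filter (· ∈ B), c j χ * (χ : G → ℂ) g = 0)
    (hcount : Nat.card B = blockRank p B + R.card) (d : IrrCharacter G → ℂ)
    (hd : ∀ j ∈ R, ∑ χ ∈ Finset.univ.filter (· ∈ B), c j χ * conj (d χ) = 0) :
    ∀ g, p ∣ orderOf g → ∑ χ ∈ Finset.univ.filter (· ∈ B), d χ * (χ : G → ℂ) g = 0 := by
  set BF := Finset.univ.filter (· ∈ B) with hBF
  have hBFm : ∀ χ, χ ∈ BF ↔ χ ∈ B := fun χ => by simp [hBF]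
  let Φ : (↥BF → ℂ) →ₗ[ℂ] (G → ℂ) := Fintype.linearCombination ℂ (fun χ : ↥BF => reg p (χ.1 : G → ℂ))
  have hΦ : ∀ a : (↥BF → ℂ), ∀ g, Φ a g = ∑ χ : ↥BF, a χ * reg p (χ.1 : G → ℂ) g := by
    intro a g
    simp [Φ, Fintype.linearCombination_apply, Finset.sum_apply]
  have hrange : Module.finrank ℂ (LinearMap.range Φ) = blockRank p B := by
    rw [Fintype.range_linearCombination, blockRank]
    have hset : Set.range (fun χ : ↥BF => reg p (χ.1 : G → ℂ)) =
        (fun χ : IrrCharacter G => pRegularPart p (χ : G → ℂ)) '' B := by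
      ext f
      constructor
      · rintro ⟨χ, rfl⟩
        exact ⟨χ.1, (hBFm _).1 χ.2, pRegularPart_eq_reg p _⟩
      · rintro ⟨χ, hχ, rfl⟩
        exact ⟨⟨χ, (hBFm χ).2 hχ⟩, (pRegularPart_eq_reg p _).symm⟩
    rw [hset]
  have hrn := LinearMap.finrank_range_add_finrank_ker Φ
  have hcardE : Module.finrank ℂ (↥BF → ℂ) = Nat.card B := by
    rw [Module.finrank_fintype_fun_eq_card, Fintype.card_coe, Nat.card_eq_fintype_card, Fintype.card_subtype, hBF]
  have hker : Module.finrank ℂ (LinearMap.ker Φ) = R.card := by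
    rw [hrange, hcardE, hcount] at hrn
    omega
  let cv : ↥R → (↥BF → ℂ) := fun j χ => c j.1 χ.1
  have hcvker : ∀ j, cv j ∈ LinearMap.ker Φ := by
    intro j
    rw [LinearMap.mem_ker]
    funext g
    rw [hΦ]
    by_cases hg : p ∣ orderOf g
    · simp [reg_of_dvd _ hg]
    · simp only [reg_of_not_dvd _ hg, cv, Pi.zero_apply]
      rw [← hW j.1 j.2 g hg, hBF]
      exact Finset.sum_coe_sort _ (fun χ : IrrCharacter G => c j.1 χ * (χ : G → ℂ) g)
  have hindep : LinearIndependent ℂ cv := by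
    rw [Fintype.linearIndependent_iff]
    intro l hl j
    have h1 := congrFun hl ⟨y j.1, (hBFm _).2 (hyB j.1 j.2)⟩
    simp only [Finset.sum_apply, Pi.smul_apply, smul_eq_mul, cv, Pi.zero_apply] at h1
    rw [Finset.sum_eq_single j] at h1
    · exact (mul_eq_zero.1 h1).resolve_right (hy j.1 j.2).1
    · intro k _ hk
      rw [(hy j.1 j.2).2 k.1 k.2 (fun h => hk (Subtype.ext h)), mul_zero]
    · simp
  have hU : Submodule.span ℂ (Set.range cv) = LinearMap.ker Φ := by
    apply Submodule.eq_of_le_of_finrank_eq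
    · rw [Submodule.span_le]
      rintro _ ⟨j, rfl⟩
      exact hcvker j
    · rw [hker, finrank_span_eq_card hindep, Fintype.card_coe]
  -- the element
  let a : (↥BF → ℂ) := fun τ => d τ.1 - ∑ χ ∈ BF, d χ * classInner (reg p (χ : G → ℂ)) (τ.1 : G → ℂ)
  set h : G → ℂ := fun g => ∑ χ ∈ BF, d χ * (χ : G → ℂ) g with hh
  set r : G → ℂ := fun g => ∑ χ ∈ BF, d χ * reg p (χ : G → ℂ) g with hr
  set k : G → ℂ := fun g => h g - r g with hk
  have hka : ∀ g, k g = ∑ τ : ↥BF, a τ * (τ.1 : G → ℂ) g := by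
    intro g
    simp only [a, sub_mul, Finset.sum_sub_distrib]
    show h g - r g = _
    congr 1
    · rw [hh]
      exact (Finset.sum_coe_sort BF (fun τ : IrrCharacter G => d τ * (τ : G → ℂ) g)).symm
    · show ∑ χ ∈ BF, d χ * reg p (χ : G → ℂ) g = _
      have h1 : ∀ χ ∈ BF, d χ * reg p (χ : G → ℂ) g =
          ∑ τ : ↥BF, d χ * classInner (reg p (χ : G → ℂ)) (τ.1 : G → ℂ) * (τ.1 : G → ℂ) g := by
        intro χ hχ
        rw [reg_eq_sum_block hM hB ((hBFm χ).1 hχ) g, Finset.mul_sum]
        rw [← Finset.sum_coe_sort (Finset.univ.filter (· ∈ B))]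
        refine Finset.sum_congr rfl fun τ _ => ?_
        ring
      rw [Finset.sum_congr rfl h1, Finset.sum_comm]
      refine Finset.sum_congr rfl fun τ _ => ?_
      rw [Finset.sum_mul]
  have hreg0 : ∀ g, ¬ p ∣ orderOf g → k g = 0 := by
    intro g hg
    simp only [hk, hh, hr, reg_of_not_dvd _ hg, sub_self]
  have hsing0 : ∀ g, p ∣ orderOf g → r g = 0 := by
    intro g hg
    simp [hr, reg_of_dvd _ hg]
  have haker : a ∈ LinearMap.ker Φ := by
    rw [LinearMap.mem_ker]
    funext g
    rw [hΦ]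
    by_cases hg : p ∣ orderOf g
    · simp [reg_of_dvd _ hg]
    · simp only [reg_of_not_dvd _ hg, Pi.zero_apply]
      rw [← hka, hreg0 g hg]
  rw [← hU, Submodule.mem_span_range_iff_exists_fun] at haker
  obtain ⟨lam, hlam⟩ := haker
  -- the inner products
  have hkh : classInner k h = 0 := by
    have e1 : k = ∑ τ : ↥BF, a τ • (τ.1 : G → ℂ) := by
      funext g
      rw [hka, Finset.sum_apply]
      simp
    have e2 : h = ∑ χ ∈ BF, d χ • (χ : G → ℂ) := by
      funext g
      rw [Finset.sum_apply]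
      simp [hh]
    rw [e1, e2, classInner_sum_left]
    have h3 : ∀ τ : ↥BF, classInner (a τ • (τ.1 : G → ℂ)) (∑ χ ∈ BF, d χ • (χ : G → ℂ)) = a τ * conj (d τ.1) := by
      intro τ
      rw [classInner_sum_right, Finset.sum_eq_single τ.1]
      · rw [classInner_smul_left, classInner_smul_right, classInner_irr_self τ.1.2, mul_one]
      · intro b _ hb
        rw [classInner_smul_left, classInner_smul_right, classInner_irr_of_ne τ.1.2 b.2
          (fun he => hb (Subtype.ext he).symm), mul_zero, mul_zero]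
      · intro h4
        exact absurd τ.2 h4
    rw [Finset.sum_congr rfl fun τ _ => h3 τ]
    have h5 : ∀ τ : ↥BF, a τ = ∑ j : ↥R, lam j * c j.1 τ.1 := by
      intro τ
      rw [← hlam]
      simp [cv, Finset.sum_apply]
    simp_rw [h5, Finset.sum_mul]
    rw [Finset.sum_comm]
    refine Finset.sum_eq_zero fun j _ => ?_
    have h6 := hd j.1 j.2
    have h7 : ∑ τ : ↥BF, lam j * c j.1 τ.1 * conj (d τ.1) = lam j * ∑ τ : ↥BF, c j.1 τ.1 * conj (d τ.1) := by
      rw [Finset.mul_sum]
      refine Finset.sum_congr rfl fun τ _ => ?_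
      ring
    rw [h7, Finset.sum_coe_sort BF (fun τ : IrrCharacter G => c j.1 τ * conj (d τ)), h6, mul_zero]
  have hkr : classInner k r = 0 := by
    rw [classInner]
    rw [Finset.sum_eq_zero, mul_zero]
    intro g _
    by_cases hg : p ∣ orderOf g
    · rw [hsing0 g hg]
      simp
    · rw [hreg0 g hg, zero_mul]
  have hkk : classInner k k = 0 := by
    have e : classInner k k = classInner k h - classInner k r := by
      simp only [classInner]
      rw [← mul_sub, ← Finset.sum_sub_distrib]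
      congr 1
      refine Finset.sum_congr rfl fun g _ => ?_
      simp only [hk, map_sub]
      ring
    rw [e, hkh, hkr, sub_zero]
  have hk0 := eq_zero_of_classInner_self_eq_zero hkk
  intro g hg
  have h8 := congrFun hk0 g
  simp only [hk, Pi.zero_apply, hsing0 g hg, sub_zero] at h8
  exact h8

end Kernel

end Cfsg.Agent.Lib.Dade
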