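import Mathlib
import Cfsg.Agent.Lib.Dade.DK
import Cfsg.Agent.Lib.Char.Burnside2
import Cfsg.Agent.Lib.Blocks.RegInt

/-!
# The final character theoretic argument
-/

set_option autoImplicit false
set_option linter.unusedSectionVars false
set_option linter.style.haveILetI false

namespace Cfsg.Agent.Lib.Dade

open Module Cfsg Cfsg.Agent.Lib.Blocks.Regular Cfsg.Agent.Lib.Blocks.Cartan Cfsg.Agent.Lib.Char.Ortho
open scoped ComplexConjugate

section Dvd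

variable {G : Type*} [Group G] [Fintype G] {p : ℕ} [hp : Fact p.Prime]

/-- A virtual character vanishing on the `p`-singular elements has degree divisible by the `p`-part of the
order of the group. -/
theorem dvd_of_vanish (z : IrrCharacter G → ℤ)
    (hvan : ∀ g, p ∣ orderOf g → ∑ χ, (z χ : ℂ) * (χ : G → ℂ) g = 0) :
    (p : ℤ) ^ (Nat.card G).factorization p ∣ ∑ χ, z χ * (charDegree (χ : G → ℂ) : ℤ) := by
  classical
  obtain ⟨P₀⟩ : Nonempty (Sylow p G) := inferInstance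
  obtain ⟨P, hPdef⟩ : ∃ P : Subgroup G, P = (P₀ : Subgroup G) := ⟨_, rfl⟩
  have hcard : Nat.card P = p ^ (Nat.card G).factorization p := by
    rw [hPdef]
    exact Sylow.card_eq_multiplicity P₀
  have hpg : IsPGroup p P := by
    rw [hPdef]
    exact P₀.isPGroup'
  letI : Fintype P := Fintype.ofFinite _
  have hn : ∀ χ : IrrCharacter G, ∃ n : ℕ, ∑ u : P, (χ : G → ℂ) u = (Nat.card P : ℂ) * n := by
    intro χ
    obtain ⟨n, hn⟩ := exists_nat_classInner_of_isCharacter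
      (Cfsg.Agent.Lib.Char.Basic.isCharacter_restrict (Cfsg.Agent.Lib.Char.Basic.isCharacter_of_isIrrCharacter χ.2) P)
      (Cfsg.Agent.Lib.Char.Basic.isCharacter_of_isIrrCharacter (Cfsg.Agent.Lib.Char.Burnside2.isIrrCharacter_one (G := P)))
    refine ⟨n, ?_⟩
    rw [← hn, classInner, ← mul_assoc, mul_inv_cancel₀ (by exact_mod_cast Nat.card_pos.ne'), one_mul]
    simp
  choose n hn using hn
  have h1 : ∑ u : P, ∑ χ, (z χ : ℂ) * (χ : G → ℂ) u = ∑ χ, (z χ : ℂ) * (χ : G → ℂ) 1 := by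
    rw [Finset.sum_eq_single (1 : P)]
    · simp
    · intro u _ hu
      apply hvan
      obtain ⟨k, hk⟩ := IsPGroup.iff_orderOf.1 hpg u
      have hk0 : k ≠ 0 := by
        rintro rfl
        apply hu
        rw [pow_zero] at hk
        exact orderOf_eq_one_iff.1 hk
      have h2 : orderOf (u : G) = orderOf u := Subgroup.orderOf_coe u
      rw [h2, hk]
      exact dvd_pow_self p hk0
    · simp
  have h2 : ∑ u : P, ∑ χ, (z χ : ℂ) * (χ : G → ℂ) u = (Nat.card P : ℂ) * ∑ χ, (z χ : ℂ) * (n χ : ℂ) := by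
    rw [Finset.sum_comm, Finset.mul_sum]
    refine Finset.sum_congr rfl fun χ _ => ?_
    rw [← Finset.mul_sum, hn]
    ring
  rw [h1] at h2
  refine ⟨∑ χ, z χ * (n χ : ℤ), ?_⟩
  have h3 : ((∑ χ, z χ * (charDegree (χ : G → ℂ) : ℤ) : ℤ) : ℂ) =
      (((p : ℤ) ^ (Nat.card G).factorization p * ∑ χ, z χ * (n χ : ℤ) : ℤ) : ℂ) := by
    push_cast
    rw [← Nat.cast_pow, ← hcard, ← h2]
    refine Finset.sum_congr rfl fun χ _ => ?_
    rw [Cfsg.Agent.Lib.Char.Values.IsCharacter.charDegree_cast (Cfsg.Agent.Lib.Char.Values.IsIrrCharacter.isCharacter χ.2)]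
  exact_mod_cast h3

end Dvd

section Final

variable {G : Type*} [Group G] [Fintype G] {M : Ideal AlgInt} [hMp : M.IsPrime] {p : ℕ} [hp : Fact p.Prime]

lemma charDegree_ne_zero' (χ : IrrCharacter G) : charDegree (χ : G → ℂ) ≠ 0 :=
  Cfsg.Agent.Lib.Blocks.RegInt.charDegree_ne_zero χ

lemma charDegree_cast' (χ : IrrCharacter G) : ((charDegree (χ : G → ℂ) : ℕ) : ℂ) = (χ : G → ℂ) 1 :=
  Cfsg.Agent.Lib.Char.Values.IsCharacter.charDegree_cast (Cfsg.Agent.Lib.Char.Values.IsIrrCharacter.isCharacter χ.2)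

open Classical in
/-- **The final argument.** -/
theorem final_abstract {α : Type*} [DecidableEq α] (hM : IsPModular p M) {B : Set (IrrCharacter G)} (hB : IsPBlock M B)
    (R : Finset α) (hR : R.Nonempty) (v : IrrCharacter G → α → ℤ) (hrow : ∀ χ, IsRow R (v χ)) {e : ℕ} (he : 0 < e)
    (hgram : ∀ r ∈ R, ∀ r' ∈ R, ∑ χ, v χ r * v χ r' = (e : ℤ) + if r = r' then 1 else 0)
    (hW : ∀ r ∈ R, ∀ g, ¬ p ∣ orderOf g → ∑ χ, (v χ r : ℂ) * (χ : G → ℂ) g = 0)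
    (hout : ∀ χ, χ ∉ B → ∀ r ∈ R, v χ r = 0)
    (hcount : Nat.card B = blockRank p B + R.card) (hpe : ¬ p ∣ e) {a : ℕ} (ha : 1 ≤ a) (hdef : blockDefect p B = a) :
    blockRank p B = e ∧ (∀ χ ∈ B, blockHeight p B (χ : G → ℂ) = 0) ∧
    ∃ X Y : Finset (IrrCharacter G), (∀ χ, χ ∈ B ↔ χ ∈ X ∨ χ ∈ Y) ∧ Disjoint X Y ∧ X.card = e ∧ Y.card = R.card ∧
      (∀ ψ ∈ Y, ∀ ψ' ∈ Y, ∀ g : G, ¬ p ∣ orderOf g → (ψ : G → ℂ) g = (ψ' : G → ℂ) g) ∧
      ∃ (δ : IrrCharacter G → ℤ) (δ₀ : ℤ), (∀ χ ∈ X, δ χ = 1 ∨ δ χ = -1) ∧ (δ₀ = 1 ∨ δ₀ = -1) ∧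
        (∀ ψ ∈ Y, ∀ g : G, ¬ p ∣ orderOf g → (δ₀ : ℂ) * (ψ : G → ℂ) g + ∑ χ ∈ X, (δ χ : ℂ) * (χ : G → ℂ) g = 0) ∧
        (∀ χ ∈ X, ∀ χ' ∈ X, δ χ * (charDegree (χ : G → ℂ) : ℤ) ≡ δ χ' * (charDegree (χ' : G → ℂ) : ℤ) [ZMOD (p : ℤ) ^ a]) ∧
        (∀ ψ ∈ Y, ∀ χ ∈ X, (charDegree (ψ : G → ℂ) : ℤ) ≡ -((e : ℤ) * δ₀ * δ χ * (charDegree (χ : G → ℂ) : ℤ)) [ZMOD (p : ℤ) ^ a]) := by
  obtain ⟨XX, y, s, hXc, hX, hy, hinj, hzero⟩ := rows_comb R hR v hrow he hgram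
  obtain ⟨r₀, hr₀⟩ := hR
  have hs0 : ∀ {ε : ℤ}, (ε = 1 ∨ ε = -1) → ε ≠ 0 ∧ ε * ε = 1 := by
    intro ε h
    rcases h with h | h <;> rw [h] <;> norm_num
  have hXB : ∀ χ ∈ XX, χ ∈ B := by
    intro χ hχ
    by_contra hn
    have h1 := hout χ hn r₀ hr₀
    rw [(hX χ hχ).2 r₀ hr₀] at h1
    exact (hs0 (hX χ hχ).1).1 h1
  have hyv : ∀ r ∈ R, v (y r) r = s (y r) := by
    intro r hr
    rw [(hy r hr).2.2 r hr, if_pos rfl]
  have hYB : ∀ r ∈ R, y r ∈ B := by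
    intro r hr
    by_contra hn
    have h1 := hout _ hn r hr
    rw [hyv r hr] at h1
    exact (hs0 (hy r hr).2.1).1 h1
  set BF := Finset.univ.filter (· ∈ B) with hBF
  have hBFm : ∀ χ, χ ∈ BF ↔ χ ∈ B := fun χ => by simp [hBF]
  -- the vanishing principle
  have hvanish : ∀ z : IrrCharacter G → ℤ, (∀ χ, χ ∉ B → z χ = 0) → (∀ r ∈ R, ∑ χ, v χ r * z χ = 0) →
      ((p : ℤ) ^ (Nat.card G).factorization p ∣ ∑ χ, z χ * (charDegree (χ : G → ℂ) : ℤ)) := by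
    intro z hz0 hz
    apply dvd_of_vanish
    intro g hg
    have hsub : ∀ f : IrrCharacter G → ℂ, (∀ χ, χ ∉ B → f χ = 0) → ∑ χ ∈ BF, f χ = ∑ χ, f χ := by
      intro f hf
      exact Finset.sum_subset (Finset.subset_univ _) (fun χ _ hn => hf χ (fun h => hn ((hBFm χ).2 h)))
    have h1 := vanish_of_orth hM hB R (fun j χ => (v χ j : ℂ)) y hYB
      (fun j hj => ⟨by
          show ((v (y j) j : ℤ) : ℂ) ≠ 0
          rw [hyv j hj]
          exact_mod_cast (hs0 (hy j hj).2.1).1, fun k hk hne => by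
          show ((v (y j) k : ℤ) : ℂ) = 0
          rw [(hy j hj).2.2 k hk, if_neg hne]
          simp⟩)
      (fun j hj g hg => by
        rw [hsub _ (fun χ hχ => by rw [hout χ hχ j hj]; simp)]
        exact hW j hj g hg)
      hcount (fun χ => (z χ : ℂ))
      (fun j hj => by
        rw [hsub _ (fun χ hχ => by rw [hz0 χ hχ]; simp)]
        have h2 := hz j hj
        have h3 : ((∑ χ, v χ j * z χ : ℤ) : ℂ) = 0 := by rw [h2]; simp
        push_cast at h3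
        rw [← h3]
        refine Finset.sum_congr rfl fun χ _ => ?_
        simp)
      g hg
    rw [hsub _ (fun χ hχ => by rw [hz0 χ hχ]; simp)] at h1
    exact h1
  set k := (Nat.card G).factorization p with hk
  set μ := sInf ((fun χ : IrrCharacter G => (charDegree (χ : G → ℂ)).factorization p) '' B) with hμ
  have hkμ : k = μ + a := by
    have : k - μ = a := hdef
    omega
  have hpp : p.Prime := hp.out
  -- no zero rows
  have hnozero : ∀ χ ∈ B, χ ∈ XX ∨ ∃ r ∈ R, y r = χ := by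
    intro χ hχ
    by_contra hn
    push Not at hn
    obtain ⟨hn1, hn2⟩ := hn
    have hv0 := hzero χ hn1 hn2
    have h1 := hvanish (fun τ => if τ = χ then 1 else 0)
      (fun τ hτ => by
        have h0 : τ ≠ χ := by
          rintro rfl
          exact hτ hχ
        exact if_neg h0)
      (fun r hr => by
        simp only [mul_ite, mul_one, mul_zero, Finset.sum_ite_eq', Finset.mem_univ, if_true]
        exact hv0 r hr)
    simp only [ite_mul, one_mul, zero_mul, Finset.sum_ite_eq', Finset.mem_univ, if_true] at h1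
    have h2 : p ^ k ∣ charDegree (χ : G → ℂ) := by
      have : ((p ^ k : ℕ) : ℤ) ∣ (charDegree (χ : G → ℂ) : ℤ) := by
        push_cast
        exact h1
      exact Int.natCast_dvd_natCast.1 this
    have hd0 := charDegree_ne_zero' χ
    have h3 : (charDegree (χ : G → ℂ)).factorization p = k := by
      apply le_antisymm
      · have := (Nat.factorization_le_iff_dvd hd0 Nat.card_pos.ne').2 (Cfsg.Agent.Lib.Blocks.HeightZero.charDegree_dvd_card χ.2)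
        exact this p
      · exact (hpp.pow_dvd_iff_le_factorization hd0).1 h2
    have h4 := Cfsg.Agent.Lib.Blocks.Pairs.blockOf_eq_singleton hM h3
    have h5 : B = {χ} := by
      obtain ⟨χ₂, rfl⟩ := id hB
      rw [← h4]
      exact (Cfsg.Agent.Lib.Blocks.Osima.blockOf_eq_of_mem hχ).symm
    obtain ⟨τ, hτ⟩ : XX.Nonempty := by
      rw [← Finset.card_pos, hXc]
      exact he
    have h6 := hXB τ hτ
    rw [h5] at h6
    rw [Set.mem_singleton_iff] at h6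
    rw [h6] at hτ
    exact hn1 hτ
  set Y := R.image y with hY
  have hYm : ∀ χ, χ ∈ Y ↔ ∃ r ∈ R, y r = χ := fun χ => by simp [hY]
  have hBeq : ∀ χ, χ ∈ B ↔ χ ∈ XX ∨ χ ∈ Y := by
    intro χ
    constructor
    · intro h
      rcases hnozero χ h with h1 | h1
      · exact Or.inl h1
      · exact Or.inr ((hYm χ).2 h1)
    · rintro (h | h)
      · exact hXB χ h
      · obtain ⟨r, hr, rfl⟩ := (hYm χ).1 h
        exact hYB r hr
  have hdisj : Disjoint XX Y := by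
    rw [Finset.disjoint_left]
    intro χ h1 h2
    obtain ⟨r, hr, rfl⟩ := (hYm χ).1 h2
    exact (hy r hr).1 h1
  have hYc : Y.card = R.card := Finset.card_image_of_injOn hinj
  have hrank : blockRank p B = e := by
    have h1 : BF = XX ∪ Y := by
      ext χ
      rw [hBFm, Finset.mem_union, hBeq]
    have h2 : Nat.card B = BF.card := by
      rw [Nat.card_eq_fintype_card, Fintype.card_subtype]
    rw [h2, h1, Finset.card_union_of_disjoint hdisj, hXc, hYc] at hcount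
    omega
  -- the decomposition of the sums
  have hdecomp : ∀ r ∈ R, ∀ g, ∑ χ, (v χ r : ℂ) * (χ : G → ℂ) g =
      (s (y r) : ℂ) * (y r : G → ℂ) g + ∑ χ ∈ XX, (s χ : ℂ) * (χ : G → ℂ) g := by
    intro r hr g
    rw [← Finset.sum_sdiff (Finset.subset_univ XX), add_comm]
    have h1 : ∑ χ ∈ XX, (v χ r : ℂ) * (χ : G → ℂ) g = ∑ χ ∈ XX, (s χ : ℂ) * (χ : G → ℂ) g :=
      Finset.sum_congr rfl fun χ hχ => by rw [(hX χ hχ).2 r hr]
    rw [h1, add_comm]
    congr 1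
    rw [Finset.sum_eq_single (y r)]
    · rw [hyv r hr]
    · intro χ hχ hne
      have hχ' : χ ∉ XX := (Finset.mem_sdiff.1 hχ).2
      have h2 : v χ r = 0 := by
        by_cases h3 : ∃ r' ∈ R, y r' = χ
        · obtain ⟨r', hr', rfl⟩ := h3
          rw [(hy r' hr').2.2 r hr, if_neg (fun h => hne (by rw [h]))]
        · push Not at h3
          exact hzero χ hχ' h3 r hr
      rw [h2]
      simp
    · intro h
      exact absurd (Finset.mem_sdiff.2 ⟨Finset.mem_univ _, (hy r hr).1⟩) h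
  have hWreg : ∀ r ∈ R, ∀ g, ¬ p ∣ orderOf g →
      (s (y r) : ℂ) * (y r : G → ℂ) g + ∑ χ ∈ XX, (s χ : ℂ) * (χ : G → ℂ) g = 0 := by
    intro r hr g hg
    rw [← hdecomp r hr g]
    exact hW r hr g hg
  have hreg1 : ¬ p ∣ orderOf (1 : G) := by
    rw [orderOf_one]
    exact fun h => hpp.one_lt.ne' (Nat.dvd_one.mp h)
  have hWdeg : ∀ r ∈ R, s (y r) * (charDegree (y r : G → ℂ) : ℤ) +
      ∑ χ ∈ XX, s χ * (charDegree (χ : G → ℂ) : ℤ) = 0 := by
    intro r hr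
    have h1 := hWreg r hr 1 hreg1
    have h2 : ((s (y r) * (charDegree (y r : G → ℂ) : ℤ) + ∑ χ ∈ XX, s χ * (charDegree (χ : G → ℂ) : ℤ) : ℤ) : ℂ) = 0 := by
      push_cast
      rw [← h1, charDegree_cast']
      congr 1
      refine Finset.sum_congr rfl fun χ _ => ?_
      rw [charDegree_cast']
    exact_mod_cast h2
  set δ₀ := s (y r₀) with hδ₀
  have hδ₀s := (hy r₀ hr₀).2.1
  have hsign : ∀ r ∈ R, s (y r) = δ₀ ∧ charDegree (y r : G → ℂ) = charDegree (y r₀ : G → ℂ) := by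
    intro r hr
    have h1 := hWdeg r hr
    have h2 := hWdeg r₀ hr₀
    have h3 := charDegree_ne_zero' (y r)
    have h4 := charDegree_ne_zero' (y r₀)
    rw [← hδ₀] at h2
    rcases (hy r hr).2.1 with h5 | h5 <;> rcases hδ₀s with h6 | h6 <;> rw [h5] at h1 <;> rw [← hδ₀] at h6 <;> rw [h6] at h2 <;>
      rw [h5, h6] <;> constructor <;> omega
  have hWreg' : ∀ ψ ∈ Y, ∀ g, ¬ p ∣ orderOf g →
      (δ₀ : ℂ) * (ψ : G → ℂ) g + ∑ χ ∈ XX, (s χ : ℂ) * (χ : G → ℂ) g = 0 := by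
    intro ψ hψ g hg
    obtain ⟨r, hr, rfl⟩ := (hYm ψ).1 hψ
    rw [← (hsign r hr).1]
    exact hWreg r hr g hg
  have hδ₀ss := hs0 hδ₀s
  have hcX : ∀ χ ∈ XX, ∀ χ' ∈ XX, (p : ℤ) ^ k ∣ s χ * (charDegree (χ : G → ℂ) : ℤ) - s χ' * (charDegree (χ' : G → ℂ) : ℤ) := by
    intro χ hχ χ' hχ'
    have hsum : ∀ f : IrrCharacter G → ℤ, ∑ τ, ((if τ = χ then s χ else 0) - (if τ = χ' then s χ' else 0)) * f τ =
        s χ * f χ - s χ' * f χ' := by
      intro f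
      simp only [sub_mul, Finset.sum_sub_distrib, ite_mul, zero_mul, Finset.sum_ite_eq', Finset.mem_univ, if_true]
    have h1 := hvanish (fun τ => (if τ = χ then s χ else 0) - (if τ = χ' then s χ' else 0))
      (fun τ hτ => by
        have h2 : τ ≠ χ := fun h => hτ (h ▸ hXB χ hχ)
        have h3 : τ ≠ χ' := fun h => hτ (h ▸ hXB χ' hχ')
        simp only [if_neg h2, if_neg h3, sub_self])
      (fun r hr => by
        have h2 := hsum (fun τ => v τ r)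
        simp only [mul_comm] at h2 ⊢
        rw [h2, (hX χ hχ).2 r hr, (hX χ' hχ').2 r hr, (hs0 (hX χ hχ).1).2, (hs0 (hX χ' hχ').1).2, sub_self])
    rwa [hsum] at h1
  have hcY : ∀ r ∈ R, ∀ χ ∈ XX, (p : ℤ) ^ k ∣ (charDegree (y r : G → ℂ) : ℤ) + (e : ℤ) * δ₀ * s χ * (charDegree (χ : G → ℂ) : ℤ) := by
    intro r hr χ hχ
    have h1 : (p : ℤ) ^ k ∣ ∑ χ' ∈ XX, (s χ' * (charDegree (χ' : G → ℂ) : ℤ) - s χ * (charDegree (χ : G → ℂ) : ℤ)) :=
      Finset.dvd_sum fun χ' hχ' => hcX χ' hχ' χ hχ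
    rw [Finset.sum_sub_distrib, Finset.sum_const, hXc, nsmul_eq_mul] at h1
    have h2 := hWdeg r hr
    rw [(hsign r hr).1] at h2
    have h3 : ∑ χ' ∈ XX, s χ' * (charDegree (χ' : G → ℂ) : ℤ) = - (δ₀ * (charDegree (y r : G → ℂ) : ℤ)) := by linarith
    rw [h3] at h1
    have h4 := dvd_mul_of_dvd_right h1 (-δ₀)
    have h5 : -δ₀ * (-(δ₀ * (charDegree (y r : G → ℂ) : ℤ)) - (e : ℤ) * (s χ * (charDegree (χ : G → ℂ) : ℤ))) =
        (δ₀ * δ₀) * (charDegree (y r : G → ℂ) : ℤ) + (e : ℤ) * δ₀ * s χ * (charDegree (χ : G → ℂ) : ℤ) := by ring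
    rw [h5, hδ₀ss.2, one_mul] at h4
    exact h4
  have hak : (p : ℤ) ^ a ∣ (p : ℤ) ^ k := pow_dvd_pow _ (by omega)
  -- heights
  have hheights : ∀ χ ∈ B, blockHeight p B (χ : G → ℂ) = 0 := by
    obtain ⟨χ₀, hχ₀, h0⟩ := Cfsg.Agent.Lib.Blocks.HeightZero.exists_height_zero (p := p)
      (Cfsg.Agent.Lib.Blocks.HeightZero.nonempty_of_isPBlock hB)
    obtain ⟨χ₁, hχ₁⟩ : XX.Nonempty := by
      rw [← Finset.card_pos, hXc]
      exact he
    have hNk : (p : ℤ) ^ (μ + 1) ∣ (p : ℤ) ^ k := pow_dvd_pow _ (by omega)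
    have hs1 := hX χ₁ hχ₁
    have hD : ∀ τ ∈ B, (p : ℤ) ^ (μ + 1) ∣ (charDegree (τ : G → ℂ) : ℤ) → (p : ℤ) ^ (μ + 1) ∣ (charDegree (χ₁ : G → ℂ) : ℤ) := by
      intro τ hτ hdiv
      rcases (hBeq τ).1 hτ with h1 | h1
      · have h2 := hNk.trans (hcX τ h1 χ₁ hχ₁)
        have h3 : (p : ℤ) ^ (μ + 1) ∣ s τ * (charDegree (τ : G → ℂ) : ℤ) := Dvd.dvd.mul_left hdiv _
        have h4 := (Int.dvd_sub h3 h2)
        have h5 := dvd_mul_of_dvd_right h4 (s χ₁)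
        have h6 : s χ₁ * (s τ * (charDegree (τ : G → ℂ) : ℤ) - (s τ * (charDegree (τ : G → ℂ) : ℤ) - s χ₁ * (charDegree (χ₁ : G → ℂ) : ℤ))) =
            (s χ₁ * s χ₁) * (charDegree (χ₁ : G → ℂ) : ℤ) := by ring
        rw [h6, (hs0 hs1.1).2, one_mul] at h5
        exact h5
      · obtain ⟨r, hr, rfl⟩ := (hYm τ).1 h1
        have h2 := hNk.trans (hcY r hr χ₁ hχ₁)
        have h3 := (Int.dvd_sub h2 hdiv)
        have h4 := dvd_mul_of_dvd_right h3 (δ₀ * s χ₁)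
        have h5 : δ₀ * s χ₁ * ((charDegree (y r : G → ℂ) : ℤ) + (e : ℤ) * δ₀ * s χ₁ * (charDegree (χ₁ : G → ℂ) : ℤ) -
            (charDegree (y r : G → ℂ) : ℤ)) = (δ₀ * δ₀) * (s χ₁ * s χ₁) * ((e : ℤ) * (charDegree (χ₁ : G → ℂ) : ℤ)) := by ring
        rw [h5, hδ₀ss.2, (hs0 hs1.1).2, one_mul, one_mul] at h4
        have h6 : p ^ (μ + 1) ∣ e * charDegree (χ₁ : G → ℂ) := by
          have : ((p ^ (μ + 1) : ℕ) : ℤ) ∣ ((e * charDegree (χ₁ : G → ℂ) : ℕ) : ℤ) := by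
            push_cast
            exact h4
          exact Int.natCast_dvd_natCast.1 this
        have h7 : Nat.Coprime (p ^ (μ + 1)) e := Nat.Coprime.pow_left _ ((Nat.Prime.coprime_iff_not_dvd hpp).2 hpe)
        have h8 := h7.dvd_of_dvd_mul_left h6
        have : ((p ^ (μ + 1) : ℕ) : ℤ) ∣ (charDegree (χ₁ : G → ℂ) : ℤ) := Int.natCast_dvd_natCast.2 h8
        push_cast at this
        exact this
    have hD' : (p : ℤ) ^ (μ + 1) ∣ (charDegree (χ₁ : G → ℂ) : ℤ) → ∀ τ ∈ B, (p : ℤ) ^ (μ + 1) ∣ (charDegree (τ : G → ℂ) : ℤ) := by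
      intro hdiv τ hτ
      rcases (hBeq τ).1 hτ with h1 | h1
      · have h2 := hNk.trans (hcX τ h1 χ₁ hχ₁)
        have h3 : (p : ℤ) ^ (μ + 1) ∣ s χ₁ * (charDegree (χ₁ : G → ℂ) : ℤ) := Dvd.dvd.mul_left hdiv _
        have h4 := Int.dvd_add h2 h3
        have h5 := dvd_mul_of_dvd_right h4 (s τ)
        have h6 : s τ * (s τ * (charDegree (τ : G → ℂ) : ℤ) - s χ₁ * (charDegree (χ₁ : G → ℂ) : ℤ) + s χ₁ * (charDegree (χ₁ : G → ℂ) : ℤ)) =
            (s τ * s τ) * (charDegree (τ : G → ℂ) : ℤ) := by ring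
        rw [h6, (hs0 (hX τ h1).1).2, one_mul] at h5
        exact h5
      · obtain ⟨r, hr, rfl⟩ := (hYm τ).1 h1
        have h2 := hNk.trans (hcY r hr χ₁ hχ₁)
        have h3 : (p : ℤ) ^ (μ + 1) ∣ (e : ℤ) * δ₀ * s χ₁ * (charDegree (χ₁ : G → ℂ) : ℤ) := Dvd.dvd.mul_left hdiv _
        have h4 := Int.dvd_sub h2 h3
        rwa [add_sub_cancel_right] at h4
    intro χ hχ
    by_contra hne
    have h1 : μ + 1 ≤ (charDegree (χ : G → ℂ)).factorization p := by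
      have : (charDegree (χ : G → ℂ)).factorization p - μ ≠ 0 := hne
      omega
    have h2 : p ^ (μ + 1) ∣ charDegree (χ : G → ℂ) := (hpp.pow_dvd_iff_le_factorization (charDegree_ne_zero' χ)).2 h1
    have h3 : (p : ℤ) ^ (μ + 1) ∣ (charDegree (χ : G → ℂ) : ℤ) := by
      have : ((p ^ (μ + 1) : ℕ) : ℤ) ∣ (charDegree (χ : G → ℂ) : ℤ) := Int.natCast_dvd_natCast.2 h2
      push_cast at this
      exact this
    have h4 := hD' (hD χ hχ h3) χ₀ hχ₀
    have h5 : p ^ (μ + 1) ∣ charDegree (χ₀ : G → ℂ) := by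
      have : ((p ^ (μ + 1) : ℕ) : ℤ) ∣ (charDegree (χ₀ : G → ℂ) : ℤ) := by
        push_cast
        exact h4
      exact Int.natCast_dvd_natCast.1 this
    have h6 := (hpp.pow_dvd_iff_le_factorization (charDegree_ne_zero' χ₀)).1 h5
    have h7 : (charDegree (χ₀ : G → ℂ)).factorization p - μ = 0 := h0
    omega
  refine ⟨hrank, hheights, XX, Y, hBeq, hdisj, hXc, hYc, ?_, s, δ₀, fun χ hχ => (hX χ hχ).1, hδ₀s, hWreg', ?_, ?_⟩
  · intro ψ hψ ψ' hψ' g hg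
    have h1 := hWreg' ψ hψ g hg
    have h2 := hWreg' ψ' hψ' g hg
    have h3 : (δ₀ : ℂ) * ((ψ : G → ℂ) g - (ψ' : G → ℂ) g) = 0 := by
      rw [mul_sub]
      linear_combination h1 - h2
    have h4 : (δ₀ : ℂ) ≠ 0 := by exact_mod_cast hδ₀ss.1
    exact sub_eq_zero.1 ((mul_eq_zero.1 h3).resolve_left h4)
  · intro χ hχ χ' hχ'
    rw [Int.modEq_iff_dvd]
    exact hak.trans ((hcX χ' hχ' χ hχ))
  · intro ψ hψ χ hχ
    obtain ⟨r, hr, rfl⟩ := (hYm ψ).1 hψ
    rw [Int.modEq_iff_dvd]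
    have h1 := hak.trans (hcY r hr χ hχ)
    have h2 := (dvd_neg (a := (p : ℤ) ^ a)).2 h1
    have e3 : -((e : ℤ) * δ₀ * s χ * (charDegree (χ : G → ℂ) : ℤ)) - (charDegree (y r : G → ℂ) : ℤ) =
        -((charDegree (y r : G → ℂ) : ℤ) + (e : ℤ) * δ₀ * s χ * (charDegree (χ : G → ℂ) : ℤ)) := by ring
    rw [e3]
    exact h2

end Final

end Cfsg.Agent.Lib.Dade
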