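import Mathlib
import Cfsg.Agent.Lib.Dade.DG
import Cfsg.Agent.Lib.Dade.DL

/-!
# The rows of the matrix of multiplicities
-/

set_option autoImplicit false
set_option linter.unusedSectionVars false
set_option linter.style.haveILetI false

namespace Cfsg.Agent.Lib.Dade

open Module Matrix Cfsg Cfsg.Agent.Lib.Blocks.Local Cfsg.Agent.Lib.Blocks.Central Cfsg.Agent.Lib.Blocks.Osima
open Cfsg.Agent.Lib.Blocks.ModBlock Cfsg.Agent.Lib.DefectOne Cfsg.Agent.Lib.Blocks.Transport
open scoped ComplexConjugate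

section OrbitSum

variable {β : Type*} [DecidableEq β]

/-- The sum over a free union of orbits. -/
lemma orbit_sum (σ : Equiv.Perm β) (F R : Finset β) (ψ₀ : β) {e : ℕ} (he : 0 < e)
    (hRF : ∀ r ∈ R, r ∈ F ∧ r ≠ ψ₀) (hstab : ∀ ψ ∈ F, ψ ≠ ψ₀ → σ ψ ∈ F ∧ σ ψ ≠ ψ₀)
    (hcover : ∀ ψ ∈ F, ψ ≠ ψ₀ → ∃ r ∈ R, ∃ j < e, (σ ^ j) r = ψ)
    (huniq : ∀ r ∈ R, ∀ r' ∈ R, ∀ j : ℕ, (σ ^ j) r = r' → r = r')
    (hfree : ∀ ψ ∈ F, ψ ≠ ψ₀ → ∀ j : ℕ, (σ ^ j) ψ = ψ → e ∣ j)
    (g : β → ℕ) (hg : ∀ ψ ∈ F, ψ ≠ ψ₀ → g (σ ψ) = g ψ) :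
    ∑ ψ ∈ F.erase ψ₀, g ψ = e * ∑ r ∈ R, g r := by
  have hpow : ∀ r ∈ R, ∀ j : ℕ, (σ ^ j) r ∈ F ∧ (σ ^ j) r ≠ ψ₀ ∧ g ((σ ^ j) r) = g r := by
    intro r hr j
    induction j with
    | zero => simpa using ⟨(hRF r hr).1, (hRF r hr).2⟩
    | succ j ih =>
      rw [pow_succ', Equiv.Perm.mul_apply]
      obtain ⟨h1, h2, h3⟩ := ih
      obtain ⟨h4, h5⟩ := hstab _ h1 h2
      exact ⟨h4, h5, (hg _ h1 h2).trans h3⟩
  have himg : F.erase ψ₀ = (R ×ˢ Finset.range e).image (fun rj : β × ℕ => (σ ^ rj.2) rj.1) := by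
    ext ψ
    simp only [Finset.mem_erase, Finset.mem_image, Finset.mem_product, Finset.mem_range, Prod.exists]
    constructor
    · rintro ⟨h1, h2⟩
      obtain ⟨r, hr, j, hj, rfl⟩ := hcover ψ h2 h1
      exact ⟨r, j, ⟨hr, hj⟩, rfl⟩
    · rintro ⟨r, j, ⟨hr, -⟩, rfl⟩
      exact ⟨(hpow r hr j).2.1, (hpow r hr j).1⟩
  have hle : ∀ r ∈ R, ∀ r' ∈ R, ∀ j j' : ℕ, j' ≤ j → j < e → (σ ^ j) r = (σ ^ j') r' → r = r' ∧ j = j' := by
    intro r hr r' hr' j j' hjj' hj hh
    have h1 : (σ ^ (j - j')) r = r' := by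
      have h2 : (σ ^ j') ((σ ^ (j - j')) r) = (σ ^ j') r' := by
        rw [← Equiv.Perm.mul_apply, ← pow_add, Nat.add_sub_cancel' hjj', hh]
      exact (σ ^ j').injective h2
    have h3 := huniq r hr r' hr' _ h1
    subst h3
    have h4 := hfree r (hRF r hr).1 (hRF r hr).2 _ h1
    have h5 : j - j' = 0 := Nat.eq_zero_of_dvd_of_lt h4 (by omega)
    exact ⟨rfl, by omega⟩
  have hinj : Set.InjOn (fun rj : β × ℕ => (σ ^ rj.2) rj.1) (R ×ˢ Finset.range e : Finset (β × ℕ)) := by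
    rintro ⟨r, j⟩ h1 ⟨r', j'⟩ h2 hh
    simp only [Finset.coe_product, Set.mem_prod, Finset.mem_coe, Finset.mem_range] at h1 h2
    simp only at hh
    rcases le_total j' j with h3 | h3
    · obtain ⟨h4, h5⟩ := hle r h1.1 r' h2.1 j j' h3 h1.2 hh
      rw [h4, h5]
    · obtain ⟨h4, h5⟩ := hle r' h2.1 r h1.1 j' j h3 h2.2 hh.symm
      rw [h4, h5]
  rw [himg, Finset.sum_image hinj, Finset.sum_product, Finset.mul_sum]
  refine Finset.sum_congr rfl fun r hr => ?_
  rw [Finset.sum_congr rfl (fun j _ => (hpow r hr j).2.2), Finset.sum_const, Finset.card_range, smul_eq_mul]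

/-- The shape of the row. -/
lemma row_of_orbit (R : Finset β) (m : β → ℕ) (m₀ : ℕ) {e q A Lc : ℕ} (he : 0 < e) (hRe : R.card * e + 1 = q)
    (hv0 : m₀ = A ∨ m₀ = A + 1) (hval : ∀ r ∈ R, m r = A ∨ m r = A + 1)
    (hLc : Lc = e * (R.filter (fun r => m r = A + 1)).card + if m₀ = A + 1 then 1 else 0)
    (hcase : Lc ≤ e ∨ q ≤ Lc + e) :
    IsRow R (fun r => (m r : ℤ) - (m₀ : ℤ)) := by
  set Z := R.filter (fun r => m r = A + 1) with hZ
  have hZm : ∀ r ∈ R, r ∈ Z ↔ m r = A + 1 := fun r hr => by simp [hZ, hr]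
  have hZR : Z ⊆ R := Finset.filter_subset _ _
  have hzle : Z.card ≤ R.card := Finset.card_le_card hZR
  set Z' := R \ Z with hZ'
  have hZ'c : Z'.card = R.card - Z.card := Finset.card_sdiff_of_subset hZR
  have hZ'm : ∀ r ∈ R, r ∈ Z' ↔ m r = A := fun r hr => by
    rw [hZ', Finset.mem_sdiff, hZm r hr]
    rcases hval r hr with h | h
    · simp [hr, h]
    · simp [hr, h]
  by_cases hm0 : m₀ = A + 1
  · rw [if_pos hm0] at hLc
    rcases hcase with h | h
    · -- `Z` is empty, the row is `-1`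
      have hz0 : Z.card = 0 := by
        by_contra hne
        have : e * 1 ≤ e * Z.card := Nat.mul_le_mul_left _ (by omega)
        omega
      have hZe : Z = ∅ := Finset.card_eq_zero.1 hz0
      refine Or.inr (Or.inl ⟨-1, Or.inr rfl, fun r hr => ?_⟩)
      have : r ∉ Z := by simp [hZe]
      rw [hZm r hr] at this
      have h2 := (hval r hr).resolve_right this
      simp only [h2, hm0]
      push_cast
      ring
    · -- the complement has at most one element
      have h1 : e * Z'.card ≤ e * 1 := by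
        rw [hZ'c, Nat.mul_sub, mul_comm e R.card]
        omega
      have h2 : Z'.card ≤ 1 := Nat.le_of_mul_le_mul_left h1 he
      by_cases h3 : Z'.card = 0
      · have hZe : Z' = ∅ := Finset.card_eq_zero.1 h3
        refine Or.inl fun r hr => ?_
        have : r ∉ Z' := by simp [hZe]
        rw [hZ'm r hr] at this
        have h4 := (hval r hr).resolve_left this
        simp only [h4, hm0, sub_self]
      · have h4 : Z'.card = 1 := by omega
        obtain ⟨j, hj⟩ := Finset.card_eq_one.1 h4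
        have hjZ' : j ∈ Z' := by
          rw [hj]
          exact Finset.mem_singleton_self _
        have hjR : j ∈ R := (Finset.mem_sdiff.1 hjZ').1
        refine Or.inr (Or.inr ⟨-1, Or.inr rfl, j, hjR, fun r hr => ?_⟩)
        by_cases hrj : r = j
        · rw [if_pos hrj, hrj]
          show (m j : ℤ) - (m₀ : ℤ) = -1
          rw [(hZ'm j hjR).1 hjZ', hm0]
          push_cast
          ring
        · rw [if_neg hrj]
          have : r ∉ Z' := by
            rw [hj]
            simpa using hrj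
          rw [hZ'm r hr] at this
          have h5 := (hval r hr).resolve_left this
          simp only [h5, hm0, sub_self]
  · have hm1 : m₀ = A := hv0.resolve_right hm0
    rw [if_neg hm0, add_zero] at hLc
    rcases hcase with h | h
    · -- `Z` has at most one element
      have h1 : e * Z.card ≤ e * 1 := by omega
      have h2 : Z.card ≤ 1 := Nat.le_of_mul_le_mul_left h1 he
      by_cases h3 : Z.card = 0
      · have hZe : Z = ∅ := Finset.card_eq_zero.1 h3
        refine Or.inl fun r hr => ?_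
        have : r ∉ Z := by simp [hZe]
        rw [hZm r hr] at this
        have h4 := (hval r hr).resolve_right this
        simp only [h4, hm1, sub_self]
      · have h4 : Z.card = 1 := by omega
        obtain ⟨j, hj⟩ := Finset.card_eq_one.1 h4
        have hjZ : j ∈ Z := by
          rw [hj]
          exact Finset.mem_singleton_self _
        have hjR : j ∈ R := hZR hjZ
        refine Or.inr (Or.inr ⟨1, Or.inl rfl, j, hjR, fun r hr => ?_⟩)
        by_cases hrj : r = j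
        · rw [if_pos hrj, hrj]
          show (m j : ℤ) - (m₀ : ℤ) = 1
          rw [(hZm j hjR).1 hjZ, hm1]
          push_cast
          ring
        · rw [if_neg hrj]
          have : r ∉ Z := by
            rw [hj]
            simpa using hrj
          rw [hZm r hr] at this
          have h5 := (hval r hr).resolve_right this
          simp only [h5, hm1, sub_self]
    · -- the complement of `Z` is empty
      have h1 : Z'.card = 0 := by
        by_contra hne
        have h2 : e * 1 ≤ e * Z'.card := Nat.mul_le_mul_left _ (by omega)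
        rw [hZ'c, Nat.mul_sub, mul_comm e R.card] at h2
        have h3 : e * Z.card ≤ R.card * e := by
          rw [mul_comm R.card e]
          exact Nat.mul_le_mul_left _ hzle
        omega
      have hZe : Z' = ∅ := Finset.card_eq_zero.1 h1
      refine Or.inr (Or.inl ⟨1, Or.inl rfl, fun r hr => ?_⟩)
      have : r ∉ Z' := by simp [hZe]
      rw [hZ'm r hr] at this
      have h2 := (hval r hr).resolve_left this
      simp only [h2, hm1]
      push_cast
      ring

end OrbitSum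

section Inv

variable {G : Type*} [Group G] [Fintype G] {C : Subgroup G} [Fintype C]

/-- The multiplicity is invariant under conjugation. -/
lemma mult_comap {χ : G → ℂ} (hχ : IsClassFunction G χ) {g : G} (φ : C ≃* C) (hφ : ∀ h : C, (φ h : G) = g * h * g⁻¹)
    (ψ : IrrCharacter C) : mult C χ (irrComap φ ψ) = mult C χ ψ := by
  have h : classInner (fun c : C => χ c) ((irrComap φ ψ : IrrCharacter C) : C → ℂ) =
      classInner (fun c : C => χ c) (ψ : C → ℂ) := by
    unfold classInner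
    congr 1
    rw [← Equiv.sum_comp φ.toEquiv (fun c : C => χ c * conj ((ψ : C → ℂ) c))]
    refine Finset.sum_congr rfl fun c _ => ?_
    simp only [coe_irrComap, MulEquiv.toEquiv_eq_coe, EquivLike.coe_coe]
    rw [hφ c]
    congr 1
    exact (hχ _ _).symm
  unfold mult
  rw [h]

end Inv

section Rows

variable {M : Ideal AlgInt} [hM : M.IsPrime] {G : Type*} [Group G] [Fintype G] {C : Subgroup G} [Fintype C]
  {f : Set (IrrCharacter C)} {a : MonoidAlgebra (localRing M) C} {p : ℕ} [hp : Fact p.Prime]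

variable {x t : G} {T₁ : Subgroup G} {B' : Set (IrrCharacter G)} {e m q : ℕ} {φ : MulAut C} {hxC : x ∈ C}
  {ι w : MonoidAlgebra (localRing M ⧸ localIdeal M) C} {n : ℕ}
  {u v : Fin n → MonoidAlgebra (localRing M ⧸ localIdeal M) C} {τ : localRing M ⧸ localIdeal M} {s : ℕ}
  {P : Polynomial (localRing M ⧸ localIdeal M)}
  {w' : MonoidAlgebra (localRing M) C} {τ' : localRing M}

variable (L : Loc (M := M) p x t C T₁ f B' a e m q)
  (K : Pk (M := M) (p := p) (x := x) (t := t) (f := f) a e q φ hxC ι w u v τ s P w' τ')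

include L K

open Classical in
/-- **The rows.** -/
theorem Pk.rows {ψ₀ : IrrCharacter C} {R : Finset (IrrCharacter C)} (hψ₀ : ψ₀ ∈ f) (hfix : irrPerm φ ψ₀ = ψ₀)
    (hRf : ∀ r ∈ R, r ∈ f) (hψ₀R : ψ₀ ∉ R) (hRc : R.card * e = q - 1)
    (hcover : ∀ ψ ∈ f, ψ ≠ ψ₀ → ∃ r ∈ R, ∃ j < e, ((irrPerm φ) ^ j) r = ψ)
    (huniq : ∀ r ∈ R, ∀ r' ∈ R, ∀ j : ℕ, ((irrPerm φ) ^ j) r = r' → r = r')
    (hfree : ∀ ψ ∈ f, ψ ≠ ψ₀ → ∀ j : ℕ, ((irrPerm φ) ^ j) ψ = ψ → e ∣ j) (χ : IrrCharacter G) :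
    IsRow R (fun r => (mult C (χ : G → ℂ) r : ℤ) - (mult C (χ : G → ℂ) ψ₀ : ℤ)) ∧
      (χ ∉ B' → ∀ r ∈ R, (mult C (χ : G → ℂ) r : ℤ) - (mult C (χ : G → ℂ) ψ₀ : ℤ) = 0) := by
  obtain ⟨A, Lc, hLc, hval, hcard, hcase, hout⟩ := mult_structure L K χ
  have hq2 := K.S.hq
  have he := L.he
  set F := Finset.univ.filter (· ∈ f) with hF
  have hFm : ∀ ψ, ψ ∈ F ↔ ψ ∈ f := fun ψ => by simp [hF]
  have hFc : F.card = q := K.hcard
  set mm := fun ψ => mult C (χ : G → ℂ) ψ with hmm
  have hinv : ∀ ψ, mm (irrPerm φ ψ) = mm ψ := fun ψ =>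
    mult_comap (Cfsg.Agent.Lib.Blocks.Central.isClassFunction_of_irr χ.2) φ K.hφ ψ
  have hstab : ∀ ψ ∈ F, ψ ≠ ψ₀ → irrPerm φ ψ ∈ F ∧ irrPerm φ ψ ≠ ψ₀ := by
    intro ψ hψ hne
    refine ⟨(hFm _).2 (Pk.stable L K ((hFm _).1 hψ)), fun h => hne ?_⟩
    rw [← hfix] at h
    exact (irrPerm φ).injective h
  have hsum := orbit_sum (irrPerm φ) F R ψ₀ he
    (fun r hr => ⟨(hFm r).2 (hRf r hr), fun h => hψ₀R (h ▸ hr)⟩) hstab
    (fun ψ hψ hne => hcover ψ ((hFm ψ).1 hψ) hne) huniq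
    (fun ψ hψ hne j hj => hfree ψ ((hFm ψ).1 hψ) hne j hj)
    (fun ψ => if mm ψ = A + 1 then 1 else 0) (fun ψ _ _ => by simp only [hinv])
  have hψ₀F : ψ₀ ∈ F := (hFm _).2 hψ₀
  have hLc' : Lc = e * (R.filter (fun r => mm r = A + 1)).card + if mm ψ₀ = A + 1 then 1 else 0 := by
    have h1 : (Finset.univ.filter (fun ψ => ψ ∈ f ∧ mm ψ = A + 1)).card = ∑ ψ ∈ F, if mm ψ = A + 1 then 1 else 0 := by
      rw [← Finset.card_filter, hF, Finset.filter_filter]
    rw [← hcard, h1, ← Finset.add_sum_erase F _ hψ₀F, hsum, add_comm]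
    congr 2
    rw [Finset.card_filter]
  have hq1 : R.card * e + 1 = q := by omega
  refine ⟨row_of_orbit R mm (mm ψ₀) he hq1 (hval ψ₀ hψ₀) (fun r hr => hval r (hRf r hr)) hLc' hcase, ?_⟩
  intro hχ r hr
  have h0 := hout hχ
  have hempty : ∀ ψ ∈ f, mm ψ = A := by
    intro ψ hψ
    refine (hval ψ hψ).resolve_right fun h => ?_
    have h1 : ψ ∈ Finset.univ.filter (fun ψ => ψ ∈ f ∧ mult C (χ : G → ℂ) ψ = A + 1) :=
      Finset.mem_filter.2 ⟨Finset.mem_univ _, hψ, h⟩
    rw [Finset.card_eq_zero.1 (hcard.trans h0)] at h1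
    simp at h1
  have h1 := hempty r (hRf r hr)
  have h2 := hempty ψ₀ hψ₀
  simp only [hmm] at h1 h2
  rw [h1, h2, sub_self]

end Rows

end Cfsg.Agent.Lib.Dade
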