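import Mathlib
import Cfsg.Agent.Lib.Dade.DM
import Cfsg.Agent.Lib.Char.CompleteCor

/-!
# The Gram matrix of the induced virtual characters
-/

set_option autoImplicit false
set_option linter.unusedSectionVars false
set_option linter.style.haveILetI false

namespace Cfsg.Agent.Lib.Dade

open Module Matrix Cfsg Cfsg.Agent.Lib.Blocks.Local Cfsg.Agent.Lib.Blocks.Central Cfsg.Agent.Lib.Blocks.Osima
open Cfsg.Agent.Lib.Blocks.ModBlock Cfsg.Agent.Lib.DefectOne Cfsg.Agent.Lib.Blocks.Transport Cfsg.Agent.Lib.Char.Ortho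
open scoped ComplexConjugate

section Cyc

/-- In a cyclic group, an element of prime order is a power of any other. -/
lemma mem_zpowers_of_cyclic {H : Type*} [Group H] [Finite H] [IsCyclic H] {p : ℕ} [hp : Fact p.Prime] {x y : H}
    (hx : orderOf x = p) (hy : orderOf y = p) : y ∈ Subgroup.zpowers x := by
  classical
  letI : Fintype H := Fintype.ofFinite _
  have h1 := IsCyclic.card_pow_eq_one_le (α := H) (n := p) hp.out.pos
  set F := Finset.univ.filter (fun a : H => a ^ p = 1) with hF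
  set Z := Finset.univ.filter (fun a : H => a ∈ Subgroup.zpowers x) with hZ
  have hZF : Z ⊆ F := by
    intro a ha
    obtain ⟨i, rfl⟩ := Subgroup.mem_zpowers_iff.1 (Finset.mem_filter.1 ha).2
    refine Finset.mem_filter.2 ⟨Finset.mem_univ _, ?_⟩
    rw [← zpow_natCast, ← _root_.zpow_mul, mul_comm, _root_.zpow_mul, zpow_natCast, ← hx, pow_orderOf_eq_one, _root_.one_zpow]
  have hZc : Z.card = p := by
    have : Nat.card (Subgroup.zpowers x) = p := by rw [Nat.card_zpowers, hx]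
    rw [Nat.card_eq_fintype_card, Fintype.card_subtype] at this
    exact this
  have hEq : Z = F := Finset.eq_of_subset_of_card_le hZF (by omega)
  have hyF : y ∈ F := Finset.mem_filter.2 ⟨Finset.mem_univ _, by rw [← hy, pow_orderOf_eq_one]⟩
  rw [← hEq] at hyF
  exact (Finset.mem_filter.1 hyF).2

/-- Two elements of prime order in a cyclic subgroup generate the same subgroup. -/
lemma mem_zpowers_of_mem_zpowers {G : Type*} [Group G] [Finite G] {p : ℕ} [hp : Fact p.Prime] {x y c : G}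
    (hx : orderOf x = p) (hy : orderOf y = p) (hxc : x ∈ Subgroup.zpowers c) (hyc : y ∈ Subgroup.zpowers c) :
    y ∈ Subgroup.zpowers x := by
  have h1 := mem_zpowers_of_cyclic (H := Subgroup.zpowers c) (p := p) (x := ⟨x, hxc⟩) (y := ⟨y, hyc⟩)
    (by rw [Subgroup.orderOf_mk, hx]) (by rw [Subgroup.orderOf_mk, hy])
  obtain ⟨i, hi⟩ := Subgroup.mem_zpowers_iff.1 h1
  have h2 := congrArg Subtype.val hi
  simp only [Subgroup.coe_zpow] at h2
  exact Subgroup.mem_zpowers_iff.2 ⟨i, h2⟩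

variable {G : Type*} [Group G]

lemma orderOf_conj'' (g x : G) : orderOf (g * x * g⁻¹) = orderOf x := by
  have := orderOf_injective (MulAut.conj g).toMonoidHom (MulAut.conj g).injective x
  simpa [MulAut.conj_apply] using this

lemma conj_mem_zpowers_symm [Finite G] {p : ℕ} [hp : Fact p.Prime] {x g : G} (hx : orderOf x = p)
    (h : g * x * g⁻¹ ∈ Subgroup.zpowers x) : g⁻¹ * x * g ∈ Subgroup.zpowers x := by
  have h1 : x ∈ Subgroup.zpowers (g * x * g⁻¹) := by
    have h2 : Subgroup.zpowers (g * x * g⁻¹) = Subgroup.zpowers x := by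
      apply Subgroup.eq_of_le_of_card_ge ((Subgroup.zpowers_le).2 h)
      rw [Nat.card_zpowers, Nat.card_zpowers, orderOf_conj'']
    rw [h2]
    exact Subgroup.mem_zpowers x
  obtain ⟨i, hi⟩ := Subgroup.mem_zpowers_iff.1 h1
  refine Subgroup.mem_zpowers_iff.2 ⟨i, ?_⟩
  have h3 : (g * x * g⁻¹) ^ i = g * x ^ i * g⁻¹ := by
    have := map_zpow (MulAut.conj g).toMonoidHom x i
    simpa [MulAut.conj_apply] using this.symm
  rw [h3] at hi
  calc x ^ i = g⁻¹ * (g * x ^ i * g⁻¹) * g := by group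
    _ = g⁻¹ * x * g := by rw [hi]

lemma normalizer_of_conj {C : Subgroup G} [Finite G] {p : ℕ} [hp : Fact p.Prime] {x g : G} (hx : orderOf x = p)
    (hC : ∀ g, g ∈ C ↔ g * x = x * g) (h : g * x * g⁻¹ ∈ Subgroup.zpowers x) :
    g ∈ Subgroup.normalizer (C : Set G) := by
  have hcomm : ∀ u ∈ Subgroup.zpowers x, ∀ c ∈ C, c * u = u * c := by
    intro u hu c hc
    obtain ⟨i, rfl⟩ := Subgroup.mem_zpowers_iff.1 hu
    have h1 : Commute c x := (hC c).1 hc
    exact (h1.zpow_right i).eq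
  rw [Subgroup.mem_normalizer_iff]
  intro c
  constructor
  · intro hc
    have hc' : c ∈ C := hc
    show g * c * g⁻¹ ∈ C
    rw [hC]
    have h1 := hcomm _ (conj_mem_zpowers_symm hx h) c hc'
    calc g * c * g⁻¹ * x = g * (c * (g⁻¹ * x * g)) * g⁻¹ := by group
      _ = g * ((g⁻¹ * x * g) * c) * g⁻¹ := by rw [h1]
      _ = x * (g * c * g⁻¹) := by group
  · intro hc
    have hc' : g * c * g⁻¹ ∈ C := hc
    show c ∈ C
    rw [hC]
    have h1 := hcomm _ h (g * c * g⁻¹) hc'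
    have h2 : g * (c * x) * g⁻¹ = g * (x * c) * g⁻¹ := by
      calc g * (c * x) * g⁻¹ = (g * c * g⁻¹) * (g * x * g⁻¹) := by group
        _ = (g * x * g⁻¹) * (g * c * g⁻¹) := h1
        _ = g * (x * c) * g⁻¹ := by group
    exact mul_left_cancel (mul_right_cancel h2)

end Cyc

section Vee

variable {G : Type*} [Group G] [Fintype G] {C : Subgroup G} [Fintype C]

/-- The entry of the matrix. -/
noncomputable def vee (C : Subgroup G) [Fintype C] (χ : G → ℂ) (ψ₀ r : IrrCharacter C) : ℤ :=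
  (mult C χ r : ℤ) - (mult C χ ψ₀ : ℤ)

lemma vee_cast {χ : G → ℂ} (hχ : IsCharacter G χ) (ψ₀ r : IrrCharacter C) :
    ((vee C χ ψ₀ r : ℤ) : ℂ) = (Nat.card C : ℂ)⁻¹ * ∑ c : C, χ c * conj ((r : C → ℂ) c - (ψ₀ : C → ℂ) c) := by
  unfold vee
  push_cast
  rw [mult_spec C hχ, mult_spec C hχ, classInner, classInner, ← mul_sub, ← Finset.sum_sub_distrib]
  congr 1
  refine Finset.sum_congr rfl fun c _ => ?_
  rw [map_sub]
  ring

/-- The induced virtual character vanishes on the `p`-regular elements. -/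
theorem W_vanish {p : ℕ} [hp : Fact p.Prime] {ψ₀ r : IrrCharacter C}
    (hΘ : ∀ c : C, (r : C → ℂ) c ≠ (ψ₀ : C → ℂ) c → p ∣ orderOf (c : G)) {g : G} (hg : ¬ p ∣ orderOf g) :
    ∑ χ : IrrCharacter G, ((vee C (χ : G → ℂ) ψ₀ r : ℤ) : ℂ) * (χ : G → ℂ) g = 0 := by
  have h1 : ∀ χ : IrrCharacter G, ((vee C (χ : G → ℂ) ψ₀ r : ℤ) : ℂ) * (χ : G → ℂ) g =
      (Nat.card C : ℂ)⁻¹ * ∑ c : C, conj ((r : C → ℂ) c - (ψ₀ : C → ℂ) c) * ((χ : G → ℂ) c * conj ((χ : G → ℂ) g⁻¹)) := by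
    intro χ
    rw [vee_cast (Cfsg.Agent.Lib.Char.Basic.isCharacter_of_isIrrCharacter χ.2), mul_assoc, Finset.sum_mul]
    congr 1
    refine Finset.sum_congr rfl fun c _ => ?_
    rw [Cfsg.Agent.Lib.Char.Complete.isIrr_inv χ.2, Complex.conj_conj]
    ring
  rw [Finset.sum_congr rfl fun χ _ => h1 χ, ← Finset.mul_sum, Finset.sum_comm]
  rw [Finset.sum_eq_zero, mul_zero]
  intro c _
  rw [← Finset.mul_sum, ← Cfsg.Agent.Lib.Char.CompleteCor.conjCount_eq_sum]
  by_cases hc : (r : C → ℂ) c = (ψ₀ : C → ℂ) c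
  · rw [hc, sub_self, map_zero, zero_mul]
  · rw [Cfsg.Agent.Lib.Char.CompleteCor.conjCount_of_not_isConj, mul_zero]
    intro hconj
    apply hg
    have h2 := hΘ c hc
    obtain ⟨k, hk⟩ := isConj_iff.1 hconj
    have h3 : orderOf g = orderOf (c : G) := by
      rw [← orderOf_inv g, ← hk, orderOf_conj'']
    rw [h3]
    exact h2

/-- Orthogonality in the form of a sum. -/
lemma irr_sum (ξ η : IrrCharacter C) :
    ∑ c : C, (ξ : C → ℂ) c * conj ((η : C → ℂ) c) = (Nat.card C : ℂ) * if ξ = η then 1 else 0 := by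
  classical
  have h1 := classInner_irr ξ.2 η.2
  have hc : (Nat.card C : ℂ) ≠ 0 := by exact_mod_cast Nat.card_pos.ne'
  rw [classInner] at h1
  have h2 : (if (ξ : C → ℂ) = (η : C → ℂ) then (1 : ℂ) else 0) = if ξ = η then 1 else 0 := by
    by_cases h : ξ = η
    · rw [if_pos h, if_pos (congrArg _ h)]
    · rw [if_neg h, if_neg (fun h' => h (Subtype.ext h'))]
  rw [h2] at h1
  rw [← h1, ← mul_assoc, mul_inv_cancel₀ hc, one_mul]

/-- The expansion of the inner product. -/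
lemma inner_four (r ψ₀ ξ' ξ₀ : IrrCharacter C) :
    ∑ c : C, conj ((r : C → ℂ) c - (ψ₀ : C → ℂ) c) * ((ξ' : C → ℂ) c - (ξ₀ : C → ℂ) c) =
      (Nat.card C : ℂ) * ((if ξ' = r then 1 else 0) - (if ξ' = ψ₀ then 1 else 0) - (if ξ₀ = r then 1 else 0) +
        (if ξ₀ = ψ₀ then 1 else 0)) := by
  classical
  have h : ∀ c : C, conj ((r : C → ℂ) c - (ψ₀ : C → ℂ) c) * ((ξ' : C → ℂ) c - (ξ₀ : C → ℂ) c) =
      (ξ' : C → ℂ) c * conj ((r : C → ℂ) c) - (ξ' : C → ℂ) c * conj ((ψ₀ : C → ℂ) c) -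
        (ξ₀ : C → ℂ) c * conj ((r : C → ℂ) c) + (ξ₀ : C → ℂ) c * conj ((ψ₀ : C → ℂ) c) := by
    intro c
    rw [map_sub]
    ring
  rw [Finset.sum_congr rfl fun c _ => h c, Finset.sum_add_distrib, Finset.sum_sub_distrib, Finset.sum_sub_distrib,
    irr_sum, irr_sum, irr_sum, irr_sum]
  ring

end Vee

section Gram

variable {M : Ideal AlgInt} [hM : M.IsPrime] {G : Type*} [Group G] [Fintype G] {C : Subgroup G} [Fintype C]
  {f : Set (IrrCharacter C)} {a : MonoidAlgebra (localRing M) C} {p : ℕ} [hp : Fact p.Prime]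

variable {x t : G} {T₁ : Subgroup G} {B' : Set (IrrCharacter G)} {e m q : ℕ}

variable (L : Loc (M := M) p x t C T₁ f B' a e m q)

open Classical in
/-- The summand of the Gram matrix attached to a group element. -/
noncomputable def qq (r r' ψ₀ : IrrCharacter C) (g : G) : ℂ :=
  ∑ c : C, ∑ c' : C, if g * (c : G) * g⁻¹ = (c' : G) then
    conj ((r : C → ℂ) c - (ψ₀ : C → ℂ) c) * ((r' : C → ℂ) c' - (ψ₀ : C → ℂ) c') else 0

open Classical in
/-- The Gram matrix as a sum over the group. -/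
lemma gram_eq_sum (r r' ψ₀ : IrrCharacter C) :
    ∑ χ : IrrCharacter G, ((vee C (χ : G → ℂ) ψ₀ r : ℤ) : ℂ) * ((vee C (χ : G → ℂ) ψ₀ r' : ℤ) : ℂ) =
      ((Nat.card C : ℂ)⁻¹ * (Nat.card C : ℂ)⁻¹) * ∑ g : G, qq r r' ψ₀ g := by
  have h1 : ∀ χ : IrrCharacter G, ((vee C (χ : G → ℂ) ψ₀ r : ℤ) : ℂ) * ((vee C (χ : G → ℂ) ψ₀ r' : ℤ) : ℂ) =
      ((Nat.card C : ℂ)⁻¹ * (Nat.card C : ℂ)⁻¹) * ∑ c : C, ∑ c' : C,
        conj ((r : C → ℂ) c - (ψ₀ : C → ℂ) c) * ((r' : C → ℂ) c' - (ψ₀ : C → ℂ) c') *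
          ((χ : G → ℂ) c * conj ((χ : G → ℂ) c')) := by
    intro χ
    have hreal : ((vee C (χ : G → ℂ) ψ₀ r' : ℤ) : ℂ) = conj ((vee C (χ : G → ℂ) ψ₀ r' : ℤ) : ℂ) :=
      (map_intCast (starRingEnd ℂ) _).symm
    rw [hreal, vee_cast (Cfsg.Agent.Lib.Char.Basic.isCharacter_of_isIrrCharacter χ.2),
      vee_cast (Cfsg.Agent.Lib.Char.Basic.isCharacter_of_isIrrCharacter χ.2), map_mul, map_sum, map_inv₀, Complex.conj_natCast]
    rw [mul_mul_mul_comm, Finset.sum_mul_sum]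
    congr 1
    refine Finset.sum_congr rfl fun c _ => Finset.sum_congr rfl fun c' _ => ?_
    rw [map_mul, Complex.conj_conj]
    ring
  rw [Finset.sum_congr rfl fun χ _ => h1 χ, ← Finset.mul_sum]
  congr 1
  rw [Finset.sum_comm]
  have h2 : ∀ c : C, ∑ χ : IrrCharacter G, ∑ c' : C,
      conj ((r : C → ℂ) c - (ψ₀ : C → ℂ) c) * ((r' : C → ℂ) c' - (ψ₀ : C → ℂ) c') * ((χ : G → ℂ) c * conj ((χ : G → ℂ) c')) =
      ∑ c' : C, conj ((r : C → ℂ) c - (ψ₀ : C → ℂ) c) * ((r' : C → ℂ) c' - (ψ₀ : C → ℂ) c') *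
        ∑ g : G, if g * (c : G) * g⁻¹ = (c' : G) then 1 else 0 := by
    intro c
    rw [Finset.sum_comm]
    refine Finset.sum_congr rfl fun c' _ => ?_
    rw [← Finset.mul_sum, ← Cfsg.Agent.Lib.Char.CompleteCor.conjCount_eq_sum]
    congr 1
  rw [Finset.sum_congr rfl fun c _ => h2 c]
  unfold qq
  rw [Finset.sum_comm (s := Finset.univ (α := G))]
  refine Finset.sum_congr rfl fun c _ => ?_
  rw [Finset.sum_comm (s := Finset.univ (α := G))]
  refine Finset.sum_congr rfl fun c' _ => ?_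
  rw [Finset.mul_sum]
  refine Finset.sum_congr rfl fun g _ => ?_
  split_ifs
  · rw [mul_one]
  · rw [mul_zero]

include L in
/-- Elements not normalizing `⟨x⟩` contribute nothing. -/
lemma qq_eq_zero_of_not {r r' ψ₀ : IrrCharacter C}
    (hΘ : ∀ c : C, (r : C → ℂ) c ≠ (ψ₀ : C → ℂ) c → x ∈ Subgroup.zpowers (c : G))
    (hΘ' : ∀ c : C, (r' : C → ℂ) c ≠ (ψ₀ : C → ℂ) c → x ∈ Subgroup.zpowers (c : G)) {g : G}
    (hg : g * x * g⁻¹ ∉ Subgroup.zpowers x) : qq r r' ψ₀ g = 0 := by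
  classical
  unfold qq
  refine Finset.sum_eq_zero fun c _ => Finset.sum_eq_zero fun c' _ => ?_
  split_ifs with h
  · by_contra hne
    have h1 : (r : C → ℂ) c ≠ (ψ₀ : C → ℂ) c := by
      intro h2
      apply hne
      rw [h2, sub_self, map_zero, zero_mul]
    have h3 : (r' : C → ℂ) c' ≠ (ψ₀ : C → ℂ) c' := by
      intro h2
      apply hne
      rw [h2, sub_self, mul_zero]
    have h4 := hΘ c h1
    have h5 := hΘ' c' h3
    apply hg
    apply mem_zpowers_of_mem_zpowers L.ox (by rw [orderOf_conj'']; exact L.ox) h5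
    obtain ⟨i, hi⟩ := Subgroup.mem_zpowers_iff.1 h4
    refine Subgroup.mem_zpowers_iff.2 ⟨i, ?_⟩
    rw [← hi, ← h]
    have := map_zpow (MulAut.conj g).toMonoidHom (c : G) i
    simpa [MulAut.conj_apply] using this.symm
  · rfl

/-- The summand for elements normalizing `⟨x⟩`. -/
lemma qq_eq_of_normalizer {r r' ψ₀ : IrrCharacter C} {g : G} (hg : g ∈ Subgroup.normalizer (C : Set G)) :
    qq r r' ψ₀ g = (Nat.card C : ℂ) * ((if irrComap (cAut C g hg) r' = r then 1 else 0) -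
      (if irrComap (cAut C g hg) r' = ψ₀ then 1 else 0) - (if irrComap (cAut C g hg) ψ₀ = r then 1 else 0) +
        (if irrComap (cAut C g hg) ψ₀ = ψ₀ then 1 else 0)) := by
  classical
  rw [← inner_four]
  unfold qq
  refine Finset.sum_congr rfl fun c _ => ?_
  rw [Finset.sum_eq_single (cAut C g hg c)]
  · rw [if_pos (by simp)]
    simp only [coe_irrComap]
  · intro c' _ hc'
    rw [if_neg]
    intro h
    apply hc'
    apply Subtype.ext
    rw [← h]
    simp
  · intro h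
    exact absurd (Finset.mem_univ _) h

include L in
/-- Conjugation by elements outside the inertial group moves the block. -/
lemma Loc.not_mem_comap {g : G} (hg : g * x * g⁻¹ ∈ Subgroup.zpowers x) (hgN : g ∈ Subgroup.normalizer (C : Set G))
    (hgT : g ∉ T₁) {ψ : IrrCharacter C} (hψ : ψ ∈ f) : irrComap (cAut C g hgN) ψ ∉ f := by
  intro hξ
  set φ := cAut C g hgN with hφ
  have h1 := L.h1 g⁻¹ φ.symm (fun h => by simp [hφ]) (by simpa using hg) (fun h => hgT (by simpa using T₁.inv_mem h))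
  have h2 := congrArg (iota C M) h1
  rw [map_mul, map_zero, iota_dAut, L.ha] at h2
  have h3 := congrArg (omega ((irrComap φ ψ : IrrCharacter C) : C → ℂ)) h2
  rw [omega_mul (irrComap φ ψ).2 (isClassFunction_blockElt f), omega_blockElt_of_mem hξ, one_mul, omega_zero,
    omega_irrComap] at h3
  have h4 : dAut ℂ φ (dAut ℂ φ.symm (blockElt f)) = blockElt f := by
    rw [← dAut_mul_apply, show φ * φ.symm = 1 from mul_inv_cancel φ, dAut_one]
  rw [h4, omega_blockElt_of_mem hψ] at h3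
  exact one_ne_zero h3

end Gram

section GramMain

variable {M : Ideal AlgInt} [hM : M.IsPrime] {G : Type*} [Group G] [Fintype G] {C : Subgroup G} [Fintype C]
  {f : Set (IrrCharacter C)} {a : MonoidAlgebra (localRing M) C} {p : ℕ} [hp : Fact p.Prime]

variable {x t : G} {T₁ : Subgroup G} {B' : Set (IrrCharacter G)} {e m q : ℕ} {φ : MulAut C} {hxC : x ∈ C}
  {ι w : MonoidAlgebra (localRing M ⧸ localIdeal M) C} {n : ℕ}
  {u v : Fin n → MonoidAlgebra (localRing M ⧸ localIdeal M) C} {τ : localRing M ⧸ localIdeal M} {s : ℕ}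
  {P : Polynomial (localRing M ⧸ localIdeal M)}
  {w' : MonoidAlgebra (localRing M) C} {τ' : localRing M}

variable (L : Loc (M := M) p x t C T₁ f B' a e m q)
  (K : Pk (M := M) (p := p) (x := x) (t := t) (f := f) a e q φ hxC ι w u v τ s P w' τ')

include K in
/-- The powers of the automorphism. -/
lemma Pk.coe_pow_apply (i : ℕ) (h : C) : (((φ ^ i) h : C) : G) = t ^ i * h * (t ^ i)⁻¹ := by
  induction i generalizing h with
  | zero => simp
  | succ i ih =>
    rw [pow_succ, MulAut.mul_apply, ih, K.hφ, pow_succ]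
    group

include K in
/-- The conjugation by an element of the inertial group, on characters. -/
lemma Pk.comap_eq {i : ℕ} {c₀ : C} (hg : t ^ i * (c₀ : G) ∈ Subgroup.normalizer (C : Set G)) (ξ : IrrCharacter C) :
    irrComap (cAut C (t ^ i * (c₀ : G)) hg) ξ = ((irrPerm φ) ^ i) ξ := by
  apply Subtype.ext
  funext h
  have h1 : cAut C (t ^ i * (c₀ : G)) hg h = (φ ^ i) (c₀ * h * c₀⁻¹) := by
    apply Subtype.ext
    rw [cAut_apply, K.coe_pow_apply]
    simp only [Subgroup.coe_mul, InvMemClass.coe_inv]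
    group
  rw [coe_irrComap, h1, ← irrPerm_pow_apply]
  exact Cfsg.Agent.Lib.Blocks.Central.isClassFunction_of_irr ((irrPerm φ ^ i) ξ).2 h c₀

open Classical in
include L in
/-- The description of the inertial group. -/
lemma Loc.sum_T₁ {Q : G → ℂ} : (∑ g ∈ Finset.univ.filter (· ∈ T₁), Q g) =
    ∑ i ∈ Finset.range e, ∑ c : C, Q (t ^ i * (c : G)) := by
  classical
  have hte := L.hte
  have he := L.he
  have himg : Finset.univ.filter (· ∈ T₁) =
      (Finset.range e ×ˢ (Finset.univ : Finset C)).image (fun ic : ℕ × C => t ^ ic.1 * (ic.2 : G)) := by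
    ext g
    simp only [Finset.mem_filter, Finset.mem_univ, true_and, Finset.mem_image, Finset.mem_product, Finset.mem_range,
      and_true, Prod.exists]
    constructor
    · intro hg
      obtain ⟨i, c, hc, rfl⟩ := L.hTt g hg
      have h1 : t ^ (e * (i / e)) ∈ C := (hte _).2 (dvd_mul_right _ _)
      refine ⟨i % e, ⟨t ^ (e * (i / e)) * c, C.mul_mem h1 hc⟩, Nat.mod_lt _ he, ?_⟩
      simp only [Subgroup.coe_mul]
      rw [← mul_assoc, ← pow_add, Nat.mod_add_div]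
    · rintro ⟨i, c, -, rfl⟩
      exact T₁.mul_mem (T₁.pow_mem L.htT i) (L.hCT c.2)
  have hle : ∀ i j : ℕ, ∀ c d : C, i ≤ j → j < e → t ^ i * (c : G) = t ^ j * (d : G) → i = j ∧ c = d := by
    intro i j c d hij hj hh
    have h1 : t ^ (j - i) ∈ C := by
      have h2 : t ^ (j - i) = (c : G) * (d : G)⁻¹ := by
        have h3 : t ^ j = t ^ i * t ^ (j - i) := by rw [← pow_add, Nat.add_sub_cancel' hij]
        rw [h3, mul_assoc] at hh
        have h4 := mul_left_cancel hh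
        rw [h4]
        group
      rw [h2]
      exact C.mul_mem c.2 (C.inv_mem d.2)
    have h5 := (hte _).1 h1
    have h6 : j - i = 0 := Nat.eq_zero_of_dvd_of_lt h5 (by omega)
    have h7 : i = j := by omega
    subst h7
    exact ⟨rfl, Subtype.ext (mul_left_cancel hh)⟩
  have hinj : Set.InjOn (fun ic : ℕ × C => t ^ ic.1 * (ic.2 : G)) (Finset.range e ×ˢ (Finset.univ : Finset C) : Finset (ℕ × C)) := by
    rintro ⟨i, c⟩ h1 ⟨j, d⟩ h2 hh
    simp only [Finset.coe_product, Set.mem_prod, Finset.mem_coe, Finset.mem_range, Finset.coe_univ, Set.mem_univ, and_true] at h1 h2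
    simp only at hh
    rcases le_total i j with h3 | h3
    · obtain ⟨h4, h5⟩ := hle i j c d h3 h2 hh
      rw [h4, h5]
    · obtain ⟨h4, h5⟩ := hle j i d c h3 h1 hh.symm
      rw [h4, h5]
  rw [himg, Finset.sum_image hinj, Finset.sum_product]

include L K in
/-- **The Gram matrix.** -/
theorem Pk.gram (htx : t * x * t⁻¹ ∈ Subgroup.zpowers x)
    (hTI : ∀ ψ ∈ f, ∀ ψ' ∈ f, ∀ c : C, (ψ : C → ℂ) c ≠ (ψ' : C → ℂ) c → x ∈ Subgroup.zpowers (c : G))
    {ψ₀ r r' : IrrCharacter C} (hψ₀ : ψ₀ ∈ f) (hfix : irrPerm φ ψ₀ = ψ₀) (hr : r ∈ f) (hr' : r' ∈ f)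
    (hrne : r ≠ ψ₀) (hr'ne : r' ≠ ψ₀)
    (huniq : ∀ j : ℕ, ((irrPerm φ) ^ j) r' = r → r' = r)
    (hfree : ∀ j : ℕ, ((irrPerm φ) ^ j) r' = r' → e ∣ j) :
    ∑ χ : IrrCharacter G, vee C (χ : G → ℂ) ψ₀ r * vee C (χ : G → ℂ) ψ₀ r' = (e : ℤ) + if r = r' then 1 else 0 := by
  classical
  have hN : (Nat.card C : ℂ) ≠ 0 := by exact_mod_cast Nat.card_pos.ne'
  have he := L.he
  -- elements of the inertial group normalize `⟨x⟩`
  have h2 : ∀ i : ℕ, t ^ i * x * (t ^ i)⁻¹ ∈ Subgroup.zpowers x := by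
    intro i
    induction i with
    | zero => simp
    | succ i ih =>
      have h3 : t ^ (i + 1) * x * (t ^ (i + 1))⁻¹ = t ^ i * (t * x * t⁻¹) * (t ^ i)⁻¹ := by
        rw [pow_succ]
        group
      rw [h3]
      obtain ⟨k, hk⟩ := Subgroup.mem_zpowers_iff.1 htx
      rw [← hk]
      have h4 : t ^ i * x ^ k * (t ^ i)⁻¹ = (t ^ i * x * (t ^ i)⁻¹) ^ k := by
        have := map_zpow (MulAut.conj (t ^ i)).toMonoidHom x k
        simpa [MulAut.conj_apply] using this
      rw [h4]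
      exact Subgroup.zpow_mem _ ih _
  have hTx : ∀ g ∈ T₁, g * x * g⁻¹ ∈ Subgroup.zpowers x := by
    intro g hg
    obtain ⟨i, c, hc, rfl⟩ := L.hTt g hg
    have h1 : (c : G) * x * (c : G)⁻¹ = x := by
      rw [(L.hC c).1 hc]
      group
    have h5 : t ^ i * (c : G) * x * (t ^ i * (c : G))⁻¹ = t ^ i * x * (t ^ i)⁻¹ := by
      calc t ^ i * (c : G) * x * (t ^ i * (c : G))⁻¹ = t ^ i * ((c : G) * x * (c : G)⁻¹) * (t ^ i)⁻¹ := by group
        _ = _ := by rw [h1]
    rw [h5]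
    exact h2 i
  have hnorm : ∀ g, g * x * g⁻¹ ∈ Subgroup.zpowers x → g ∈ Subgroup.normalizer (C : Set G) :=
    fun g hg => normalizer_of_conj L.ox L.hC hg
  have hzero : ∀ g, g ∉ T₁ → qq r r' ψ₀ g = 0 := by
    intro g hg
    by_cases h1 : g * x * g⁻¹ ∈ Subgroup.zpowers x
    · have hgN := hnorm g h1
      rw [qq_eq_of_normalizer hgN]
      have hm1 := L.not_mem_comap h1 hgN hg hr'
      have hm2 := L.not_mem_comap h1 hgN hg hψ₀
      have key : ∀ ξ ψ : IrrCharacter C, ξ ∉ f → ψ ∈ f → ξ ≠ ψ := fun ξ ψ h3 h4 h5 => h3 (by rw [h5]; exact h4)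
      rw [if_neg (key _ _ hm1 hr), if_neg (key _ _ hm1 hψ₀), if_neg (key _ _ hm2 hr), if_neg (key _ _ hm2 hψ₀)]
      simp
    · exact qq_eq_zero_of_not L (hTI r hr ψ₀ hψ₀) (hTI r' hr' ψ₀ hψ₀) h1
  have hfixpow : ∀ i : ℕ, ((irrPerm φ) ^ i) ψ₀ = ψ₀ := by
    intro i
    induction i with
    | zero => simp
    | succ i ih => rw [pow_succ', Equiv.Perm.mul_apply, ih, hfix]
  have hval : ∀ i : ℕ, ∀ c : C, qq r r' ψ₀ (t ^ i * (c : G)) =
      (Nat.card C : ℂ) * ((if ((irrPerm φ) ^ i) r' = r then 1 else 0) + 1) := by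
    intro i c
    have hgT : t ^ i * (c : G) ∈ T₁ := T₁.mul_mem (T₁.pow_mem L.htT i) (L.hCT c.2)
    have hgN := hnorm _ (hTx _ hgT)
    rw [qq_eq_of_normalizer hgN, K.comap_eq hgN, K.comap_eq hgN, hfixpow]
    have h1 : ((irrPerm φ) ^ i) r' ≠ ψ₀ := by
      intro h
      apply hr'ne
      rw [← hfixpow i] at h
      exact ((irrPerm φ) ^ i).injective h
    rw [if_neg h1, if_neg (Ne.symm hrne), if_pos rfl]
    ring
  have hδ : ∑ i ∈ Finset.range e, (if ((irrPerm φ) ^ i) r' = r then (1 : ℂ) else 0) = if r = r' then 1 else 0 := by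
    by_cases h : r = r'
    · rw [if_pos h, h, Finset.sum_eq_single 0]
      · simp
      · intro i hi hi0
        rw [if_neg]
        intro h2
        have h3 := hfree i h2
        have h4 := Nat.eq_zero_of_dvd_of_lt h3 (Finset.mem_range.1 hi)
        exact hi0 h4
      · intro h2
        exact absurd (Finset.mem_range.2 he) h2
    · rw [if_neg h]
      refine Finset.sum_eq_zero fun i _ => ?_
      rw [if_neg]
      intro h2
      exact h (huniq i h2).symm
  have hsum : ∑ g : G, qq r r' ψ₀ g = (Nat.card C : ℂ) * (Nat.card C : ℂ) * ((if r = r' then 1 else 0) + (e : ℂ)) := by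
    rw [← Finset.sum_subset (Finset.subset_univ (Finset.univ.filter (· ∈ T₁)))
      (fun g _ hg => hzero g (fun h => hg (Finset.mem_filter.2 ⟨Finset.mem_univ _, h⟩))), L.sum_T₁]
    simp_rw [hval]
    have hstep : ∀ i, ∑ _c : C, (Nat.card C : ℂ) * ((if ((irrPerm φ) ^ i) r' = r then 1 else 0) + 1) =
        (Nat.card C : ℂ) * (Nat.card C : ℂ) * ((if ((irrPerm φ) ^ i) r' = r then 1 else 0) + 1) := by
      intro i
      rw [Finset.sum_const, Finset.card_univ, nsmul_eq_mul, ← Nat.card_eq_fintype_card, mul_assoc]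
    simp_rw [hstep]
    rw [← Finset.mul_sum, Finset.sum_add_distrib, hδ]
    simp
  have hcx := gram_eq_sum (G := G) r r' ψ₀
  rw [hsum] at hcx
  have h2 : ((∑ χ : IrrCharacter G, vee C (χ : G → ℂ) ψ₀ r * vee C (χ : G → ℂ) ψ₀ r' : ℤ) : ℂ) =
      (((e : ℤ) + if r = r' then 1 else 0 : ℤ) : ℂ) := by
    push_cast
    rw [hcx]
    field_simp
    ring
  exact_mod_cast h2

end GramMain

end Cfsg.Agent.Lib.Dade
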