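import Mathlib
import Cfsg.Agent.Lib.Dade.DN

/-!
# The main theorem from the local data
-/

set_option autoImplicit false
set_option linter.unusedSectionVars false
set_option linter.style.haveILetI false

namespace Cfsg.Agent.Lib.Dade

open Module Matrix Cfsg Cfsg.Agent.Lib.Blocks.Local Cfsg.Agent.Lib.Blocks.Central Cfsg.Agent.Lib.Blocks.Osima
open Cfsg.Agent.Lib.Blocks.ModBlock Cfsg.Agent.Lib.DefectOne Cfsg.Agent.Lib.Blocks.Transport Cfsg.Agent.Lib.Char.Ortho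
open scoped ComplexConjugate

section Main

variable {M : Ideal AlgInt} [hM : M.IsPrime] {G : Type*} [Group G] [Fintype G] {C : Subgroup G} [Fintype C]
  {f : Set (IrrCharacter C)} {a : MonoidAlgebra (localRing M) C} {p : ℕ} [hp : Fact p.Prime]

variable {x t : G} {T₁ : Subgroup G} {B' : Set (IrrCharacter G)} {e m q : ℕ} {φ : MulAut C} {hxC : x ∈ C}
  {ι w : MonoidAlgebra (localRing M ⧸ localIdeal M) C} {n : ℕ}
  {u v : Fin n → MonoidAlgebra (localRing M ⧸ localIdeal M) C} {τ : localRing M ⧸ localIdeal M} {s : ℕ}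
  {P : Polynomial (localRing M ⧸ localIdeal M)}
  {w' : MonoidAlgebra (localRing M) C} {τ' : localRing M}

variable (L : Loc (M := M) p x t C T₁ f B' a e m q)
  (K : Pk (M := M) (p := p) (x := x) (t := t) (f := f) a e q φ hxC ι w u v τ s P w' τ')

include L K in
open Classical in
/-- **The main theorem**, from the local data. -/
theorem final_of_local (hB : IsPBlock M B') (htx : t * x * t⁻¹ ∈ Subgroup.zpowers x)
    (hTI : ∀ ψ ∈ f, ∀ ψ' ∈ f, ∀ c : C, (ψ : C → ℂ) c ≠ (ψ' : C → ℂ) c → x ∈ Subgroup.zpowers (c : G))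
    (heq : e ∣ q - 1) {r₀ : ℕ} (hr₀ : r₀ * e = q - 1) (hcount : Nat.card B' = blockRank p B' + r₀)
    {b : ℕ} (hb : 1 ≤ b) (hdef : blockDefect p B' = b) :
    blockRank p B' = e ∧ (∀ χ ∈ B', blockHeight p B' (χ : G → ℂ) = 0) ∧
    ∃ X Y : Finset (IrrCharacter G), (∀ χ, χ ∈ B' ↔ χ ∈ X ∨ χ ∈ Y) ∧ Disjoint X Y ∧ X.card = e ∧ Y.card = r₀ ∧
      (∀ ψ ∈ Y, ∀ ψ' ∈ Y, ∀ g : G, ¬ p ∣ orderOf g → (ψ : G → ℂ) g = (ψ' : G → ℂ) g) ∧
      ∃ (δ : IrrCharacter G → ℤ) (δ₀ : ℤ), (∀ χ ∈ X, δ χ = 1 ∨ δ χ = -1) ∧ (δ₀ = 1 ∨ δ₀ = -1) ∧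
        (∀ ψ ∈ Y, ∀ g : G, ¬ p ∣ orderOf g → (δ₀ : ℂ) * (ψ : G → ℂ) g + ∑ χ ∈ X, (δ χ : ℂ) * (χ : G → ℂ) g = 0) ∧
        (∀ χ ∈ X, ∀ χ' ∈ X, δ χ * (charDegree (χ : G → ℂ) : ℤ) ≡ δ χ' * (charDegree (χ' : G → ℂ) : ℤ) [ZMOD (p : ℤ) ^ b]) ∧
        (∀ ψ ∈ Y, ∀ χ ∈ X, (charDegree (ψ : G → ℂ) : ℤ) ≡ -((e : ℤ) * δ₀ * δ χ * (charDegree (χ : G → ℂ) : ℤ)) [ZMOD (p : ℤ) ^ b]) := by
  obtain ⟨ψ₀, R, hψ₀, hfix, hRf, hψ₀R, hRc, hcover, huniq, hfree⟩ := K.orbit_structure L heq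
  have he := L.he
  have hq2 := K.S.hq
  have hRcard : R.card = r₀ := by
    have : R.card * e = r₀ * e := by rw [hRc, hr₀]
    exact Nat.eq_of_mul_eq_mul_right he this
  have hRne : R.Nonempty := by
    rw [← Finset.card_pos]
    by_contra h0
    have h1 : R.card = 0 := by omega
    rw [h1, zero_mul] at hRc
    omega
  have hne : ∀ r ∈ R, r ≠ ψ₀ := fun r hr h => hψ₀R (h ▸ hr)
  have hpe : ¬ p ∣ e := fun h => by
    have h1 := Nat.le_of_dvd he h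
    have h2 := L.hep
    omega
  have hrows := fun χ : IrrCharacter G => K.rows L hψ₀ hfix hRf hψ₀R hRc hcover huniq hfree χ
  have hmain := final_abstract (α := IrrCharacter C) L.hMp hB R hRne (fun χ r => vee C (χ : G → ℂ) ψ₀ r)
    (fun χ => (hrows χ).1) he
    (fun r hr r' hr' => K.gram L htx hTI hψ₀ hfix (hRf r hr) (hRf r' hr') (hne r hr) (hne r' hr')
      (fun j hj => huniq r' hr' r hr j hj) (fun j hj => hfree r' (hRf r' hr') (hne r' hr') j hj))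
    (fun r hr g hg => W_vanish (p := p) (fun c hc => by
      have h1 := hTI r (hRf r hr) ψ₀ hψ₀ c hc
      rw [← L.ox]
      exact orderOf_dvd_of_mem_zpowers h1) hg)
    (fun χ hχ r hr => (hrows χ).2 hχ r hr)
    (by rw [hRcard]; exact hcount) hpe hb hdef
  rw [hRcard] at hmain
  exact hmain

end Main

end Cfsg.Agent.Lib.Dade
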