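import Mathlib
import Cfsg.Agent.Lib.Dade.DO
import Cfsg.Agent.Lib.Blocks.Defect
import Cfsg.Agent.Lib.Blocks.Pairs21

/-!
# The hypotheses on the local block
-/

set_option autoImplicit false
set_option linter.unusedSectionVars false
set_option linter.style.haveILetI false

namespace Cfsg.Agent.Lib.Dade

open Module Matrix Cfsg Cfsg.Agent.Lib.Blocks.Local Cfsg.Agent.Lib.Blocks.Central Cfsg.Agent.Lib.Blocks.Osima
open Cfsg.Agent.Lib.Blocks.ModBlock Cfsg.Agent.Lib.DefectOne Cfsg.Agent.Lib.Blocks.Transport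
open Cfsg.Agent.Lib.Blocks.Pairs
open scoped ComplexConjugate Pointwise

universe u

section Sylow

variable {H : Type*} [Group H] [Finite H] {p : ℕ} [hp : Fact p.Prime]

/-- An element of order `p` centralizing `g₀` is conjugate, in the centralizer, into a given Sylow subgroup. -/
lemma exists_conj_mem_sylow {g₀ : H} (S : Sylow p (Subgroup.centralizer ({g₀} : Set H))) {y : H}
    (hy : y ∈ Subgroup.centralizer ({g₀} : Set H)) (hyp : orderOf y = p) :
    ∃ d ∈ Subgroup.centralizer ({g₀} : Set H), d * y * d⁻¹ ∈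
      (S : Subgroup (Subgroup.centralizer ({g₀} : Set H))).map (Subgroup.centralizer ({g₀} : Set H)).subtype := by
  let y' : Subgroup.centralizer ({g₀} : Set H) := ⟨y, hy⟩
  have hy' : orderOf y' = p := by
    rw [Subgroup.orderOf_mk, hyp]
  have hP : IsPGroup p (Subgroup.zpowers y') := by
    rw [IsPGroup.iff_card, Nat.card_zpowers, hy']
    exact ⟨1, (pow_one p).symm⟩
  obtain ⟨S', hS'⟩ := hP.exists_le_sylow
  obtain ⟨d, hd⟩ := MulAction.exists_smul_eq (Subgroup.centralizer ({g₀} : Set H)) S' S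
  subst hd
  refine ⟨d, d.2, ⟨d * y' * d⁻¹, ?_, rfl⟩⟩
  have h1 : y' ∈ (S' : Subgroup (Subgroup.centralizer ({g₀} : Set H))) := hS' (Subgroup.mem_zpowers y')
  have h2 : (MulAut.conj d) • y' ∈ (MulAut.conj d) • (S' : Subgroup (Subgroup.centralizer ({g₀} : Set H))) :=
    Subgroup.smul_mem_pointwise_smul _ _ _ h1
  exact h2

end Sylow

section Stab

variable {G : Type*} [Group G] [Finite G]

lemma comap_cAut_eq {K K' : Subgroup G} {g : G} (hg : g ∈ Subgroup.normalizer (K : Set G))
    (h : K.map (MulAut.conj g).toMonoidHom = K) (ξ : IrrCharacter K) :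
    irrComap (conjEq g h) ξ = irrComap (cAut K g hg) ξ := by
  apply Subtype.ext
  funext k
  simp only [coe_irrComap]
  congr 1

/-- Stabilizing a block in terms of characters. -/
lemma stab_iff_comap {K : Subgroup G} {f : Set (IrrCharacter K)} {g : G} (hg : g ∈ Subgroup.normalizer (K : Set G)) :
    StabilizesBlock K f g ↔ ∀ ξ, ξ ∈ f ↔ irrComap (cAut K g hg) ξ ∈ f := by
  rw [stabilizesBlock_iff]
  constructor
  · rintro ⟨hx, h⟩ ξ
    have h1 : ξ ∈ conjB g (map_conj_of_mem_normalizer hx) f ↔ irrComap (conjEq g (map_conj_of_mem_normalizer hx)) ξ ∈ f :=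
      mem_conjB
    rw [h, comap_cAut_eq (K' := K) hx] at h1
    exact h1
  · intro h
    refine ⟨hg, ?_⟩
    ext ξ
    rw [mem_conjB, comap_cAut_eq (K' := K) hg]
    exact (h ξ).symm

lemma blockMap_eq_of_stab {K : Subgroup G} {f : Set (IrrCharacter K)} {g : G} (hg : g ∈ Subgroup.normalizer (K : Set G))
    (hs : StabilizesBlock K f g) : blockMap (cAut K g hg) f = f := by
  ext ξ
  rw [mem_blockMap_iff]
  have h1 := (stab_iff_comap hg).1 hs (irrComap (cAut K g hg).symm ξ)
  rw [irrComap_irrComap_symm] at h1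
  exact h1

end Stab

section Local

variable {G : Type*} [Group G] [Fintype G] {M : Ideal AlgInt} [hM : M.IsPrime] {C : Subgroup G} [Fintype C]
  {f : Set (IrrCharacter C)} {a : MonoidAlgebra (localRing M) C} {p : ℕ} [hp : Fact p.Prime]

local notation "RR" => (localRing M)

/-- The action of the automorphism on a block idempotent. -/
lemma dAut_blockElt (φ : C ≃* C) (f : Set (IrrCharacter C)) :
    dAut ℂ φ (blockElt f) = blockElt (blockMap φ.symm f) := by
  apply MonoidAlgebra.ext
  apply Finsupp.ext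
  intro g
  rw [coeff_dAut, coeff_blockElt, coeff_blockElt, blockCoeff_blockMap]

lemma mem_normalizer_of_aut {g : G} {φ : MulAut C} (hφ : ∀ h : C, (φ h : G) = g * h * g⁻¹) :
    g ∈ Subgroup.normalizer (C : Set G) := by
  rw [Subgroup.mem_normalizer_iff]
  intro h
  constructor
  · intro hh
    have := (φ ⟨h, hh⟩).2
    rw [hφ] at this
    exact this
  · intro hh
    set k := φ.symm ⟨g * h * g⁻¹, hh⟩ with hk
    have h1 : (φ k : G) = g * h * g⁻¹ := by rw [hk]; simp
    rw [hφ] at h1
    have h2 : (k : G) = h := mul_left_cancel (mul_right_cancel h1)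
    rw [← h2]
    exact k.2

/-- Elements not stabilizing the block move it to an orthogonal one. -/
theorem mul_dAut_eq_zero (hf : IsPBlock M f) (ha : iota C M a = blockElt f) {g : G} {φ : MulAut C}
    (hφ : ∀ h : C, (φ h : G) = g * h * g⁻¹) (hns : ¬ StabilizesBlock C f g) : a * dAut RR φ a = 0 := by
  apply iota_injective
  rw [map_mul, map_zero, iota_dAut, ha, dAut_blockElt, blockElt_mul]
  have hgN := mem_normalizer_of_aut hφ
  have hφc : φ = cAut C g hgN := by
    ext h
    rw [hφ]
    rfl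
  have hempty : f ∩ blockMap φ.symm f = ∅ := by
    by_contra hne
    obtain ⟨ξ, hξ1, hξ2⟩ := Set.nonempty_iff_ne_empty.2 hne
    apply hns
    rw [stab_iff_comap hgN, ← hφc]
    have hf2 : IsPBlock M (blockMap φ.symm f) := isPBlock_blockMap _ hf
    have heq : blockMap φ.symm f = f := by
      obtain ⟨χ₁, rfl⟩ := id hf
      obtain ⟨χ₂, hχ₂⟩ := id hf2
      rw [hχ₂] at hξ2 ⊢
      rw [← blockOf_eq_of_mem hξ1, blockOf_eq_of_mem hξ2]
    intro ζ
    have h1 : ζ ∈ blockMap φ.symm f ↔ irrComap φ.symm.symm ζ ∈ f := mem_blockMap_iff _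
    rw [heq, MulEquiv.symm_symm] at h1
    exact h1
  rw [hempty]
  exact Cfsg.Agent.Lib.Blocks.Sections.blockElt_empty

/-- Elements stabilizing the block fix its idempotent. -/
theorem exists_aut_of_stab (ha : iota C M a = blockElt f) {g : G} (hs : StabilizesBlock C f g) :
    ∃ φ : MulAut C, (∀ h : C, (φ h : G) = g * h * g⁻¹) ∧ dAut RR φ a = a :=
  ⟨cAut C g hs.1, fun _ => rfl, dAut_lift_eq ha _ (blockMap_eq_of_stab hs.1 hs)⟩

end Local

end Cfsg.Agent.Lib.Dade
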