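import Mathlib
import Cfsg.Agent.Lib.Dade.DP

/-!
# Group theoretic lemmas for the local data
-/

set_option autoImplicit false
set_option linter.unusedSectionVars false
set_option linter.style.haveILetI false

namespace Cfsg.Agent.Lib.Dade

open Cfsg Cfsg.Agent.Lib.Blocks.Local Cfsg.Agent.Lib.Blocks.Central Cfsg.Agent.Lib.Blocks.Osima
open Cfsg.Agent.Lib.Blocks.Pairs

section Gen

variable {G : Type*} [Group G] [Finite G] {p : ℕ} [hp : Fact p.Prime]

/-- A generator of a cyclic `p`-group and its element of order `p`. -/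
lemma exists_gen_cyclic {D : Subgroup G} (hD : IsCyclic D) {a : ℕ} (ha : 1 ≤ a) (hDa : Nat.card D = p ^ a) :
    ∃ u₀ ∈ D, (∀ d ∈ D, d ∈ Subgroup.zpowers u₀) ∧ orderOf (u₀ ^ p ^ (a - 1)) = p := by
  obtain ⟨g, hg⟩ := IsCyclic.exists_generator (α := D)
  have ho : orderOf (g : G) = p ^ a := by
    rw [Subgroup.orderOf_coe, orderOf_eq_card_of_forall_mem_zpowers hg, hDa]
  refine ⟨g, g.2, fun d hd => ?_, ?_⟩
  · obtain ⟨i, hi⟩ := Subgroup.mem_zpowers_iff.1 (hg ⟨d, hd⟩)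
    refine Subgroup.mem_zpowers_iff.2 ⟨i, ?_⟩
    have := congrArg Subtype.val hi
    simpa using this
  · have h1 : p ∣ orderOf (g : G) := by
      rw [ho]
      exact dvd_pow_self p (by omega)
    have h2 := orderOf_pow_orderOf_div (x := (g : G)) (n := p) (by rw [ho]; exact (pow_pos hp.out.pos a).ne') h1
    have h3 : orderOf (g : G) / p = p ^ (a - 1) := by
      rw [ho]
      conv_lhs => rw [show a = a - 1 + 1 by omega, pow_succ]
      exact Nat.mul_div_cancel _ hp.out.pos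
    rwa [h3] at h2

/-- A generator of the quotient, of order prime to `p`. -/
lemma exists_pprime_generator {T N : Subgroup G} (hNT : N ≤ T) [hn : (N.subgroupOf T).Normal]
    (hcyc : IsCyclic (T ⧸ N.subgroupOf T)) {e : ℕ} (he : N.relIndex T = e) (hpe : ¬ p ∣ e) :
    ∃ t ∈ T, ∃ m : ℕ, t ^ m = 1 ∧ ¬ p ∣ m ∧ (∀ i : ℕ, t ^ i ∈ N ↔ e ∣ i) ∧ ∀ y ∈ T, ∃ i : ℕ, ∃ c ∈ N, y = t ^ i * c := by
  classical
  have hcard : Nat.card (T ⧸ N.subgroupOf T) = e := by
    rw [← he]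
    rfl
  obtain ⟨gen, hgen⟩ := IsCyclic.exists_generator (α := T ⧸ N.subgroupOf T)
  have hogen : orderOf gen = e := by
    rw [orderOf_eq_card_of_forall_mem_zpowers hgen, hcard]
  obtain ⟨t₀, rfl⟩ := QuotientGroup.mk_surjective gen
  have hpos : orderOf t₀ ≠ 0 := (orderOf_pos t₀).ne'
  obtain ⟨k, m, hm, hkm⟩ := Nat.exists_eq_pow_mul_and_not_dvd hpos p hp.out.ne_one
  set t' : T := t₀ ^ p ^ k with ht'
  have hcop : Nat.Coprime (p ^ k) e := Nat.Coprime.pow_left _ ((Nat.Prime.coprime_iff_not_dvd hp.out).2 hpe)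
  have hmk : ((t' : T) : T ⧸ N.subgroupOf T) = ((t₀ : T) : T ⧸ N.subgroupOf T) ^ p ^ k := rfl
  have ho : orderOf ((t' : T) : T ⧸ N.subgroupOf T) = e := by
    rw [hmk, Nat.Coprime.orderOf_pow (by rw [hogen]; exact hcop.symm), hogen]
  have hgen' : ∀ z : T ⧸ N.subgroupOf T, z ∈ Subgroup.zpowers ((t' : T) : T ⧸ N.subgroupOf T) := by
    have h1 : Subgroup.zpowers ((t' : T) : T ⧸ N.subgroupOf T) = ⊤ := by
      apply Subgroup.eq_top_of_card_eq
      rw [Nat.card_zpowers, ho, hcard]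
    intro z
    rw [h1]
    trivial
  have hone : ∀ i : ℕ, ((t' ^ i : T) : T ⧸ N.subgroupOf T) = 1 ↔ (t' : G) ^ i ∈ N := by
    intro i
    rw [QuotientGroup.eq_one_iff, Subgroup.mem_subgroupOf]
    simp
  refine ⟨t', t'.2, m, ?_, hm, ?_, ?_⟩
  · have h1 : t' ^ m = 1 := by
      rw [ht', ← pow_mul, ← hkm, pow_orderOf_eq_one]
    have := congrArg Subtype.val h1
    simpa using this
  · intro i
    rw [← hone, QuotientGroup.mk_pow, ← ho, orderOf_dvd_iff_pow_eq_one]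
  · intro y hy
    have h1 := hgen' ((⟨y, hy⟩ : T) : T ⧸ N.subgroupOf T)
    have h2 : ((⟨y, hy⟩ : T) : T ⧸ N.subgroupOf T) ∈ Submonoid.powers ((t' : T) : T ⧸ N.subgroupOf T) :=
      mem_powers_iff_mem_zpowers.2 h1
    obtain ⟨i, hi⟩ := h2
    refine ⟨i, ((t' : G) ^ i)⁻¹ * y, ?_, by group⟩
    have h3 : ((t' ^ i : T) : T ⧸ N.subgroupOf T) = ((⟨y, hy⟩ : T) : T ⧸ N.subgroupOf T) := by
      rw [QuotientGroup.mk_pow]
      exact hi
    have h4 := QuotientGroup.eq.1 h3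
    rw [Subgroup.mem_subgroupOf] at h4
    simpa using h4

end Gen

section TwoP

variable {G : Type*} [Group G] [Finite G] {p : ℕ} [hp : Fact p.Prime]

lemma mem_of_pow_mem {C : Subgroup G} {y : G} {e : ℕ} (hy : y ^ p = 1) (h1 : y ^ e ∈ C) (hcop : Nat.Coprime e p) :
    y ∈ C := by
  have hb : (e : ℤ) * Nat.gcdA e p + (p : ℤ) * Nat.gcdB e p = 1 := by
    have := Nat.gcd_eq_gcd_ab e p
    rw [hcop] at this
    push_cast at this
    linarith
  have h4 : y = (y ^ e) ^ (Nat.gcdA e p) * (y ^ p) ^ (Nat.gcdB e p) := by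
    calc y = y ^ ((e : ℤ) * Nat.gcdA e p + (p : ℤ) * Nat.gcdB e p) := by rw [hb, zpow_one]
      _ = y ^ ((e : ℤ) * Nat.gcdA e p) * y ^ ((p : ℤ) * Nat.gcdB e p) := zpow_add _ _ _
      _ = _ := by rw [zpow_mul, zpow_mul, zpow_natCast, zpow_natCast]
  rw [h4, hy, one_zpow, mul_one]
  exact Subgroup.zpow_mem C h1 _

/-- An element of order `p` of the inertial group lies in the centralizer. -/
lemma mem_of_mem_T {C T₁ : Subgroup G} {t y : G} {e : ℕ} (hCT : C ≤ T₁)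
    (hnorm : ∀ c ∈ C, ∀ i : ℕ, (t ^ i)⁻¹ * c * t ^ i ∈ C)
    (hTt : ∀ g ∈ T₁, ∃ i : ℕ, ∃ c ∈ C, g = t ^ i * c) (hte : ∀ i : ℕ, t ^ i ∈ C ↔ e ∣ i) (hpe : ¬ p ∣ e)
    (hy : y ^ p = 1) (hyT : y ∈ T₁) : y ∈ C := by
  obtain ⟨i, c, hc, rfl⟩ := hTt y hyT
  have hk : ∀ k : ℕ, ∃ d ∈ C, (t ^ i * c) ^ k = t ^ (i * k) * d := by
    intro k
    induction k with
    | zero => exact ⟨1, C.one_mem, by simp⟩
    | succ k ih =>
      obtain ⟨d, hd, h⟩ := ih
      refine ⟨((t ^ i)⁻¹ * d * t ^ i) * c, C.mul_mem (hnorm d hd i) hc, ?_⟩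
      rw [pow_succ, h, mul_add, mul_one, pow_add]
      group
  obtain ⟨d, hd, h⟩ := hk e
  have h1 : (t ^ i * c) ^ e ∈ C := by
    rw [h]
    exact C.mul_mem ((hte _).2 (dvd_mul_left _ _)) hd
  have hcop : Nat.Coprime e p := ((Nat.Prime.coprime_iff_not_dvd hp.out).2 hpe).symm
  exact mem_of_pow_mem hy h1 hcop

end TwoP

section H2

variable {H : Type*} [Group H] [Fintype H] {M : Ideal AlgInt} [hM : M.IsPrime] {p : ℕ} [hp : Fact p.Prime]
  {f : Set (IrrCharacter H)}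

/-- The idempotent vanishes (modulo the ideal) on the centralizer of a `p`-element outside `⟨x⟩`. -/
theorem coeff_local_of_not_in (hMp : IsPModular p M) (hf : IsPBlock M f) {D' : Subgroup H} (hD : IsDefectGroup p M f D')
    (hcyc : IsCyclic D') {x y z : H} (hxD : x ∈ D') (hx : orderOf x = p) (hxc : ∀ h, h * x = x * h)
    (hy : orderOf y = p) (hyx : y ∉ Subgroup.zpowers x) (hzy : z * y = y * z) :
    MemLocalIdeal M (blockCoeff f z) := by
  by_contra hne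
  obtain ⟨g₀, hg₀, S, hS⟩ := id hD
  obtain ⟨χ, rfl⟩ := id hf
  have hcl := hg₀.2.2 χ (mem_blockOf_self χ)
  have hP : IsPGroup p (Subgroup.zpowers y) := by
    rw [IsPGroup.iff_card, Nat.card_zpowers, hy]
    exact ⟨1, (pow_one p).symm⟩
  have hPc : z ∈ Subgroup.centralizer ((Subgroup.zpowers y : Subgroup H) : Set H) := by
    rw [Subgroup.mem_centralizer_iff]
    intro u hu
    obtain ⟨i, rfl⟩ := Subgroup.mem_zpowers_iff.1 hu
    have h1 : Commute y z := hzy.symm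
    exact (h1.zpow_left i).eq
  obtain ⟨u, hu1, hu2⟩ := Cfsg.Agent.Lib.Blocks.Defect.exists_isConj_mem_centralizer_of_block hMp hcl hne hP hPc
  obtain ⟨c, hc⟩ := isConj_iff.1 hu1
  have hyu : y * u = u * y := by
    have := Subgroup.mem_centralizer_iff.1 hu2 y (Subgroup.mem_zpowers y)
    exact this
  set y' := c⁻¹ * y * c with hy'
  have hy'c : y' ∈ Subgroup.centralizer ({g₀} : Set H) := by
    rw [Subgroup.mem_centralizer_iff]
    intro g hg
    have hg' : g = g₀ := hg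
    rw [hg']
    rw [← hc] at hyu
    have : c * (g₀ * y') * c⁻¹ = c * (y' * g₀) * c⁻¹ := by
      calc c * (g₀ * y') * c⁻¹ = (c * g₀ * c⁻¹) * y := by rw [hy']; group
        _ = y * (c * g₀ * c⁻¹) := hyu.symm
        _ = c * (y' * g₀) * c⁻¹ := by rw [hy']; group
    exact mul_left_cancel (mul_right_cancel this)
  have hoy' : orderOf y' = p := by
    have := orderOf_conj'' c⁻¹ y
    rw [inv_inv] at this
    rw [hy', this, hy]
  obtain ⟨d, -, hd⟩ := exists_conj_mem_sylow S hy'c hoy'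
  rw [← hS] at hd
  have h1 := mem_zpowers_of_cyclic (H := D') (p := p) (x := ⟨x, hxD⟩) (y := ⟨d * y' * d⁻¹, hd⟩)
    (by rw [Subgroup.orderOf_mk, hx]) (by rw [Subgroup.orderOf_mk, orderOf_conj'', hoy'])
  obtain ⟨i, hi⟩ := Subgroup.mem_zpowers_iff.1 h1
  have h2 : x ^ i = d * y' * d⁻¹ := by
    have := congrArg Subtype.val hi
    simpa using this
  apply hyx
  refine Subgroup.mem_zpowers_iff.2 ⟨i, ?_⟩
  have hcen : ∀ w : H, Commute w (x ^ i) := fun w => (show Commute w x from hxc w).zpow_right i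
  calc x ^ i = (c * d⁻¹) * (x ^ i) * (c * d⁻¹)⁻¹ := by
        rw [(hcen (c * d⁻¹)).eq]
        group
    _ = (c * d⁻¹) * (d * y' * d⁻¹) * (c * d⁻¹)⁻¹ := by rw [h2]
    _ = y := by rw [hy']; group

end H2

end Cfsg.Agent.Lib.Dade
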