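import Mathlib
import Cfsg.Agent.Lib.Dade.DQ
import Cfsg.Agent.S4648
import Cfsg.Agent.S4675

/-!
# Characters of a block with a central element: the values off `⟨x⟩`
-/

set_option autoImplicit false
set_option linter.unusedSectionVars false
set_option linter.style.haveILetI false

namespace Cfsg.Agent.Lib.Dade

open Cfsg Cfsg.Agent.Lib.Blocks.Local Cfsg.Agent.Lib.Blocks.Central Cfsg.Agent.Lib.Blocks.Osima
open Cfsg.Agent.Lib.Blocks.Pairs Cfsg.Agent.Lib.Blocks.Sections Cfsg.Agent.Lib.Blocks.AbelianCount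

universe u

section TI

variable {H : Type u} [Group H] [Fintype H] {M : Ideal AlgInt} [hM : M.IsPrime] {p : ℕ} [hp : Fact p.Prime]
  {f : Set (IrrCharacter H)}

/-- The inducers of the block in the centralizer of a `p`-element are nonempty, if some value does not vanish. -/
lemma exists_inducer_of_ne_zero (hMp : IsPModular p M) {ψ : IrrCharacter H} {u y : H} {k : ℕ} (ho : orderOf u = p ^ k)
    (hc : Commute u y) (hy : ¬ p ∣ orderOf y) (hne : (ψ : H → ℂ) (u * y) ≠ 0) :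
    ∃ ξ : IrrCharacter (Cen u), ξ ∈ inducers (Cen u) M (ψ : H → ℂ) := by
  classical
  letI : Fintype (Cen u) := Fintype.ofFinite _
  by_contra hcon
  push Not at hcon
  have hempty : inducers (Cen u) M (ψ : H → ℂ) = ∅ := Set.eq_empty_of_forall_notMem hcon
  let y' : Cen u := ⟨y, by
    rw [Subgroup.mem_centralizer_singleton_iff]
    exact hc.symm.eq⟩
  have hy' : ¬ p ∣ orderOf y' := by
    rw [← Subgroup.orderOf_coe]
    exact hy
  have h := blockPart_section hMp ho y' hy' ψ (isClassFunction_of_irr ψ.2)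
  rw [hempty, Cfsg.Agent.Lib.Blocks.BlockCount.blockPart_eq_self (mem_blockOf_self ψ), blockPart_eq_sum] at h
  apply hne
  rw [show (u * y) = u * (y' : H) from rfl, h]
  simp

/-- A nonvanishing value: the `p`-part is conjugate into the defect group. -/
theorem exists_conj_mem_of_ne_zero (hMp : IsPModular p M) (hf : IsPBlock M f) {D' : Subgroup H}
    (hD : IsDefectGroup p M f D') {ψ : IrrCharacter H} (hψ : ψ ∈ f) {u y : H} {k : ℕ} (ho : orderOf u = p ^ k)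
    (hc : Commute u y) (hy : ¬ p ∣ orderOf y) (hne : (ψ : H → ℂ) (u * y) ≠ 0) :
    ∃ g : H, g * u * g⁻¹ ∈ D' := by
  classical
  obtain ⟨ξ, hξ⟩ := exists_inducer_of_ne_zero hMp ho hc hy hne
  obtain ⟨e, hmax⟩ := Cfsg.Agent.S4648.exists_maximal_on_defect hMp hf hD
  have hQu : IsPGroup p (Subgroup.zpowers u) := by
    rw [IsPGroup.iff_card, Nat.card_zpowers]
    exact ⟨k, ho⟩
  obtain ⟨χ, rfl⟩ := id hf
  have hgen : ∀ K : Subgroup H, K = Cen u → ∀ ξ : IrrCharacter (Cen u), ξ ∈ inducers (Cen u) M (χ : H → ℂ) →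
      ∃ ξ' : IrrCharacter K, ξ' ∈ inducers K M (χ : H → ℂ) := by
    intro K hK ξ hξ
    subst hK
    exact ⟨ξ, hξ⟩
  have hχψ : inducers (Cen u) M (χ : H → ℂ) = inducers (Cen u) M (ψ : H → ℂ) := inducers_congr _ hψ
  obtain ⟨ξ', hξ'⟩ := hgen (CZ u) (cz_eq_cen u) ξ (by rw [hχψ]; exact hξ)
  letI : Fintype (CZ u) := Fintype.ofFinite _
  rw [Cfsg.Agent.Lib.Blocks.BlockCount.inducers_eq_biUnion] at hξ'
  simp only [Set.mem_iUnion, exists_prop, Set.mem_setOf_eq] at hξ'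
  obtain ⟨b, hb, -⟩ := hξ'
  have hbp := isBrauerPairOf_of_induced hQu hb
  obtain ⟨g, hg⟩ := exists_conj_subpairLE hMp hmax hbp
  refine ⟨g, SubpairLE.le hg ?_⟩
  exact ⟨u, Subgroup.mem_zpowers u, rfl⟩

/-- The values of the block outside the elements whose powers contain `x`. -/
theorem ti_of_cyclic (hMp : IsPModular p M) (hf : IsPBlock M f) {D' : Subgroup H} (hD : IsDefectGroup p M f D')
    (hcyc : IsCyclic D') {x : H} (hxD : x ∈ D') (hox : orderOf x = p) (hxc : ∀ h, h * x = x * h)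
    (hreg : ∀ ψ ∈ f, ∀ ψ' ∈ f, ∀ c : H, ¬ p ∣ orderOf c → (ψ : H → ℂ) c = (ψ' : H → ℂ) c) :
    ∀ ψ ∈ f, ∀ ψ' ∈ f, ∀ c : H, (ψ : H → ℂ) c ≠ (ψ' : H → ℂ) c → x ∈ Subgroup.zpowers c := by
  intro ψ hψ ψ' hψ' c hne
  obtain ⟨u, hu⟩ := Cfsg.Agent.Lib.Blocks.SecondMain.exists_isPPart p c
  obtain ⟨s, hs⟩ := isPPart_exists_pow_eq hu
  obtain ⟨y, hyc, hcomm, ⟨k, hk⟩, hy⟩ := hu
  have hu1 : u ≠ 1 := by
    rintro rfl
    rw [one_mul] at hyc
    subst hyc
    exact hne (hreg ψ hψ ψ' hψ' y hy)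
  -- a nonzero value
  have hex : ∃ χ ∈ f, (χ : H → ℂ) c ≠ 0 := by
    by_contra hcon
    push Not at hcon
    exact hne (by rw [hcon ψ hψ, hcon ψ' hψ'])
  obtain ⟨χ, hχ, hχc⟩ := hex
  rw [← hyc] at hχc
  obtain ⟨g, hg⟩ := exists_conj_mem_of_ne_zero hMp hf hD hχ hk hcomm hy hχc
  -- the conjugate is a nontrivial element of the cyclic defect group
  set v := g * u * g⁻¹ with hv
  have hv1 : v ≠ 1 := by
    intro h
    apply hu1
    have : u = g⁻¹ * v * g := by rw [hv]; group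
    rw [this, h]
    group
  have hvo : orderOf v = p ^ k := by
    rw [hv, ← hk]
    exact orderOf_conj'' g u
  have hk0 : k ≠ 0 := by
    rintro rfl
    rw [pow_zero, orderOf_eq_one_iff] at hvo
    exact hv1 hvo
  have hw : orderOf (v ^ p ^ (k - 1)) = p := by
    obtain ⟨k', rfl⟩ := Nat.exists_eq_succ_of_ne_zero hk0
    rw [orderOf_pow' _ (pow_ne_zero _ hp.out.ne_zero), hvo, Nat.succ_sub_one,
      Nat.gcd_eq_right (pow_dvd_pow p (Nat.le_succ k')), pow_succ, Nat.mul_div_cancel_left _ (pow_pos hp.out.pos _)]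
  have hxv' : x ∈ Subgroup.zpowers v := by
    haveI := hcyc
    have h1 := mem_zpowers_of_cyclic (H := D') (p := p) (x := ⟨v ^ p ^ (k - 1), D'.pow_mem hg _⟩) (y := ⟨x, hxD⟩)
      (by rw [Subgroup.orderOf_mk, hw]) (by rw [Subgroup.orderOf_mk, hox])
    obtain ⟨i, hi⟩ := Subgroup.mem_zpowers_iff.1 h1
    have h2 := congrArg Subtype.val hi
    simp only [Subgroup.coe_zpow] at h2
    rw [← h2]
    exact Subgroup.zpow_mem _ (Subgroup.pow_mem _ (Subgroup.mem_zpowers v) _) _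
  obtain ⟨i, hi⟩ := Subgroup.mem_zpowers_iff.mp hxv'
  have hxu : x = u ^ i := by
    have h1 : g * u ^ i * g⁻¹ = v ^ i := by
      rw [hv, conj_zpow]
    have h2 : g * u ^ i * g⁻¹ = x := h1.trans hi
    calc x = g⁻¹ * x * g := by
          have := hxc g⁻¹
          rw [this]
          group
      _ = u ^ i := by rw [← h2]; group
  rw [Subgroup.mem_zpowers_iff]
  refine ⟨(s : ℤ) * i, ?_⟩
  rw [zpow_mul, zpow_natCast, hs, ← hxu]

/-- Equal degrees and `p`-regular rank one: the characters agree on `p`-regular elements. -/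
theorem reg_eq_of_degree_eq (hMp : IsPModular p M) (hf : IsPBlock M f) {D' : Subgroup H} (hD : IsDefectGroup p M f D')
    (hl : blockRank p f = 1) {n : ℕ} (hn : ∀ ψ ∈ f, charDegree (ψ : H → ℂ) = n) :
    ∀ ψ ∈ f, ∀ ψ' ∈ f, ∀ c : H, ¬ p ∣ orderOf c → (ψ : H → ℂ) c = (ψ' : H → ℂ) c := by
  obtain ⟨φ, d, -, hφ, -⟩ := Cfsg.Agent.S4675.result p M hMp f hf D' hD hl
  have hreg1 : ¬ p ∣ orderOf (1 : H) := by
    rw [orderOf_one]
    exact fun h => hp.out.one_lt.ne' (Nat.dvd_one.mp h)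
  intro ψ hψ ψ' hψ' c hc
  have hn0 : (n : ℂ) ≠ 0 := by
    rw [← hn ψ hψ]
    exact_mod_cast Cfsg.Agent.Lib.Blocks.RegInt.charDegree_ne_zero ψ
  have h1 := hφ ψ hψ 1 hreg1
  have h2 := hφ ψ' hψ' 1 hreg1
  rw [← Cfsg.Agent.Lib.Blocks.RegInt.charDegree_cast, hn ψ hψ] at h1
  rw [← Cfsg.Agent.Lib.Blocks.RegInt.charDegree_cast, hn ψ' hψ'] at h2
  have hφ1 : φ 1 ≠ 0 := by
    intro h
    rw [h, mul_zero] at h1
    exact hn0 h1
  have hd : (d ψ : ℂ) = d ψ' := mul_right_cancel₀ hφ1 (h1.symm.trans h2)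
  rw [hφ ψ hψ c hc, hφ ψ' hψ' c hc, hd]

end TI

end Cfsg.Agent.Lib.Dade
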