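import Mathlib
import Cfsg.Agent.Lib.Dade.DR

/-!
# From the local data to the structure data
-/

set_option autoImplicit false
set_option linter.unusedSectionVars false
set_option linter.style.haveILetI false

namespace Cfsg.Agent.Lib.Dade

open Module Matrix Cfsg Cfsg.Agent.Lib.Blocks.Local Cfsg.Agent.Lib.Blocks.Central Cfsg.Agent.Lib.Blocks.Osima
open Cfsg.Agent.Lib.Blocks.ModBlock Cfsg.Agent.Lib.DefectOne Cfsg.Agent.Lib.Blocks.Transport
open Cfsg.Agent.Lib.Blocks.Pairs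

universe u

section StabConv

variable {G : Type u} [Group G] [Finite G]

/-- The stabilizer, in the form of the statements. -/
lemma stab_conv {K : Subgroup G} {b : Set (IrrCharacter K)} {g : G} (hg : g ∈ Subgroup.normalizer (K : Set G)) :
    StabilizesBlock K b g ↔ ∀ θ ∈ b, ∀ θ' : IrrCharacter K,
      (∀ h h' : K, (h' : G) = g * h * g⁻¹ → (θ' : K → ℂ) h' = (θ : K → ℂ) h) → θ' ∈ b := by
  constructor
  · rintro ⟨-, h⟩ θ hθ θ' hθ'
    obtain ⟨χ', hχ', hc⟩ := h θ hθ
    have : θ' = χ' := by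
      apply Subtype.ext
      funext k'
      have e : (k' : G) = g * (((cAut K g hg).symm k' : K) : G) * g⁻¹ := by
        rw [cAut_symm_apply]
        group
      rw [hθ' _ k' e, hc _ k' e]
    rwa [this]
  · intro h
    refine ⟨hg, fun χ hχ => ⟨irrComap (cAut K g hg).symm χ, h χ hχ _ ?_, ?_⟩⟩
    · intro k k' hk
      have : (cAut K g hg).symm k' = k := by
        apply Subtype.ext
        rw [cAut_symm_apply, hk]
        group
      rw [coe_irrComap, this]
    · intro k k' hk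
      have : (cAut K g hg).symm k' = k := by
        apply Subtype.ext
        rw [cAut_symm_apply, hk]
        group
      rw [coe_irrComap, this]

end StabConv

section PkEx

variable {G : Type u} [Group G] [Fintype G] {M : Ideal AlgInt} [hM : M.IsPrime] {p : ℕ} [hp : Fact p.Prime]
  {x t : G} {C T₁ : Subgroup G} [Fintype C] {f : Set (IrrCharacter C)} {B : Set (IrrCharacter G)}
  {a : MonoidAlgebra (localRing M) C} {e m : ℕ}

lemma coe_pow_cAut {g : G} (hg : g ∈ Subgroup.normalizer (C : Set G)) (i : ℕ) (h : C) :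
    ((((cAut C g hg) ^ i) h : C) : G) = g ^ i * h * (g ^ i)⁻¹ := by
  induction i generalizing h with
  | zero => simp
  | succ i ih =>
    rw [pow_succ, MulAut.mul_apply, ih, cAut_apply, pow_succ]
    group

lemma conj_pow_mem_zpowers (htx : t * x * t⁻¹ ∈ Subgroup.zpowers x) (i : ℕ) :
    t ^ i * x * (t ^ i)⁻¹ ∈ Subgroup.zpowers x := by
  induction i with
  | zero => simp
  | succ i ih =>
    obtain ⟨j, hj⟩ := Subgroup.mem_zpowers_iff.mp htx
    have h1 : t ^ (i + 1) * x * (t ^ (i + 1))⁻¹ = (t ^ i * x * (t ^ i)⁻¹) ^ j := by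
      rw [conj_zpow, hj, pow_succ]
      group
    rw [h1]
    exact Subgroup.zpow_mem _ ih _

open Classical in
/-- The structure data exist. -/
theorem exists_Pk {b₀ : ℕ} (L : Loc p x t C T₁ f B a e m (p ^ b₀)) (hb₀ : 1 ≤ b₀) (hf : IsPBlock M f)
    (hl : blockRank p f = 1) {D' : Subgroup C} (hD' : IsDefectGroup p M f D') (hcyc : IsCyclic D')
    (hcard : (Finset.univ.filter (· ∈ f)).card = p ^ b₀) (hxC : x ∈ C)
    (hst : StabilizesBlock C f t) (htx : t * x * t⁻¹ ∈ Subgroup.zpowers x) :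
    ∃ (n : ℕ) (ι w : MonoidAlgebra (localRing M ⧸ localIdeal M) C)
      (u v : Fin n → MonoidAlgebra (localRing M ⧸ localIdeal M) C) (τ : localRing M ⧸ localIdeal M) (s : ℕ)
      (P : Polynomial (localRing M ⧸ localIdeal M)) (w' : MonoidAlgebra (localRing M) C) (τ' : localRing M),
      Pk (p := p) (x := x) (t := t) (f := f) a e (p ^ b₀) (cAut C t hst.1) hxC ι w u v τ s P w' τ' := by
  classical
  have hMp := L.hMp
  haveI hch : CharP (localRing M ⧸ localIdeal M) p := Cfsg.Agent.Lib.Blocks.BlockHom.charP_residue hMp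
  set φ := cAut C t hst.1 with hφdef
  have hφ' : blockMap φ f = f := blockMap_eq_of_stab hst.1 hst
  have hpow : ∀ i : ℕ, ∀ h : C, (((φ ^ i) h : C) : G) = t ^ i * h * (t ^ i)⁻¹ := coe_pow_cAut hst.1
  have hm : ∀ h : C, φ^[m] h = h := by
    intro h
    rw [← mulAut_pow_apply]
    apply Subtype.ext
    rw [hpow, L.htm]
    group
  have hm' : ((m : ℕ) : localRing M ⧸ localIdeal M) ≠ 0 := by
    intro h0
    exact L.hpm ((CharP.cast_eq_zero_iff _ p m).mp h0)
  have h2q : 2 ≤ p ^ b₀ := by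
    calc 2 ≤ p := hp.out.two_le
      _ = p ^ 1 := (pow_one p).symm
      _ ≤ p ^ b₀ := Nat.pow_le_pow_right hp.out.pos hb₀
  obtain ⟨n, ι, w, u, v, τ, hn0, hdeg, S, hcι, hcw, hτm⟩ := exists_block_str hMp hf hl hD' hcyc L.ha
    (by rw [hcard]; exact h2q) φ hφ' hm hm'
  rw [hcard] at S
  have hx' : orderOf (⟨x, hxC⟩ : C) = p := by
    rw [Subgroup.orderOf_mk, L.ox]
  have hcx : ∀ h : C, (⟨x, hxC⟩ : C) * h = h * ⟨x, hxC⟩ := by
    intro h
    apply Subtype.ext
    exact ((L.hC h).mp h.2).symm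
  obtain ⟨s, P, -, hrel, hsp⟩ := exists_x_rel S hx' hcx
  have hs : s = 1 ∨ p ≤ s := by
    have h1 : s ∣ p ^ b₀ := ⟨p, hsp.symm⟩
    obtain ⟨j, -, hj⟩ := (Nat.dvd_prime_pow hp.out).mp h1
    rcases Nat.eq_zero_or_pos j with rfl | hj0
    · left
      simpa using hj
    · right
      rw [hj]
      calc p = p ^ 1 := (pow_one p).symm
        _ ≤ p ^ j := Nat.pow_le_pow_right hp.out.pos hj0
  have hce : dAut (localRing M ⧸ localIdeal M) φ (piR C M a) = piR C M a := by
    rw [← piR_dAut, dAut_lift_eq L.ha φ hφ']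
  have hτ : ∀ i : ℕ, τ ^ i = 1 ↔ e ∣ i := by
    intro i
    constructor
    · intro h1
      have hfx : (φ ^ i) (⟨x, hxC⟩ : C) ∈ Subgroup.zpowers (⟨x, hxC⟩ : C) := by
        have h2 := conj_pow_mem_zpowers htx i
        obtain ⟨j, hj⟩ := Subgroup.mem_zpowers_iff.mp h2
        refine Subgroup.mem_zpowers_iff.mpr ⟨j, ?_⟩
        apply Subtype.ext
        rw [hpow]
        simpa using hj
      have h3 := tau_fix S hx' hcx hcw hce h1 hfx
      have h4 := congrArg Subtype.val h3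
      rw [hpow] at h4
      rw [← L.hte, L.hC]
      simp only at h4
      calc t ^ i * x = t ^ i * x * (t ^ i)⁻¹ * t ^ i := by group
        _ = x * t ^ i := by rw [h4]
    · intro h1
      have h2 := (L.hte i).mpr h1
      exact tau_pow_of_inner S hcw (g := ⟨t ^ i, h2⟩) (fun h => by
        apply Subtype.ext
        rw [hpow]
        rfl)
  obtain ⟨τ', hτ'e, hτ'r⟩ := exists_root_lift (M := M) L.he ((hτ e).mpr (dvd_refl e))
  have hem : e ∣ m := by
    rw [← L.hte, L.htm]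
    exact C.one_mem
  have hτ'm : τ' ^ m = 1 := by
    obtain ⟨l, rfl⟩ := hem
    rw [pow_mul, hτ'e, one_pow]
  obtain ⟨w', hw'p, hw'a, hw'c, hw'φ⟩ := exists_eigen_lift L.ha S φ hφ' hm hm' hτ'm (by rw [hτ'r]; exact hcw)
  refine ⟨n, ι, w, u, v, τ, s, P, w', τ', ?_⟩
  exact {
    hφ := fun h => rfl
    hn := hn0
    S := S
    hcι := hcι
    hcw := hcw
    hτ := hτ
    hs := hs
    hsp := hsp
    hrel := hrel
    hτ'e := hτ'e
    hτ'r := hτ'r
    hw'p := hw'p
    hw'a := hw'a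
    hw'c := hw'c
    hw'φ := hw'φ
    hdeg := hdeg
    hcard := hcard }

end PkEx

section LocEx

variable {G : Type u} [Group G] [Fintype G] {M : Ideal AlgInt} [hM : M.IsPrime] {p : ℕ} [hp : Fact p.Prime]

open Cfsg.Agent.Lib.Blocks.AbelianCount

/-- The normalizer of `⟨x⟩`. -/
lemma mem_normalizer_zpowers {x g : G} (hx : orderOf x = p) (h : g * x * g⁻¹ ∈ Subgroup.zpowers x) :
    g ∈ Subgroup.normalizer ((Subgroup.zpowers x : Subgroup G) : Set G) := by
  rw [Subgroup.mem_normalizer_iff]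
  intro h'
  constructor
  · intro hh
    obtain ⟨i, rfl⟩ := Subgroup.mem_zpowers_iff.mp hh
    rw [← conj_zpow]
    exact Subgroup.zpow_mem _ h _
  · intro hh
    obtain ⟨i, hi⟩ := Subgroup.mem_zpowers_iff.mp hh
    have h1 : h' = (g⁻¹ * x * g) ^ i := by
      have : g⁻¹ * x * g = g⁻¹ * x * g⁻¹⁻¹ := by simp
      rw [this, conj_zpow, hi]
      group
    rw [h1]
    exact Subgroup.zpow_mem _ (conj_mem_zpowers_symm hx h) _

lemma mem_CZ_iff {x g : G} : g ∈ CZ x ↔ g * x = x * g := by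
  rw [cz_eq_cen, Subgroup.mem_centralizer_singleton_iff]

/-- The local data, from the data of the defect group. -/
theorem loc_of_data (hMp : IsPModular p M) {x t : G} [Fintype (CZ x)] {T₁ : Subgroup G}
    {f : Set (IrrCharacter (CZ x))} {B : Set (IrrCharacter G)}
    (hT₁ : ∀ y : G, y ∈ T₁ ↔ y ∈ Subgroup.normalizer ((Subgroup.zpowers x : Subgroup G) : Set G) ∧
      StabilizesBlock (CZ x) f y)
    (hf : IsPBlock M f) (hox : orderOf x = p) (hind : IsInducedBlock M (CZ x) f B) {e m : ℕ} (htT : t ∈ T₁)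
    (hTt : ∀ g ∈ T₁, ∃ i : ℕ, ∃ c ∈ CZ x, g = t ^ i * c) (hte : ∀ i : ℕ, t ^ i ∈ CZ x ↔ e ∣ i)
    (htm : t ^ m = 1) (hpm : ¬ p ∣ m) (he : 0 < e) (hep : e < p) {D' : Subgroup (CZ x)}
    (hD' : IsDefectGroup p M f D') (hcyc : IsCyclic D') (hxC : x ∈ CZ x) (hxD : (⟨x, hxC⟩ : CZ x) ∈ D') (q : ℕ) :
    Loc p x t (CZ x) T₁ f B (lcL (blockElt f) (blockElt_mem_localCenter hf)) e m q := by
  classical
  obtain ⟨h1', h2', h3', h4', h5'⟩ := stabilizer_facts hT₁
  have ha := iota_lcL (M := M) (blockElt f) (blockElt_mem_localCenter hf)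
  have hpe : ¬ p ∣ e := Nat.not_dvd_of_pos_of_lt he hep
  have hC : ∀ g, g ∈ CZ x ↔ g * x = x * g := fun g => mem_CZ_iff
  refine {
    hMp := hMp
    ox := hox
    hC := hC
    ha := ha
    hind := hind
    hCT := h2'
    htT := htT
    hTt := hTt
    hte := hte
    htm := htm
    hpm := hpm
    he := he
    hep := hep
    hstab := fun g hg => exists_aut_of_stab ha (h5' g hg)
    h1 := ?_
    h2 := ?_
    h2' := ?_ }
  · intro g φ hφ hgx hgT
    have hgx' : g * x * g⁻¹ ∈ Subgroup.zpowers x := by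
      have := conj_mem_zpowers_symm (g := g⁻¹) hox (by simpa using hgx)
      simpa using this
    have hgN := mem_normalizer_zpowers hox hgx'
    have hns : ¬ StabilizesBlock (CZ x) f g := fun hs => hgT ((hT₁ g).mpr ⟨hgN, hs⟩)
    exact mul_dAut_eq_zero hf ha hφ hns
  · intro g hgC hgnot z hz
    have hy : orderOf (⟨g⁻¹ * x * g, hgC⟩ : CZ x) = p := by
      rw [Subgroup.orderOf_mk]
      have := orderOf_conj'' g⁻¹ x
      rw [inv_inv] at this
      rw [this, hox]
    have hyx : (⟨g⁻¹ * x * g, hgC⟩ : CZ x) ∉ Subgroup.zpowers (⟨x, hxC⟩ : CZ x) := by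
      intro h
      obtain ⟨i, hi⟩ := Subgroup.mem_zpowers_iff.mp h
      have := congrArg Subtype.val hi
      apply hgnot
      refine Subgroup.mem_zpowers_iff.mpr ⟨i, ?_⟩
      simpa using this
    have hzy : z * (⟨g⁻¹ * x * g, hgC⟩ : CZ x) = ⟨g⁻¹ * x * g, hgC⟩ * z := Subtype.ext hz
    have hxc : ∀ h : CZ x, h * (⟨x, hxC⟩ : CZ x) = ⟨x, hxC⟩ * h := fun h => Subtype.ext ((hC h).mp h.2)
    have hox' : orderOf (⟨x, hxC⟩ : CZ x) = p := by
      rw [Subgroup.orderOf_mk, hox]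
    have h0 := coeff_local_of_not_in hMp hf hD' hcyc hxD hox' hxc hy hyx hzy
    rw [mem_localIdeal, ← coeff_iota, ha, coeff_blockElt]
    exact h0
  · intro g hgT
    have hy : (g⁻¹ * x * g) ^ p = 1 := by
      have h1 : g⁻¹ * x * g = g⁻¹ * x * g⁻¹⁻¹ := by simp
      rw [h1, conj_pow, ← hox, pow_orderOf_eq_one]
      group
    refine mem_of_mem_T (p := p) (e := e) (t := t) h2' ?_ hTt hte hpe hy hgT
    intro c hc i
    have h1 := T₁.pow_mem htT i
    have h2 := h4' h1
    rw [Subgroup.mem_normalizer_iff] at h2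
    rw [h2 ((t ^ i)⁻¹ * c * t ^ i)]
    have : t ^ i * ((t ^ i)⁻¹ * c * t ^ i) * (t ^ i)⁻¹ = c := by group
    rw [this]
    exact hc

end LocEx

end Cfsg.Agent.Lib.Dade
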