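import Mathlib
import Cfsg.Agent.Lib.Dade.DS
import Cfsg.Agent.S4689
import Cfsg.Agent.S4633
import Cfsg.Agent.Lib.Blocks.RepFin4

/-!
# The count of the block
-/

set_option autoImplicit false
set_option linter.unusedSectionVars false
set_option linter.style.haveILetI false

namespace Cfsg.Agent.Lib.Dade

open Cfsg Cfsg.Agent.Lib.Blocks.Local Cfsg.Agent.Lib.Blocks.Central Cfsg.Agent.Lib.Blocks.Osima
open Cfsg.Agent.Lib.Blocks.Pairs Cfsg.Agent.Lib.Blocks.AbelianCount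

universe u

section Count

variable {G : Type u} [Group G] [Fintype G] {M : Ideal AlgInt} [hM : M.IsPrime] {p : ℕ} [hp : Fact p.Prime]

/-- The local blocks of rank one. -/
theorem rank_of_free (hMp : IsPModular p M) {B : Set (IrrCharacter G)} {D T : Subgroup G} (hBD : IsDefectGroup p M B D)
    (hab : ∀ x ∈ D, ∀ y ∈ D, x * y = y * x) (hDp : IsPGroup p D)
    {c : Set (IrrCharacter (Subgroup.centralizer (D : Set G)))}
    (hc : IsInducedBlock M (Subgroup.centralizer (D : Set G)) c B)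
    (hT : ∀ g : G, g ∈ T ↔ g ∈ Subgroup.normalizer (D : Set G) ∧ StabilizesBlock (Subgroup.centralizer (D : Set G)) c g)
    (hfree : ∀ g ∈ T, ∀ x ∈ D, x ≠ 1 → g * x * g⁻¹ = x → g ∈ Subgroup.centralizer (D : Set G))
    {y : G} (hy : y ∈ D) (hy1 : y ≠ 1) {f : Set (IrrCharacter (CZ y))}
    (hf : IsNormalSubpair p M (Subgroup.zpowers y) f D c) : blockRank p f = 1 := by
  have hPK : ∀ Q : Subgroup G, Q ≤ D → D ≤ Subgroup.centralizer (Q : Set G) := fun Q hQ u hu =>
    Subgroup.mem_centralizer_iff.mpr fun q hq => hab q (hQ hq) u hu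
  have hzP := Subgroup.zpowers_le.mpr hy
  have hind := isInducedBlockIn_of_normal hMp hzP (hPK _ hzP) hf
  have hnil := (free_iff_local_nilpotent hMp hBD hab hDp hc hT).mp hfree _ hzP
    (by
      intro h
      exact hy1 (Subgroup.zpowers_eq_bot.mp h)) _ hind
  letI : Fintype (CZ y) := Fintype.ofFinite _
  exact (Cfsg.Agent.S4689.result p M hMp _ hnil).1

lemma pow_conj_eq (t y : G) (i : ℕ) :
    (((MulAut.conj t).toEquiv : Equiv.Perm G) ^ i) y = t ^ i * y * (t ^ i)⁻¹ := by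
  induction i generalizing y with
  | zero => simp
  | succ i ih =>
    rw [pow_succ, Equiv.Perm.mul_apply, ih, pow_succ]
    simp only [MulEquiv.toEquiv_eq_coe, EquivLike.coe_coe, MulAut.conj_apply]
    group

/-- The orbit representatives. -/
theorem exists_reps {D T : Subgroup G} (hTD : T ≤ Subgroup.normalizer (D : Set G))
    (hfree : ∀ g ∈ T, ∀ x ∈ D, x ≠ 1 → g * x * g⁻¹ = x → g ∈ Subgroup.centralizer (D : Set G))
    {t : G} (htT : t ∈ T) {e : ℕ} (he0 : 0 < e) (hte : ∀ i : ℕ, t ^ i ∈ Subgroup.centralizer (D : Set G) ↔ e ∣ i)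
    (hgen : ∀ y ∈ T, ∃ i : ℕ, ∃ c ∈ Subgroup.centralizer (D : Set G), y = t ^ i * c) :
    ∃ R : Finset G, (∀ y ∈ R, y ∈ D ∧ y ≠ 1) ∧ (∀ y ∈ D, y ≠ 1 → ∃! r, r ∈ R ∧ ∃ t' ∈ T, t' * y * t'⁻¹ = r) ∧
      R.card * e = Nat.card D - 1 := by
  classical
  set Y : Finset G := Finset.univ.filter (fun y => y ∈ D ∧ y ≠ 1) with hYdef
  have hYmem : ∀ y, y ∈ Y ↔ y ∈ D ∧ y ≠ 1 := fun y => by simp [hYdef]
  have hYc : Y.card = Nat.card D - 1 := by
    have h1 : Y = (Finset.univ.filter (· ∈ D)).erase 1 := by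
      ext y
      simp [hYdef, and_comm]
    rw [h1, Finset.card_erase_of_mem (by simp [D.one_mem]), Nat.card_eq_fintype_card, Fintype.card_subtype]
  set σ : Equiv.Perm G := (MulAut.conj t).toEquiv with hσ
  have hσp : ∀ i y, (σ ^ i) y = t ^ i * y * (t ^ i)⁻¹ := fun i y => pow_conj_eq t y i
  have hσ1 : ∀ y, σ y = t * y * t⁻¹ := fun y => rfl
  have hmemD : ∀ g ∈ T, ∀ y ∈ D, g * y * g⁻¹ ∈ D := fun g hg y hy =>
    (Subgroup.mem_normalizer_iff.mp (hTD hg) y).mp hy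
  obtain ⟨R, hRY, hRc, hcov, huniq⟩ := exists_orbit_reps_iter σ he0 Y
    (by
      intro y hy
      obtain ⟨h1, h2⟩ := (hYmem y).mp hy
      refine (hYmem _).mpr ⟨by rw [hσ1]; exact hmemD t htT y h1, ?_⟩
      intro h
      apply h2
      rw [hσ1] at h
      have h5 : y = t⁻¹ * (t * y * t⁻¹) * t := by group
      rw [h5, h]
      group)
    (by
      intro y hy
      obtain ⟨h1, h2⟩ := (hYmem y).mp hy
      rw [hσp]
      have h3 := (hte e).mpr (dvd_refl e)
      have h4 := Subgroup.mem_centralizer_iff.mp h3 y h1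
      rw [← h4]
      group)
    (by
      intro y hy j hj
      obtain ⟨h1, h2⟩ := (hYmem y).mp hy
      rw [hσp] at hj
      exact (hte j).mp (hfree _ (T.pow_mem htT j) y h1 h2 hj))
  refine ⟨R, fun y hy => (hYmem y).mp (hRY hy), ?_, by rw [hRc, hYc]⟩
  intro y hy hy1
  obtain ⟨r, hr, j, -, hj⟩ := hcov y ((hYmem y).mpr ⟨hy, hy1⟩)
  refine ⟨r, ⟨hr, (t ^ j)⁻¹, T.inv_mem (T.pow_mem htT j), ?_⟩, ?_⟩
  · rw [hσp] at hj
    rw [← hj]
    group
  · rintro r' ⟨hr', t', ht', hr't⟩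
    have hj' : y = t ^ j * r * (t ^ j)⁻¹ := by
      rw [← hσp, hj]
    obtain ⟨i, c, hc, hic⟩ := hgen (t' * t ^ j) (T.mul_mem ht' (T.pow_mem htT j))
    have hrD : r ∈ D := ((hYmem r).mp (hRY hr)).1
    have hcr : c * r * c⁻¹ = r := by
      have := Subgroup.mem_centralizer_iff.mp hc r hrD
      rw [← this]
      group
    have h1 : (σ ^ i) r = r' := by
      rw [hσp, ← hr't, hj']
      have h2 : t' * (t ^ j * r * (t ^ j)⁻¹) * t'⁻¹ = (t' * t ^ j) * r * (t' * t ^ j)⁻¹ := by group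
      rw [h2, hic]
      have h3 : t ^ i * c * r * (t ^ i * c)⁻¹ = t ^ i * (c * r * c⁻¹) * (t ^ i)⁻¹ := by group
      rw [h3, hcr]
    exact (huniq r hr r' hr' i h1).symm

/-- The count of the block. -/
theorem count_final (hMp : IsPModular p M) {B : Set (IrrCharacter G)} (hB : IsPBlock M B) {D T : Subgroup G}
    (hBD : IsDefectGroup p M B D) (hab : ∀ x ∈ D, ∀ y ∈ D, x * y = y * x) (hDp : IsPGroup p D)
    {c : Set (IrrCharacter (Subgroup.centralizer (D : Set G)))}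
    (hmax : IsMaximalBrauerPair p M B D c)
    (hc : IsInducedBlock M (Subgroup.centralizer (D : Set G)) c B)
    (hT : ∀ g : G, g ∈ T ↔ g ∈ Subgroup.normalizer (D : Set G) ∧ StabilizesBlock (Subgroup.centralizer (D : Set G)) c g)
    (hfree : ∀ g ∈ T, ∀ x ∈ D, x ≠ 1 → g * x * g⁻¹ = x → g ∈ Subgroup.centralizer (D : Set G))
    {t : G} (htT : t ∈ T) {e : ℕ} (he0 : 0 < e) (hte : ∀ i : ℕ, t ^ i ∈ Subgroup.centralizer (D : Set G) ↔ e ∣ i)
    (hgen : ∀ y ∈ T, ∃ i : ℕ, ∃ c ∈ Subgroup.centralizer (D : Set G), y = t ^ i * c) :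
    ∃ R : Finset G, R.card * e = Nat.card D - 1 ∧ Nat.card B = blockRank p B + R.card := by
  classical
  obtain ⟨-, -, h3, -, -⟩ := stabilizer_facts hT
  obtain ⟨R, hR, hR', hRc⟩ := exists_reps h3 hfree htT he0 hte hgen
  refine ⟨R, hRc, ?_⟩
  have hDe := hmax.1.1
  have hPK : ∀ Q : Subgroup G, Q ≤ D → D ≤ Subgroup.centralizer (Q : Set G) := fun Q hQ u hu =>
    Subgroup.mem_centralizer_iff.mpr fun q hq => hab q (hQ hq) u hu
  have hex : ∀ y : G, ∃ f : Set (IrrCharacter (CZ y)), y ∈ D →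
      IsNormalSubpair p M (Subgroup.zpowers y) f D c := by
    intro y
    by_cases hy : y ∈ D
    · obtain ⟨f, hf, -⟩ := existsUnique_normal_subpair hMp hDe (Subgroup.zpowers_le.mpr hy)
        ((hPK _ (Subgroup.zpowers_le.mpr hy)).trans
          (Cfsg.Agent.Lib.Blocks.FirstMain.centralizer_le_normalizer' _))
      exact ⟨f, fun _ => hf⟩
    · exact ⟨∅, fun h => absurd h hy⟩
  choose F hF using hex
  obtain ⟨χ₀, rfl⟩ := id hB
  have hcount := card_eq_rank_add_sum (p := p) hMp χ₀ hmax hab hT R hR hR' F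
    (fun y hy => ⟨(hF y (hR y hy).1).1.2, Relation.ReflTransGen.single (hF y (hR y hy).1)⟩)
  have hsum : ∑ y ∈ R, blockRank p (F y) = R.card := by
    rw [Finset.sum_congr rfl (fun y hy => rank_of_free hMp hBD hab hDp hc hT hfree (hR y hy).1 (hR y hy).2
      (hF y (hR y hy).1))]
    simp
  rw [hsum] at hcount
  exact hcount

end Count

end Cfsg.Agent.Lib.Dade
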