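import Mathlib
import Cfsg.Agent.Lib.Dade.DT
import Cfsg.Agent.S4649

/-!
# Blocks with cyclic defect groups: the main theorem
-/

set_option autoImplicit false
set_option linter.unusedSectionVars false
set_option linter.style.haveILetI false

namespace Cfsg.Agent.Lib.Dade

open Cfsg Cfsg.Agent.Lib.Blocks.Local Cfsg.Agent.Lib.Blocks.Central Cfsg.Agent.Lib.Blocks.Osima
open Cfsg.Agent.Lib.Blocks.Pairs Cfsg.Agent.Lib.Blocks.AbelianCount

universe u

section Main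

variable {G : Type u} [Group G] [Fintype G] {p : ℕ} [hp : Fact p.Prime] {M : Ideal AlgInt}

/-- **Dade's theorem on blocks with cyclic defect groups.** -/
theorem cyclic_main (hMp : IsPModular p M) {D : Subgroup G} (hD : IsCyclic D) {a : ℕ} (ha : 1 ≤ a)
    (hDa : Nat.card D = p ^ a) {B : Set (IrrCharacter G)} (hB : IsPBlock M B) (hBD : IsDefectGroup p M B D)
    {b : Set (IrrCharacter (Subgroup.centralizer (D : Set G)))}
    (hind : IsInducedBlock M (Subgroup.centralizer (D : Set G)) b B) {T : Subgroup G}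
    (hT : ∀ g : G, g ∈ T ↔ g ∈ Subgroup.normalizer (D : Set G) ∧ StabilizesBlock (Subgroup.centralizer (D : Set G)) b g)
    {e : ℕ} (he : (Subgroup.centralizer (D : Set G)).relIndex T = e) :
    e ∣ p - 1 ∧ blockRank p B = e ∧ (∀ χ ∈ B, blockHeight p B (χ : G → ℂ) = 0) ∧
    ∃ (r₀ : ℕ) (X Y : Finset (IrrCharacter G)), r₀ * e = p ^ a - 1 ∧ (∀ χ, χ ∈ B ↔ χ ∈ X ∨ χ ∈ Y) ∧ Disjoint X Y ∧
      X.card = e ∧ Y.card = r₀ ∧
      (∀ ψ ∈ Y, ∀ ψ' ∈ Y, ∀ g : G, ¬ p ∣ orderOf g → (ψ : G → ℂ) g = (ψ' : G → ℂ) g) ∧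
      ∃ (δ : IrrCharacter G → ℤ) (δ₀ : ℤ), (∀ χ ∈ X, δ χ = 1 ∨ δ χ = -1) ∧ (δ₀ = 1 ∨ δ₀ = -1) ∧
        (∀ ψ ∈ Y, ∀ g : G, ¬ p ∣ orderOf g → (δ₀ : ℂ) * (ψ : G → ℂ) g + ∑ χ ∈ X, (δ χ : ℂ) * (χ : G → ℂ) g = 0) ∧
        (∀ χ ∈ X, ∀ χ' ∈ X, δ χ * (charDegree (χ : G → ℂ) : ℤ) ≡ δ χ' * (charDegree (χ' : G → ℂ) : ℤ) [ZMOD (p : ℤ) ^ a]) ∧
        (∀ ψ ∈ Y, ∀ χ ∈ X, (charDegree (ψ : G → ℂ) : ℤ) ≡ -((e : ℤ) * δ₀ * δ χ * (charDegree (χ : G → ℂ) : ℤ)) [ZMOD (p : ℤ) ^ a]) := by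
  classical
  haveI : M.IsPrime := hMp.2.1.isPrime
  have hpp : p.Prime := hp.out
  have hDp : IsPGroup p D := IsPGroup.of_card hDa
  have hab : ∀ x ∈ D, ∀ y ∈ D, x * y = y * x := by
    intro x hx y hy
    haveI : IsMulCommutative D := IsCyclic.isMulCommutative
    have : (⟨x, hx⟩ : D) * ⟨y, hy⟩ = ⟨y, hy⟩ * ⟨x, hx⟩ := IsMulCommutative.is_comm.comm _ _
    exact congrArg Subtype.val this
  have hP1 : D ≠ ⊥ := by
    intro h
    rw [h, Subgroup.card_bot] at hDa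
    have : 1 < p ^ a := Nat.one_lt_pow (by omega) hpp.one_lt
    omega
  obtain ⟨h1, h2, h3, h4, h5⟩ := stabilizer_facts hT
  haveI hnT : ((Subgroup.centralizer (D : Set G)).subgroupOf T).Normal :=
    (Subgroup.normal_subgroupOf_iff_le_normalizer h2).mpr h4
  obtain ⟨hcycq, hep1, hfree⟩ := Cfsg.Agent.S4633.result p M hMp B hB D hBD hP1 hD b hind T hT
  rw [he] at hep1
  have he0 : 0 < e := by
    rw [← he]
    exact Nat.pos_of_ne_zero (Subgroup.index_ne_zero_of_finite (H := (Subgroup.centralizer (D : Set G)).subgroupOf T))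
  have hep : e < p := by
    have h6 := Nat.le_of_dvd (by have := hpp.two_le; omega) hep1
    have := hpp.two_le
    omega
  have hpe : ¬ p ∣ e := Nat.not_dvd_of_pos_of_lt he0 hep
  have heq : e ∣ p ^ a - 1 := by
    refine hep1.trans ?_
    simpa using Nat.sub_dvd_pow_sub_pow p 1 a
  have hbp := isBrauerPairOf_of_induced hDp hind
  have hmax := isMaximal_of_isDefectGroup hMp hbp hBD
  obtain ⟨u₀, hu₀D, hu₀, hox⟩ := exists_gen_cyclic hD ha hDa
  set x := u₀ ^ p ^ (a - 1) with hxdef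
  have hxD : x ∈ D := D.pow_mem hu₀D _
  have hx1 : x ≠ 1 := by
    intro h
    rw [h, orderOf_one] at hox
    exact hpp.one_lt.ne hox
  have hQD : Subgroup.zpowers x ≤ D := Subgroup.zpowers_le.mpr hxD
  have hPK : D ≤ Subgroup.centralizer ((Subgroup.zpowers x : Subgroup G) : Set G) := fun u hu =>
    Subgroup.mem_centralizer_iff.mpr fun q hq => hab q (hQD hq) u hu
  obtain ⟨f, hfn, -⟩ := existsUnique_normal_subpair hMp hmax.1.1 hQD
    (hPK.trans (Cfsg.Agent.Lib.Blocks.FirstMain.centralizer_le_normalizer' _))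
  have hf : IsPBlock M f := hfn.1.2
  have hle : SubpairLE p M (Subgroup.zpowers x) f D b := Relation.ReflTransGen.single hfn
  have hQp : IsPGroup p (Subgroup.zpowers x) := by
    rw [IsPGroup.iff_card, Nat.card_zpowers, hox]
    exact ⟨1, (pow_one p).symm⟩
  have hfB := (isBrauerPairOf_iff_of_subpairLE hMp ⟨hQp, hf⟩ hle).mp hmax.1
  have hindf : IsInducedBlock M (CZ x) f B := isInducedBlock_of_brauerPair hMp hfB
  set T₁ : Subgroup G := Subgroup.normalizer ((Subgroup.zpowers x : Subgroup G) : Set G) ⊓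
    blockStabilizer (CZ x) f with hT₁def
  have hTQ : ∀ g : G, g ∈ T₁ ↔ g ∈ Subgroup.normalizer ((Subgroup.zpowers x : Subgroup G) : Set G) ∧
      StabilizesBlock (CZ x) f g := fun g => Iff.rfl
  obtain ⟨hfac, -⟩ := abelian_factorization hMp hmax hab hQD hf hle hTQ hT
  obtain ⟨t, htT, m, htm, hpm, hteN, hgen⟩ := exists_pprime_generator (p := p) h2 hcycq he hpe
  have htN := h3 htT
  have htx : t * x * t⁻¹ ∈ Subgroup.zpowers x := by
    have h6 : t * x * t⁻¹ ∈ D := (Subgroup.mem_normalizer_iff.mp htN x).mp hxD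
    exact mem_zpowers_of_mem_zpowers hox ((orderOf_conj'' t x).trans hox) (hu₀ x hxD) (hu₀ _ h6)
  have htT₁ : t ∈ T₁ := by
    have h6 := mem_normalizer_zpowers hox htx
    exact (hTQ t).mpr ⟨h6, stabilizesBlock_of_subpair hMp hmax.1.1 hle h6 htN (h5 t htT)⟩
  have hCN : Subgroup.centralizer (D : Set G) ≤ CZ x := Subgroup.centralizer_le hQD
  have hte : ∀ i : ℕ, t ^ i ∈ CZ x ↔ e ∣ i := by
    intro i
    constructor
    · intro h6
      rw [mem_CZ_iff] at h6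
      rw [← hteN]
      refine hfree _ (T.pow_mem htT i) x hxD hx1 ?_
      rw [h6]
      group
    · intro h6
      exact hCN ((hteN i).mpr h6)
  have hTt : ∀ g ∈ T₁, ∃ i : ℕ, ∃ c ∈ CZ x, g = t ^ i * c := by
    intro g hg
    obtain ⟨y, hy, c, hc, rfl⟩ := hfac g hg
    obtain ⟨i, c', hc', rfl⟩ := hgen y hy
    exact ⟨i, c' * c, (CZ x).mul_mem (hCN hc') hc, by group⟩
  letI : Fintype (CZ x) := Fintype.ofFinite _
  have hD' := isDefectGroup_of_abelian hMp hmax hab hQD hf hle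
  have hcardD' : Nat.card (D.subgroupOf (CZ x)) = Nat.card D := Nat.card_congr (Subgroup.subgroupOfEquivOfLe hPK).toEquiv
  have hcyc' : IsCyclic (D.subgroupOf (CZ x)) :=
    isCyclic_of_surjective (Subgroup.subgroupOfEquivOfLe hPK).symm (Subgroup.subgroupOfEquivOfLe hPK).symm.surjective
  have hxC : x ∈ CZ x := mem_CZ_iff.mpr rfl
  have hxD' : (⟨x, hxC⟩ : CZ x) ∈ D.subgroupOf (CZ x) := Subgroup.mem_subgroupOf.mpr hxD
  have L := loc_of_data hMp hTQ hf hox hindf htT₁ hTt hte htm hpm he0 hep hD' hcyc' hxC hxD' (p ^ a)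
  have hl : blockRank p f = 1 := rank_of_free hMp hBD hab hDp hind hT hfree hxD hx1 hfn
  obtain ⟨n, hn⟩ := Cfsg.Agent.Lib.Blocks.RepFin.exists_degree_eq_of_cyclic hMp hf hl hD' hcyc'
  have hcard : (Finset.univ.filter (· ∈ f)).card = p ^ a := by
    rw [Cfsg.Agent.S4649.card_eq_of_degree_eq hMp hf hl hn hD', ← Cfsg.Agent.S0908.result p M hMp f hf _ hD', hcardD', hDa]
  have hst : StabilizesBlock (CZ x) f t := ((hTQ t).mp htT₁).2
  obtain ⟨n', ι, w, u, v, τ, s, P, w', τ', K⟩ := exists_Pk L ha hf hl hD' hcyc' hcard hxC hst htx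
  have hox' : orderOf (⟨x, hxC⟩ : CZ x) = p := by
    rw [Subgroup.orderOf_mk, hox]
  have hxc : ∀ h : CZ x, h * (⟨x, hxC⟩ : CZ x) = ⟨x, hxC⟩ * h := fun h => Subtype.ext (mem_CZ_iff.mp h.2)
  have hTI : ∀ ψ ∈ f, ∀ ψ' ∈ f, ∀ c : CZ x, (ψ : CZ x → ℂ) c ≠ (ψ' : CZ x → ℂ) c → x ∈ Subgroup.zpowers (c : G) := by
    intro ψ hψ ψ' hψ' c hne
    have h6 := ti_of_cyclic hMp hf hD' hcyc' hxD' hox' hxc (reg_eq_of_degree_eq hMp hf hD' hl hn) ψ hψ ψ' hψ' c hne
    obtain ⟨i, hi⟩ := Subgroup.mem_zpowers_iff.mp h6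
    have h7 := congrArg Subtype.val hi
    refine Subgroup.mem_zpowers_iff.mpr ⟨i, ?_⟩
    simpa using h7
  obtain ⟨R, hRc, hcnt⟩ := count_final hMp hB hBD hab hDp hmax hind hT hfree htT he0 hteN hgen
  rw [hDa] at hRc
  have hdef : blockDefect p B = a := by
    have h6 := Cfsg.Agent.S0908.result p M hMp B hB D hBD
    rw [hDa] at h6
    exact (Nat.pow_right_injective hpp.two_le h6).symm
  obtain ⟨h7, h8, X, Y, h9, h10, h11, h12, h13, h14⟩ := final_of_local L K hB htx hTI heq hRc hcnt ha hdef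
  exact ⟨hep1, h7, h8, R.card, X, Y, hRc, h9, h10, h11, h12, h13, h14⟩

end Main

end Cfsg.Agent.Lib.Dade
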